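import Cfsg.Agent.OddOrder.BG13.TauOneFixed
import Cfsg.Agent.S1415
import Cfsg.Agent.S1423
import Cfsg.Agent.S1424
import Cfsg.Agent.S1426

/-!
The inputs of §13 hold in every minimal simple group of odd order.
-/

set_option autoImplicit false

universe u

namespace Cfsg.Agent.OddOrder.BG13

open Subgroup

variable {G : Type u} [Group G] [Finite G]

/-- The inputs of BG 13.1 - 13.4. -/
theorem hypCore (hG : Cfsg.IsMinSimpleOddOrder G) : HypCore G where
  s10 := BG11.section10 hG
  tau13_structure := fun M hM E hE => S1415.result hG M hM E hE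
  sigma_element := fun M hM p _ hp X hX hc P h => S1423.result hG M hM p hp X hX hc P h
  sigma_embedding := fun M hM q _ hq X hXq hX1 hXM L hL hne hN S hXS =>
    S1424.result hG M hM q hq X hXq hX1 hXM L hL hne hN S hXS
  compl_fixed_le := fun M hM E hE => (S1426.result hG M hM E hE).1

/-- The inputs of §13. -/
theorem hyp (hG : Cfsg.IsMinSimpleOddOrder G) : Hyp G where
  toHypCore := hypCore hG
  tau1_fixed_le := by
    intro M hM E hE p hp P hPE hP R hRE hR
    haveI := Fact.mk hp.1
    haveI := Fact.mk hR
    exact le_inf inf_le_left ((hypCore hG).tau1_fixed_le hM hE hp hPE hP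
      (le_inf_iff.mp hRE).1 rfl (le_inf_iff.mp hRE).2)

end Cfsg.Agent.OddOrder.BG13
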