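import Cfsg.Agent.OddOrder.BG13.TauTwo

/-!
# The results of BG §13
-/

set_option autoImplicit false

universe u

namespace Cfsg.Agent.OddOrder.BG13

open Subgroup H40 BG11

variable {G : Type u} [Group G] [Finite G]

/-- §13 gives its results from the inputs of §10 and §12. -/
theorem Hyp.results (F : Hyp G) : Results G where
  sigma_disjoint _ _ hM hH h := F.sigma_disjoint hM hH h
  normalizer_tau13 M hM p hp X hXM hX := by
    haveI : Fact p.Prime := ⟨hp.elim (fun h => h.1) fun h => h.1⟩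
    refine ⟨(F.normalizer_tau13_basic hM hp hXM hX).1, fun H hH hN => ?_⟩
    obtain ⟨h1, h2, h3⟩ := F.normalizer_tau13' hM hp hXM hX hH hN
    exact ⟨h1, h2, fun h => (h3 h).1⟩
  fixed_element M hM p hp X hXM hX z hz hzX hzp := by
    haveI : Fact p.Prime := ⟨hp.elim (fun h => h.1) fun h => h.1⟩
    haveI := Fact.mk hzp
    obtain ⟨h1, h2⟩ := F.fixed_element hM hp hXM hX hz hzX hzp
    exact ⟨h1, fun S => h2 _ (isSylowOf_map S)⟩
  tau3_structure M hM E hE p hp P hPE hP hC := by
    haveI : Fact p.Prime := ⟨hp.1⟩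
    exact F.tau3_structure hM hE hp hPE hP hC
  tau1_semiprime _ hM _ hE _ hE₁ _ hx hx1 := F.tau1_semiprime hM hE hE₁ hx hx1
  tau1_centralizes M hM E hE r hr R hRE hR hC s hs Y hYE hY hYR := by
    haveI : Fact r.Prime := ⟨hr.1⟩
    haveI : Fact s.Prime := ⟨hs.elim (fun h => h.1) fun h => h.1⟩
    rcases hs with h | h
    · exact (F.not_tau2_of_commute hM hE hr hRE hR hC h hYE hY hYR).elim
    · exact ⟨h, F.fixed_eq_of_commute hM hE h hr hYE hY hRE hR hYR⟩
  tau2_line M hM p hp A hAM hA hA2 z hz hzp hqp hX := by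
    haveI : Fact p.Prime := ⟨hp.1⟩
    exact F.tau2_line hM hp hAM hA hA2 hz hzp hqp hX
  embedding_tau2 M hM q hq X hXq hX hXM N hN hne hNX := by
    haveI : Fact q.Prime := ⟨hq.1⟩
    exact F.embedding_tau2 hM hq hXq hX hXM hN hne hNX

end Cfsg.Agent.OddOrder.BG13
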