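import Cfsg.Agent.OddOrder.BG11.MaxElem
import Cfsg.Agent.OddOrder.BG11.FpfNilpotent
import Cfsg.Agent.OddOrder.BG4.RankTwo
import Cfsg.Agent.Coprime.Action
import Cfsg.Agent.Coprime.Abelian
import Cfsg.Agent.Coprime.Centralize
import Cfsg.Agent.S1545

/-!
# Group-theoretic lemmas on coprime action for BG §13-14

A subgroup `K = [K, R]` which centralizes the fixed points of `R` centralizes everything; the fixed
points of two complements of a Frobenius group; the action of an odd group on an elementary abelian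
group of order `p ^ 2`.
-/

set_option autoImplicit false

universe u

namespace Cfsg.Agent.OddOrder.BG13

open Subgroup
open scoped commutatorElement IsMulCommutative

variable {G : Type u} [Group G] [Finite G]

theorem card_sup_dvd {K R : Subgroup G} (h : R ≤ normalizer (K : Set G)) :
    Nat.card ↥(K ⊔ R) ∣ Nat.card K * Nat.card R := by
  set W := K ⊔ R
  haveI : (K.subgroupOf W).Normal :=
    normal_subgroupOf_of_le_normalizer (sup_le le_normalizer h)
  have hK : Nat.card (K.subgroupOf W) = Nat.card K :=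
    Nat.card_congr (subgroupOfEquivOfLe le_sup_left).toEquiv
  have hR : Nat.card (R.subgroupOf W) = Nat.card R :=
    Nat.card_congr (subgroupOfEquivOfLe le_sup_right).toEquiv
  have htop : K.subgroupOf W ⊔ R.subgroupOf W = ⊤ := by
    rw [← subgroupOf_sup le_sup_left le_sup_right, subgroupOf_self]
  have h1 : (K.subgroupOf W).index ∣ Nat.card (R.subgroupOf W) := by
    rw [← relIndex_top_right, ← htop, relIndex_sup_left]
    exact relIndex_dvd_card _ _
  rw [← (K.subgroupOf W).card_mul_index, hK]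
  exact Nat.mul_dvd_mul_left _ (hR ▸ h1)

theorem coprime_sup {K R V : Subgroup G} (h : R ≤ normalizer (K : Set G))
    (hK : (Nat.card K).Coprime (Nat.card V)) (hR : (Nat.card R).Coprime (Nat.card V)) :
    (Nat.card ↥(K ⊔ R)).Coprime (Nat.card V) :=
  (hK.mul_left hR).coprime_dvd_left (card_sup_dvd h)

omit [Finite G] in
theorem le_normalizer_commutator {X K V : Subgroup G} (hK : X ≤ normalizer (K : Set G))
    (hV : X ≤ normalizer (V : Set G)) : X ≤ normalizer ((⁅V, K⁆ : Subgroup G) : Set G) :=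
  fun x hx => H40.cj_eq_iff.mp (by
    rw [show H40.cj x ⁅V, K⁆ = ⁅H40.cj x V, H40.cj x K⁆ from map_commutator V K _,
      H40.cj_eq_iff.mpr (hV hx), H40.cj_eq_iff.mpr (hK hx)])

/-- The action data `K = [K, R]`, `R` of prime order, both normalising the group acted upon. -/
structure Acts (V K R : Subgroup G) : Prop where
  prime : (Nat.card R).Prime
  normR : R ≤ normalizer (V : Set G)
  normK : K ≤ normalizer (V : Set G)
  normKR : R ≤ normalizer (K : Set G)
  comm : ⁅K, R⁆ = K
  copK : (Nat.card K).Coprime (Nat.card V)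
  copR : (Nat.card R).Coprime (Nat.card V)
  copKR : (Nat.card K).Coprime (Nat.card R)
  odd : Odd (Nat.card K)

/-- Fixed point free case. -/
theorem Acts.le_centralizer_of_fpf {V K R : Subgroup G} (h : Acts V K R)
    (hV : Group.IsNilpotent V) (hfix : V ⊓ centralizer (R : Set G) = ⊥) :
    K ≤ centralizer (V : Set G) := by
  haveI := Fact.mk h.prime
  conv_lhs => rw [← h.comm, commutator_comm]
  exact BG11.commutator_le_centralizer_of_fpf' hV rfl h.normR
    (h.prime.coprime_iff_not_dvd.mp h.copR) hfix h.normK h.normKR h.copK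
    (h.prime.coprime_iff_not_dvd.mp h.copKR.symm) h.odd

/-- Abelian case: `C_V(R) ≤ C(K)` forces `K ≤ C(V)`. -/
theorem Acts.le_centralizer_of_abelian {V K R : Subgroup G} (h : Acts V K R)
    [IsMulCommutative V] (hfix : V ⊓ centralizer (R : Set G) ≤ centralizer (K : Set G)) :
    K ≤ centralizer (V : Set G) := by
  obtain ⟨hd, hs⟩ := Coprime.abelian_decomposition h.normK h.copK
  have hle : ⁅V, K⁆ ≤ V := Coprime.commutator_le_left_of_normalizer h.normK
  have hcK : (Nat.card K).Coprime (Nat.card ↥⁅V, K⁆) := h.copK.coprime_dvd_right (card_dvd_of_le hle)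
  have hA : Acts ⁅V, K⁆ K R := ⟨h.prime, le_normalizer_commutator h.normKR h.normR,
    le_normalizer_commutator le_normalizer h.normK, h.normKR, h.comm, hcK,
    h.copR.coprime_dvd_right (card_dvd_of_le hle), h.copKR, h.odd⟩
  haveI : Group.IsNilpotent V := inferInstance
  have hnil : Group.IsNilpotent ↥⁅V, K⁆ := Hall.isNilpotent_of_le hle inferInstance
  have h1 : K ≤ centralizer ((⁅V, K⁆ : Subgroup G) : Set G) := by
    refine hA.le_centralizer_of_fpf hnil (le_bot_iff.mp fun x hx => ?_)
    rw [← hd]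
    exact ⟨⟨hle hx.1, hfix ⟨hle hx.1, hx.2⟩⟩, hx.1⟩
  rw [le_centralizer_iff]
  intro v hv
  rw [← hs] at hv
  exact sup_le inf_le_right (le_centralizer_iff.mp h1) hv

/-- `p`-group case. -/
theorem Acts.le_centralizer_of_pGroup {V K R : Subgroup G} (h : Acts V K R) {p : ℕ} [Fact p.Prime]
    (hV : IsPGroup p V) (hfix : V ⊓ centralizer (R : Set G) ≤ centralizer (K : Set G)) :
    K ≤ centralizer (V : Set G) := by
  set N := (frattini V).map V.subtype with hN
  have hVN : V ≤ normalizer (N : Set G) := Components.le_normalizer_map_subtype _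
  have hgen : ∀ {X : Subgroup G}, X ≤ normalizer (V : Set G) → X ≤ normalizer (N : Set G) :=
    fun hX => Components.le_normalizer_map_characteristic _ hX
  have hRN := hgen h.normR
  have hKN := hgen h.normK
  have hNV : N ≤ V := map_subtype_le _
  have hcF : (Nat.card K).Coprime (Nat.card (frattini V)) :=
    h.copK.coprime_dvd_right (card_subgroup_dvd_card _)
  refine Coprime.le_centralizer_of_frattini h.normK hcF fun k hk v hv => ?_
  -- pass to `N(N) / N`
  set X := normalizer (N : Set G)
  haveI : (N.subgroupOf X).Normal := normal_subgroupOf_of_le_normalizer le_rfl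
  set f := QuotientGroup.mk' (N.subgroupOf X)
  let bar : Subgroup G → Subgroup (↥X ⧸ N.subgroupOf X) := fun Y => (Y.subgroupOf X).map f
  have hmem : ∀ {Y : Subgroup G} {y : X}, (y : G) ∈ Y → f y ∈ bar Y :=
    fun {Y y} hy => mem_map_of_mem _ (show y ∈ Y.subgroupOf X from hy)
  have hcard : ∀ {Y : Subgroup G}, Y ≤ X → Nat.card (bar Y) ∣ Nat.card Y := fun {Y} hY =>
    (Subgroup.card_map_dvd _ _).trans
      (Nat.card_congr (subgroupOfEquivOfLe hY).toEquiv).dvd
  have hnorm : ∀ {Y Z : Subgroup G}, Y ≤ normalizer (Z : Set G) →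
      bar Y ≤ normalizer (bar Z : Set (↥X ⧸ N.subgroupOf X)) := by
    intro Y Z hYZ
    rw [le_normalizer_iff]
    rintro _ ⟨y, hy, rfl⟩ _ ⟨z, hz, rfl⟩
    rw [← map_inv, ← map_mul, ← map_mul]
    exact hmem ((mem_normalizer_iff.mp (hYZ hy) z).mp hz)
  have hcomm : IsMulCommutative (bar V) := by
    refine ⟨⟨fun a b => Subtype.ext ?_⟩⟩
    obtain ⟨x, hx, hxe⟩ := a.2
    obtain ⟨y, hy, hye⟩ := b.2
    show (a : ↥X ⧸ N.subgroupOf X) * b = b * a
    rw [← hxe, ← hye, ← map_mul, ← map_mul]
    refine QuotientGroup.eq.mpr ?_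
    show ((x : G) * y)⁻¹ * (y * x) ∈ N
    refine ⟨(⟨x, hx⟩ * ⟨y, hy⟩ : V)⁻¹ * (⟨y, hy⟩ * ⟨x, hx⟩), ?_, rfl⟩
    have hle : commutator V ≤ frattini V := PGroups.commutator_le_frattini hV
    refine hle ?_
    rw [_root_.commutator_def]
    have h1 := commutator_mem_commutator (mem_top (⟨y, hy⟩⁻¹ : V)) (mem_top (⟨x, hx⟩⁻¹ : V))
    simpa [commutatorElement_def, mul_assoc] using h1
  haveI := hcomm
  have hA : Acts (bar V) (bar K) (bar R) := by
    have hRbar : Nat.card (bar R) = Nat.card R := by
      have hd : R.subgroupOf X ⊓ N.subgroupOf X = ⊥ := by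
        have h0 : R ⊓ N = ⊥ := le_bot_iff.mp fun x hx => by
          rw [← Coprime.inf_eq_bot h.copR]
          exact ⟨hx.1, hNV hx.2⟩
        exact le_bot_iff.mp fun x hx => Subtype.ext (mem_bot.mp (h0.le ⟨hx.1, hx.2⟩))
      rw [← Nat.card_congr (subgroupOfEquivOfLe hRN).toEquiv]
      exact Hall.card_map_mk'_eq _ _ ((inf_comm _ _).trans hd)
    refine ⟨hRbar ▸ h.prime, hnorm h.normR, hnorm h.normK, hnorm h.normKR, ?_,
      (h.copK.coprime_dvd_left (hcard hKN)).coprime_dvd_right (hcard hVN),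
      (h.copR.coprime_dvd_left (hcard hRN)).coprime_dvd_right (hcard hVN),
      (h.copKR.coprime_dvd_left (hcard hKN)).coprime_dvd_right (hcard hRN),
      h.odd.of_dvd_nat (hcard hKN)⟩
    show ⁅(K.subgroupOf X).map f, (R.subgroupOf X).map f⁆ = _
    rw [← map_commutator]
    refine congrArg (Subgroup.map f) (map_injective X.subtype_injective ?_)
    rw [map_commutator, map_subgroupOf_eq_of_le hKN, map_subgroupOf_eq_of_le hRN, h.comm]
  have key := hA.le_centralizer_of_abelian (by
    rintro _ ⟨⟨v', hv', rfl⟩, hc⟩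
    obtain ⟨c, hc', hcn⟩ := Coprime.exists_centralizer_mem_of_comm_mem h.normR h.copR
      (Or.inl (haveI := Fact.mk h.prime; haveI := isCyclic_of_prime_card (α := R) rfl
               inferInstance)) hNV hVN hRN hv' (fun a ha => by
        have h1 := mem_centralizer_iff.mp hc _ (hmem (y := ⟨a, hRN ha⟩) ha)
        rw [← map_mul, ← map_mul] at h1
        have h2 := QuotientGroup.eq.mp h1.symm
        have h3 : (v' : G) * ((v' : G) * a)⁻¹ * ((a : G) * v') * ((v' : G))⁻¹ ∈ N := by
          have h4 := Coprime.conj_mem (hVN hv') (show ((v' : G) * a)⁻¹ * ((a : G) * v') ∈ N from h2)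
          simpa [mul_assoc] using h4
        have h5 := Coprime.conj_mem (hRN ha) h3
        simpa [mul_assoc] using h5)
    have heq : f v' = f ⟨c, hVN hc'.1⟩ := QuotientGroup.eq.mpr hcn
    rw [SetLike.mem_coe] at *
    rw [heq]
    refine mem_centralizer_iff.mpr ?_
    rintro _ ⟨k', hk', rfl⟩
    rw [← map_mul, ← map_mul]
    exact congrArg f (Subtype.ext (mem_centralizer_iff.mp (hfix hc') k' hk')))
  have h1 := mem_centralizer_iff.mp (key (hmem (y := ⟨k, hKN hk⟩) hk)) _
    (hmem (y := ⟨v, hVN hv⟩) hv)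
  rw [← map_mul, ← map_mul] at h1
  have hfe : ∀ x y : X, f x = f y → x⁻¹ * y ∈ N.subgroupOf X := fun x y e =>
    (QuotientGroup.eq (s := N.subgroupOf X)).mp e
  have h2 : (v * k)⁻¹ * (k * v) ∈ N := hfe _ _ h1
  have h3 := Coprime.conj_mem (X.mul_mem (hVN hv) (hKN hk)) h2
  show k * v * k⁻¹ * v⁻¹ ∈ N
  convert h3 using 1
  group

/-- Solvable case. -/
theorem Acts.le_centralizer {V K R : Subgroup G} (h : Acts V K R) (hs : Group.IsSolvable V)
    (hfix : V ⊓ centralizer (R : Set G) ≤ centralizer (K : Set G)) :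
    K ≤ centralizer (V : Set G) := by
  have hB : K ⊔ R ≤ normalizer (V : Set G) := sup_le h.normK h.normR
  have hcB := coprime_sup h.normKR h.copK h.copR
  suffices hV : V ≤ V ⊓ centralizer (K : Set G) from le_centralizer_iff.mp (hV.trans inf_le_right)
  refine relIndex_eq_one.mp ?_
  by_contra hne
  obtain ⟨s, hs', hsd⟩ := Nat.exists_prime_and_dvd hne
  haveI := Fact.mk hs'
  obtain ⟨P, hP⟩ := Coprime.exists_invariant_sylow hB hcB (Or.inr hs) s
  set W := (P : Subgroup V).map V.subtype
  have hWV : W ≤ V := map_subtype_le _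
  have hA : Acts W K R := ⟨h.prime, le_sup_right.trans hP, le_sup_left.trans hP, h.normKR, h.comm,
    h.copK.coprime_dvd_right (card_dvd_of_le hWV), h.copR.coprime_dvd_right (card_dvd_of_le hWV),
    h.copKR, h.odd⟩
  have hW : W ≤ V ⊓ centralizer (K : Set G) :=
    le_inf hWV (le_centralizer_iff.mp (hA.le_centralizer_of_pGroup (P.isPGroup'.map _)
      ((inf_le_inf_right _ hWV).trans hfix)))
  refine P.not_dvd_index ?_
  have h1 : W.relIndex V = (P : Subgroup V).index := by
    rw [relIndex, subgroupOf, comap_map_eq_self_of_injective V.subtype_injective]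
  rw [← h1]
  exact hsd.trans (Dvd.intro_left _ (relIndex_mul_relIndex W _ V hW inf_le_left))

/-- A `p`-group in which the fixed points of `R` are cyclic, with elements of order `p` centralized
by `K`, is centralized by `K`. -/
theorem Acts.le_centralizer_of_cyclic {V K R : Subgroup G} (h : Acts V K R) {p : ℕ} [Fact p.Prime]
    (hp2 : p ≠ 2) (hV : IsPGroup p V)
    (hfix : ∀ x ∈ V, x ∈ centralizer (R : Set G) → x ^ p = 1 → x ∈ centralizer (K : Set G)) :
    K ≤ centralizer (V : Set G) := by
  obtain ⟨C, hC, hexp, hfaith⟩ := BG4.exists_char_exponent_subgroup hp2 hV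
  haveI := hC
  set D := C.map V.subtype
  have hDV : D ≤ V := map_subtype_le _
  have hA : Acts D K R := ⟨h.prime, Components.le_normalizer_map_characteristic _ h.normR,
    Components.le_normalizer_map_characteristic _ h.normK, h.normKR, h.comm,
    h.copK.coprime_dvd_right (card_dvd_of_le hDV), h.copR.coprime_dvd_right (card_dvd_of_le hDV),
    h.copKR, h.odd⟩
  have hD : K ≤ centralizer (D : Set G) := by
    refine hA.le_centralizer_of_pGroup ((hV.to_subgroup C).map _) fun x hx => ?_
    refine hfix x (hDV hx.1) hx.2 ?_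
    obtain ⟨c, hc, rfl⟩ := hx.1
    exact (map_pow V.subtype c p).symm.trans (by rw [hexp c hc, map_one])
  rcases eq_or_ne V ⊥ with rfl | hV0
  · exact fun k _ => mem_centralizer_iff.mpr fun v hv => by
      rw [mem_bot.mp hv, one_mul, mul_one]
  intro k hk
  have hpV : p ∣ Nat.card V := by
    obtain ⟨n, hn⟩ := IsPGroup.iff_card.mp hV
    rcases n with _ | n
    · exact absurd (card_eq_one.mp (hn.trans (pow_zero p))) hV0
    · exact hn ▸ dvd_pow_self p n.succ_ne_zero
  have ha := hfaith (V.normalizerMonoidHom ⟨k, h.normK hk⟩)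
    ((h.copK.coprime_dvd_left ((orderOf_map_dvd V.normalizerMonoidHom _).trans
      (by rw [Subgroup.orderOf_mk]; exact K.orderOf_dvd_natCard hk))).coprime_dvd_right hpV)
    fun x hx => Subtype.ext ?_
  · refine mem_centralizer_iff.mpr fun v hv => ?_
    have h1 := congrArg (fun a : MulAut V => ((a ⟨v, hv⟩ : V) : G)) ha
    exact (mul_inv_eq_iff_eq_mul.mp (by simpa using h1)).symm
  · have h1 := mem_centralizer_iff.mp (hD hk) x ⟨x, hx, rfl⟩
    simp only [normalizerMonoidHom_apply_apply_coe]
    rw [← h1]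
    simp [mul_assoc]

/-- Two commuting Frobenius complements with the same fixed points have equal order. -/
theorem eq_of_common_fixed {W K R R' : Subgroup G} (hs : Group.IsSolvable W) (hK : K ≠ ⊥)
    (hR : (Nat.card R).Prime) (hR' : (Nat.card R').Prime)
    (hWR : R ≤ normalizer (W : Set G)) (hWR' : R' ≤ normalizer (W : Set G))
    (hWK : K ≤ normalizer (W : Set G)) (hKR : R ≤ normalizer (K : Set G))
    (hKR' : R' ≤ normalizer (K : Set G))
    (hf : K ⊓ centralizer (R : Set G) = ⊥) (hf' : K ⊓ centralizer (R' : Set G) = ⊥)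
    (hcK : (Nat.card K).Coprime (Nat.card W)) (hcR : (Nat.card R).Coprime (Nat.card W))
    (hcR' : (Nat.card R').Coprime (Nat.card W))
    (heq : W ⊓ centralizer (R : Set G) = W ⊓ centralizer (R' : Set G))
    (hnc : ¬ K ≤ centralizer (W : Set G)) : Nat.card R = Nat.card R' := by
  have main : ∀ Y : Subgroup G, (Nat.card Y).Prime → Y ≤ normalizer (W : Set G) →
      Y ≤ normalizer (K : Set G) → K ⊓ centralizer (Y : Set G) = ⊥ →
      (Nat.card Y).Coprime (Nat.card W) →
      Nat.card ↥(W ⊓ centralizer (K : Set G) ⊓ centralizer (Y : Set G)) ^ Nat.card Y * Nat.card W =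
        Nat.card ↥(W ⊓ centralizer (Y : Set G)) ^ Nat.card Y *
          Nat.card ↥(W ⊓ centralizer (K : Set G)) := by
    intro Y hY hWY hKY hfY hcY
    have hfpf : ∀ e ∈ Y, e ≠ 1 → ∀ u ∈ K, e * u = u * e → u = 1 := by
      intro e he he1 u hu hc
      rw [← mem_bot, ← hfY]
      refine ⟨hu, mem_centralizer_iff.mpr fun y hy => ?_⟩
      haveI := Fact.mk hY
      obtain ⟨i, hi⟩ := mem_zpowers_iff.mp
        ((zpowers_eq_top_of_prime_card (G := Y) rfl (g := ⟨e, he⟩) fun h => he1
          (congrArg Subtype.val h)).ge (mem_top ⟨y, hy⟩))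
      have hi' : e ^ i = y := congrArg Subtype.val hi
      rw [← hi']
      exact (Commute.zpow_left hc i).eq
    have hdisj : K ⊓ Y = ⊥ := by
      rw [← le_bot_iff, ← hfY]
      refine inf_le_inf_left _ ?_
      haveI := Fact.mk hY
      haveI := isCyclic_of_prime_card (α := Y) rfl
      exact le_centralizer_iff_isMulCommutative.mpr inferInstance
    have hc := coprime_sup hKY hcK hcY
    have h := S1545.result K Y W hK (fun e => hY.ne_one (card_eq_one.mpr e)) hdisj
      (fun e he u hu => (mem_normalizer_iff.mp (hKY he) u).mp hu) hfpf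
      (fun x hx v hv => (mem_normalizer_iff.mp (sup_le hWK hWY hx) v).mp hv)
      (Coprime.inf_eq_bot hc.symm) hs hc.symm
    rwa [show W ⊓ centralizer ((K ⊔ Y : Subgroup G) : Set G) =
        W ⊓ centralizer (K : Set G) ⊓ centralizer (Y : Set G) by
      refine le_antisymm (le_inf (inf_le_inf_left _ (centralizer_le (SetLike.coe_subset_coe.mpr le_sup_left)))
        (inf_le_right.trans (centralizer_le (SetLike.coe_subset_coe.mpr le_sup_right)))) fun x hx => ⟨hx.1.1, ?_⟩
      have : (K ⊔ Y : Subgroup G) ≤ centralizer (zpowers x : Set G) :=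
        sup_le (le_centralizer_iff.mp (zpowers_le.mpr hx.1.2)) (le_centralizer_iff.mp (zpowers_le.mpr hx.2))
      exact le_centralizer_iff.mp this (mem_zpowers x)] at h
  have h1 := main R hR hWR hKR hf hcR
  have h2 := main R' hR' hWR' hKR' hf' hcR'
  have hcc : W ⊓ centralizer (K : Set G) ⊓ centralizer (R' : Set G) =
      W ⊓ centralizer (K : Set G) ⊓ centralizer (R : Set G) := by
    rw [inf_right_comm, ← heq, inf_right_comm]
  rw [← heq, hcc] at h2
  set a := Nat.card ↥(W ⊓ centralizer (R : Set G))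
  set c := Nat.card ↥(W ⊓ centralizer (K : Set G) ⊓ centralizer (R : Set G))
  set b := Nat.card ↥(W ⊓ centralizer (K : Set G))
  by_contra hne
  have hac : c = a := by
    by_contra hca
    have hb : 0 < b := Nat.card_pos
    have hW : 0 < Nat.card W := Nat.card_pos
    have hpos : 0 < c := Nat.card_pos
    have hapos : 0 < a := Nat.card_pos
    have e : c ^ Nat.card R * a ^ Nat.card R' = a ^ Nat.card R * c ^ Nat.card R' := by
      refine Nat.eq_of_mul_eq_mul_right (Nat.mul_pos hb hW) ?_
      calc c ^ Nat.card R * a ^ Nat.card R' * (b * Nat.card W)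
          = (c ^ Nat.card R * Nat.card W) * (a ^ Nat.card R' * b) := by ring
        _ = (a ^ Nat.card R * b) * (c ^ Nat.card R' * Nat.card W) := by rw [h1, h2]
        _ = _ := by ring
    have key : ∀ m n : ℕ, m < n → c ^ m * a ^ n = a ^ m * c ^ n → False := by
      intro m n hmn he
      obtain ⟨k, rfl⟩ := Nat.exists_eq_add_of_le hmn.le
      have hk : k ≠ 0 := by omega
      rw [pow_add, pow_add] at he
      have : a ^ k = c ^ k := by
        refine Nat.eq_of_mul_eq_mul_left (Nat.mul_pos (pow_pos hpos m) (pow_pos hapos m)) ?_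
        calc c ^ m * a ^ m * a ^ k = c ^ m * (a ^ m * a ^ k) := by ring
          _ = a ^ m * (c ^ m * c ^ k) := he
          _ = _ := by ring
      exact hca (Nat.pow_left_injective hk this).symm
    rcases lt_or_gt_of_ne hne with hlt | hlt
    · exact key _ _ hlt e
    · exact key _ _ hlt (by rw [mul_comm, ← e, mul_comm])
  rw [hac] at h1
  have hWb : Nat.card W = b := Nat.eq_of_mul_eq_mul_left (pow_pos Nat.card_pos _) h1
  exact hnc (le_centralizer_iff.mp ((eq_of_le_of_card_ge inf_le_left hWb.le).ge.trans inf_le_right))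

/-! ### elementary abelian groups of order `p ^ 2` -/

theorem pRankLE_two_of_card {p : ℕ} {A : Subgroup G} (hA2 : Nat.card A = p ^ 2) :
    Cfsg.PRankLE p 2 A :=
  fun E _ _ => (Subgroup.card_le_card_group E).trans hA2.le

/-- If `p` does not divide the order of the automorphism group induced on `A`, it is abelian. -/
theorem commutator_le_centralizer_of_sq {p : ℕ} [Fact p.Prime] (hp2 : p ≠ 2) {A N : Subgroup G}
    (hA : Cfsg.IsElementaryAbelian p A) (hA2 : Nat.card A = p ^ 2)
    (hN : N ≤ normalizer (A : Set G)) (hs : Group.IsSolvable N) (hodd : Odd (Nat.card N))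
    (hp : ¬ p ∣ (centralizer (A : Set G)).relIndex N) :
    ⁅N, N⁆ ≤ centralizer (A : Set G) := by
  intro g hg
  obtain ⟨k, hk⟩ := BG4.exists_pow_mem_centralizer_of_rank_two hp2
    (IsPGroup.of_card hA2) (pRankLE_two_of_card hA2) hN hs hodd hg
  set C := (centralizer (A : Set G)).subgroupOf N
  haveI : C.Normal := ⟨fun c hc n => by
    have h1 := Coprime.conj_mem
      (normalizer_le_normalizer_centralizer (hN n.2)) (show (c : G) ∈ centralizer (A : Set G) from hc)
    exact h1⟩
  set x : N ⧸ C := QuotientGroup.mk ⟨g, commutator_le_self N hg⟩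
  have h1 : x ^ p ^ k = 1 := by
    rw [← QuotientGroup.mk_pow, QuotientGroup.eq_one_iff]
    exact hk
  have h2 : orderOf x = 1 := Nat.eq_one_of_dvd_coprimes
    (Nat.Coprime.pow_left k ((Fact.out : p.Prime).coprime_iff_not_dvd.mpr hp))
    (orderOf_dvd_of_pow_eq_one h1) (orderOf_dvd_natCard x)
  exact (QuotientGroup.eq_one_iff (N := C) _).mp (orderOf_eq_one_iff.mp h2)
where
  normalizer_le_normalizer_centralizer {A : Subgroup G} {n : G} (hn : n ∈ normalizer (A : Set G)) :
      n ∈ normalizer ((centralizer (A : Set G) : Subgroup G) : Set G) :=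
    H40.cj_eq_iff.mp (by rw [BG11.cj_centralizer, H40.cj_eq_iff.mpr hn])

/-- If `p` divides the order of the automorphism group induced on `A`, a line is invariant. -/
theorem exists_invariant_line_of_sq {p : ℕ} [hp' : Fact p.Prime] (hp2 : p ≠ 2) {A N : Subgroup G}
    (hA : Cfsg.IsElementaryAbelian p A) (hA2 : Nat.card A = p ^ 2)
    (hN : N ≤ normalizer (A : Set G)) (hs : Group.IsSolvable N) (hodd : Odd (Nat.card N))
    (hp : p ∣ (centralizer (A : Set G)).relIndex N) :
    ∃ L : Subgroup G, L ≤ A ∧ Nat.card L = p ∧ N ≤ normalizer (L : Set G) ∧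
      ∀ Q : Subgroup G, IsPGroup p Q → Q ≤ N → Q ≤ centralizer (L : Set G) := by
  set C := centralizer (A : Set G)
  obtain ⟨S⟩ : Nonempty (Sylow p N) := inferInstance
  set Q₀ := (S : Subgroup N).map N.subtype
  have hQN : Q₀ ≤ N := map_subtype_le _
  have hQp : IsPGroup p Q₀ := S.isPGroup'.map _
  have hNC : N ≤ normalizer (C : Set G) := fun n hn =>
    commutator_le_centralizer_of_sq.normalizer_le_normalizer_centralizer (hN hn)
  set C' := C ⊓ N
  haveI hC'n : (C'.subgroupOf N).Normal := normal_subgroupOf_of_le_normalizer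
    (fun n hn => H40.cj_eq_iff.mp (by
      rw [BG11.cj_inf, H40.cj_eq_iff.mpr (hNC hn), BG11.cj_eq_of_mem hn]))
  set C₁ := C'.subgroupOf N
  set f := QuotientGroup.mk' C₁
  -- the derived subgroup of the induced group is a `p`-group, hence lies in the Sylow subgroup
  have hder : IsPGroup p ↥((commutator N).map f) := by
    rintro ⟨_, g, hg, rfl⟩
    have hg' : (g : G) ∈ ⁅N, N⁆ := by
      rw [← map_subtype_commutator]
      exact ⟨g, hg, rfl⟩
    obtain ⟨k, hk⟩ := BG4.exists_pow_mem_centralizer_of_rank_two hp2 (IsPGroup.of_card hA2)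
      (pRankLE_two_of_card hA2) hN hs hodd hg'
    refine ⟨k, Subtype.ext ?_⟩
    show f g ^ p ^ k = 1
    rw [← map_pow]
    exact (QuotientGroup.eq_one_iff _).mpr ⟨hk, (g ^ p ^ k).2⟩
  have hfs : Function.Surjective f := QuotientGroup.mk'_surjective _
  let T : Sylow p (N ⧸ C₁) := S.mapSurjective hfs
  haveI : ((commutator N).map f).Normal := Subgroup.Normal.map inferInstance f hfs
  have hTn : (T : Subgroup (N ⧸ C₁)).Normal := by
    refine ⟨fun t ht g => ?_⟩
    have hle : (commutator N).map f ≤ (T : Subgroup _) :=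
      (Cores.le_pCore hder).trans (Cores.pCore_le_sylow T)
    obtain ⟨t', rfl⟩ := hfs t
    obtain ⟨g', rfl⟩ := hfs g
    have h1 : f ⁅g', t'⁆ ∈ (T : Subgroup _) := hle (mem_map_of_mem f (by
      rw [_root_.commutator_def]; exact commutator_mem_commutator (mem_top _) (mem_top _)))
    have h2 := mul_mem h1 ht
    rw [← map_mul] at h2
    simpa [commutatorElement_def] using h2
  set L := A ⊓ centralizer (Q₀ : Set G)
  have hLA : L ≤ A := inf_le_left
  have hNL : N ≤ normalizer (L : Set G) := by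
    rw [le_normalizer_iff]
    intro n hn x hx
    refine ⟨(mem_normalizer_iff.mp (hN hn) x).mp hx.1, mem_centralizer_iff.mpr ?_⟩
    rintro _ ⟨q, hq, rfl⟩
    -- `n⁻¹ q n` lies in `Q₀` times `C`
    have h1 := hTn.conj_mem (f q) (mem_map_of_mem f hq) (f ⟨n, hn⟩⁻¹)
    rw [← map_inv, ← map_mul, ← map_mul] at h1
    obtain ⟨q', hq', he⟩ := h1
    have hc : ((q' : G)⁻¹ * (n⁻¹ * q * (n⁻¹)⁻¹)) ∈ C := (QuotientGroup.eq.mp he).1
    rw [inv_inv] at hc
    have e1 := mem_centralizer_iff.mp hx.2 (q' : G) ⟨q', hq', rfl⟩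
    have e2 := (mem_centralizer_iff.mp hc x hx.1).symm
    have e3 : n⁻¹ * q * n * x = x * (n⁻¹ * q * n) := by
      calc n⁻¹ * q * n * x = q' * ((q' : G)⁻¹ * (n⁻¹ * q * n) * x) := by group
        _ = q' * (x * ((q' : G)⁻¹ * (n⁻¹ * q * n))) := by rw [e2]
        _ = (q' * x) * ((q' : G)⁻¹ * (n⁻¹ * q * n)) := by group
        _ = (x * q') * ((q' : G)⁻¹ * (n⁻¹ * q * n)) := by rw [e1]
        _ = _ := by group
    calc (q : G) * (n * x * n⁻¹) = n * (n⁻¹ * q * n * x) * n⁻¹ := by group
      _ = n * (x * (n⁻¹ * q * n)) * n⁻¹ := by rw [e3]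
      _ = n * x * n⁻¹ * q := by group
  have hne : L ≠ A := fun he => by
    have hQC : Q₀ ≤ C := le_centralizer_iff.mp (he.ge.trans inf_le_right)
    refine S.not_dvd_index (hp.trans ?_)
    exact index_dvd_of_le fun x hx => hQC ⟨x, hx, rfl⟩
  have hAp : IsPGroup p A := IsPGroup.of_card hA2
  have hL1 : L ≠ ⊥ := by
    set P := A ⊔ Q₀
    have hPp : IsPGroup p P := hAp.to_sup_of_normal_left' hQp (hQN.trans hN)
    haveI : Group.IsNilpotent P := hPp.isNilpotent
    haveI : (A.subgroupOf P).Normal :=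
      normal_subgroupOf_of_le_normalizer (sup_le le_normalizer (hQN.trans hN))
    have hA0 : A.subgroupOf P ≠ ⊥ := by
      intro e
      have h1 : Nat.card (A.subgroupOf P) = Nat.card A :=
        Nat.card_congr (subgroupOfEquivOfLe le_sup_left).toEquiv
      rw [e, card_bot, hA2] at h1
      exact (Nat.one_lt_pow two_ne_zero hp'.out.one_lt).ne h1
    intro hLb
    refine hA0 (by_contra fun h => ?_)
    have hz := PGroups.inf_center_ne_bot hPp (A.subgroupOf P) h
    refine hz (le_bot_iff.mp fun z hzz => ?_)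
    rw [mem_bot]
    refine Subtype.ext (mem_bot.mp (hLb ▸ (⟨hzz.1, mem_centralizer_iff.mpr fun q hq => ?_⟩ :
      (z : G) ∈ A ⊓ centralizer (Q₀ : Set G))))
    exact congrArg Subtype.val (mem_center_iff.mp hzz.2 ⟨q, le_sup_right (a := A) hq⟩)
  have hLc : Nat.card L = p := by
    obtain ⟨j, hj2, hj⟩ := (Nat.dvd_prime_pow hp'.out).mp (hA2 ▸ card_dvd_of_le hLA)
    rcases j with _ | _ | _ | j
    · exact absurd (card_eq_one.mp (hj.trans (pow_zero p))) hL1
    · rw [hj, zero_add, pow_one]
    · exact absurd (eq_of_le_of_card_ge hLA (by rw [hA2, hj])) hne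
    · omega
  refine ⟨L, hLA, hLc, hNL, fun Q hQ hQN' => ?_⟩
  rw [le_centralizer_iff]
  intro x hx
  refine mem_centralizer_iff.mpr fun q hq => ?_
  have hq1 : f ⟨q, hQN' hq⟩ ∈ (T : Subgroup _) := by
    refine (T.is_maximal' (Q := (Q.subgroupOf N).map f ⊔ T) ?_ le_sup_right).le
      (mem_sup_left (mem_map_of_mem f (show (⟨q, hQN' hq⟩ : N) ∈ Q.subgroupOf N from hq)))
    haveI := hTn
    exact ((hQ.comap_subtype (K := N)).map f).to_sup_of_normal_right T.isPGroup'
  obtain ⟨q', hq', he⟩ := hq1
  have hc : ((q' : G)⁻¹ * q) ∈ C := (QuotientGroup.eq.mp he).1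
  have e1 := mem_centralizer_iff.mp hx.2 (q' : G) ⟨q', hq', rfl⟩
  have e2 := (mem_centralizer_iff.mp hc x hx.1).symm
  calc q * x = q' * ((q' : G)⁻¹ * q * x) := by group
    _ = q' * (x * ((q' : G)⁻¹ * q)) := by rw [e2]
    _ = (q' * x) * ((q' : G)⁻¹ * q) := by group
    _ = (x * q') * ((q' : G)⁻¹ * q) := by rw [e1]
    _ = _ := by group

end Cfsg.Agent.OddOrder.BG13
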