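import Cfsg.Agent.OddOrder.BG13.Interface
import Cfsg.Agent.OddOrder.BG13.Action
import Cfsg.Agent.H41.Basic
import Cfsg.Agent.Coprime.Generation

/-!
# Tools for BG §13: pairs of nonconjugate maximal subgroups
-/

set_option autoImplicit false

universe u

namespace Cfsg.Agent.OddOrder.BG13

open Subgroup H40 BG11
open scoped commutatorElement

variable {G : Type u} [Group G] [Finite G]

/-! ### generalities -/

theorem dvd_pow_prime {p q k : ℕ} (hp : p.Prime) (hq : q.Prime) (h : q ∣ p ^ k) : q = p :=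
  Nat.prime_eq_prime_of_dvd_pow hq hp h

theorem prime_of_dvd_pGroup {p q : ℕ} [hp : Fact p.Prime] {X : Subgroup G} (hX : IsPGroup p X)
    (hq : q.Prime) (hd : q ∣ Nat.card X) : q = p := by
  obtain ⟨k, hk⟩ := IsPGroup.iff_card.mp hX
  exact dvd_pow_prime hp.out hq (hk ▸ hd)

theorem dvd_card_of_pGroup {p : ℕ} [Fact p.Prime] {X : Subgroup G} (hX : IsPGroup p X)
    (h : X ≠ ⊥) : p ∣ Nat.card X := by
  obtain ⟨k, hk⟩ := IsPGroup.iff_card.mp hX
  rcases k with _ | k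
  · exact absurd (eq_bot_of_card_eq _ (hk.trans (pow_zero p))) h
  · exact hk ▸ dvd_pow_self p k.succ_ne_zero

omit [Finite G] in
theorem ne_bot_of_prime_card {X : Subgroup G} (h : (Nat.card X).Prime) : X ≠ ⊥ := fun e =>
  h.ne_one (by rw [e, card_bot])

theorem zpowers_eq_of_prime_card {X : Subgroup G} (h : (Nat.card X).Prime) {x : G} (hx : x ∈ X)
    (hx1 : x ≠ 1) : zpowers x = X :=
  (eq_zpowers_of_prime rfl h hx hx1).symm

theorem centralizer_zpowers (x : G) :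
    centralizer (zpowers x : Set G) = centralizer ({x} : Set G) := by
  refine le_antisymm (centralizer_le (Set.singleton_subset_iff.mpr (mem_zpowers x))) fun c hc => ?_
  refine mem_centralizer_iff.mpr fun y hy => ?_
  obtain ⟨i, rfl⟩ := mem_zpowers_iff.mp hy
  exact (Commute.zpow_left (mem_centralizer_iff.mp hc x rfl) i).eq

theorem isCyclic_mono {X Y : Subgroup G} (h : X ≤ Y) (hY : IsCyclic Y) : IsCyclic X :=
  isCyclic_of_injective (inclusion h) (inclusion_injective h)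

theorem normalizer_le_of_cyclic {X S : Subgroup G} (hS : IsCyclic S) (h : X ≤ S) :
    normalizer (S : Set G) ≤ normalizer (X : Set G) := fun g hg =>
  cj_eq_iff.mp (H41.eq_of_card_eq_of_le_cyclic hS ((cj_mono g h).trans (cj_eq_iff.mpr hg).le) h
    (card_cj g X))

theorem card_mul_relIndex {H K : Subgroup G} (h : H ≤ K) :
    Nat.card H * H.relIndex K = Nat.card K := by
  rw [← relIndex_bot_left, ← relIndex_bot_left, relIndex_mul_relIndex _ _ _ bot_le h]

/-- An `A`-invariant Sylow subgroup of `K` over an invariant `q`-subgroup. -/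
theorem exists_invariant_sylowOf {q : ℕ} [Fact q.Prime] {A K U : Subgroup G}
    (hAK : A ≤ normalizer (K : Set G)) (hcop : (Nat.card A).Coprime (Nat.card K))
    (hs : Group.IsSolvable K) (hUK : U ≤ K) (hU : IsPGroup q U)
    (hAU : A ≤ normalizer (U : Set G)) :
    ∃ Q : Subgroup G, IsSylowOf q Q K ∧ U ≤ Q ∧ A ≤ normalizer (Q : Set G) := by
  obtain ⟨P, hUP, hAP⟩ := Coprime.exists_invariant_sylow_ge hAK hcop (Or.inr hs) q hUK hU hAU
  exact ⟨_, isSylowOf_map P, hUP, hAP⟩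

/-- `L' ≤ N D'` when `L = N D`. -/
theorem derived_le_sup {L N D : Subgroup G} (hNL : N ≤ L) (hn : L ≤ normalizer (N : Set G))
    (hDL : D ≤ L) (h : L ≤ N ⊔ D) : ⁅L, L⁆ ≤ N ⊔ ⁅D, D⁆ := by
  haveI : (N.subgroupOf L).Normal := normal_subgroupOf_of_le_normalizer hn
  set f := QuotientGroup.mk' (N.subgroupOf L)
  have hN : N.subgroupOf L ⊔ D.subgroupOf L = ⊤ := by
    rw [← subgroupOf_sup hNL hDL, subgroupOf_eq_top.mpr h]
  have htop : (D.subgroupOf L).map f = ⊤ := by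
    rw [← map_top_of_surjective f (QuotientGroup.mk'_surjective _), ← hN, Subgroup.map_sup,
      show (N.subgroupOf L).map f = ⊥ from (Subgroup.map_eq_bot_iff _).mpr (QuotientGroup.ker_mk' _).ge,
      bot_sup_eq]
  have h1 : commutator L ≤ N.subgroupOf L ⊔ ⁅D.subgroupOf L, D.subgroupOf L⁆ := by
    have h2 : (commutator L).map f ≤ ⁅D.subgroupOf L, D.subgroupOf L⁆.map f := by
      rw [map_commutator (D.subgroupOf L) (D.subgroupOf L) f, htop, _root_.commutator_def,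
        map_commutator]
      exact commutator_mono le_top le_top
    have h3 := le_comap_map f (commutator L) |>.trans (comap_mono h2)
    rw [comap_map_eq, QuotientGroup.ker_mk', sup_comm] at h3
    exact h3
  have h4 := map_mono (f := L.subtype) h1
  rwa [map_subtype_commutator, Subgroup.map_sup, map_commutator, map_subgroupOf_eq_of_le hNL,
    map_subgroupOf_eq_of_le hDL] at h4

/-- A prime dividing neither `|N|` nor `|D'|` does not divide `|L'|` when `L = N D`. -/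
theorem not_dvd_derived {L N D : Subgroup G} (hNL : N ≤ L) (hn : L ≤ normalizer (N : Set G))
    (hDL : D ≤ L) (h : L ≤ N ⊔ D) {p : ℕ} (hp : p.Prime) (hN : ¬ p ∣ Nat.card N)
    (hD : ¬ p ∣ Nat.card ↥⁅D, D⁆) : ¬ p ∣ Nat.card ↥⁅L, L⁆ := fun hd =>
  (hp.dvd_mul.mp ((hd.trans (card_dvd_of_le (derived_le_sup hNL hn hDL h))).trans
    (card_sup_dvd ((derived_le D).trans (hDL.trans hn))))).elim hN hD

namespace HypCore

variable (F : HypCore G)
include F

theorem minSimple : Cfsg.IsMinSimpleOddOrder G := F.s10.minSimple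

theorem isSolvable_le {M X : Subgroup G} (hM : IsCoatom M) (h : X ≤ M) : Group.IsSolvable X :=
  isSolvable_of_le_max F.minSimple hM h

theorem odd_sub (X : Subgroup G) : Odd (Nat.card X) := OddOrder.odd_card F.minSimple X

theorem ne_two {p : ℕ} {X : Subgroup G} (h : p ∣ Nat.card X) : p ≠ 2 :=
  OddOrder.ne_two_of_dvd F.minSimple h

theorem le_derived_of_sigma {M : Subgroup G} (hM : IsCoatom M) {X : Subgroup G} (hX : X ≤ M)
    (h : ∀ q : ℕ, q.Prime → q ∣ Nat.card X → q ∈ Cfsg.sigma M) : X ≤ ⁅M, M⁆ :=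
  (F.s10.le_sigmaCore hM hX h).trans (F.s10.sigmaCore_le_derived M hM)

/-- A `p`-subgroup of `H'` centralizes a `p'`-subgroup of `H'` it normalises, outside `β(H)`. -/
theorem le_centralizer_of_not_beta' {H T P : Subgroup G} (hH : IsCoatom H) {p : ℕ} [Fact p.Prime]
    (hP : IsPGroup p P) (hPH : P ≤ ⁅H, H⁆) (hTH : T ≤ ⁅H, H⁆) (hn : P ≤ normalizer (T : Set G))
    (hpT : ¬ p ∣ Nat.card T)
    (hb : ∀ q : ℕ, q.Prime → q ∣ Nat.card T → q ∉ Cfsg.beta H) :
    P ≤ centralizer (T : Set G) := by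
  rw [le_centralizer_iff]
  refine Coprime.le_of_exists_sylow_le fun q hq => ?_
  haveI := Fact.mk hq
  obtain ⟨Q, hQ, -, hPQ⟩ := exists_invariant_sylowOf (q := q) (U := ⊥) hn
    (coprime_card_of_isPGroup hP hpT) (F.isSolvable_le hH (hTH.trans (derived_le H))) bot_le
    IsPGroup.of_bot (fun a _ => cj_eq_iff.mp (Subgroup.map_bot _))
  obtain ⟨S, hS⟩ := exists_sylow_eq hQ
  refine ⟨S, hS ▸ le_centralizer_iff.mp ?_⟩
  by_cases hd : q ∣ Nat.card T
  · exact F.s10.le_centralizer_of_not_beta hH (fun e => hpT (by rwa [e])) hP hQ.2.1 hPH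
      (hQ.1.trans hTH) hPQ (hb q hq hd)
  · have h1 : Nat.card Q = 1 := by
      rw [hQ.2.2, Nat.factorization_eq_zero_of_not_dvd hd, pow_zero]
    rw [eq_bot_of_card_eq _ h1]
    exact fun x _ => mem_centralizer_iff.mpr fun y hy => by
      rw [mem_bot.mp hy, one_mul, mul_one]

/-- Rank one primes have cyclic subgroups. -/
theorem isCyclic_of_rank_one {L V : Subgroup G} {p : ℕ} [Fact p.Prime] (hr : Cfsg.PRankLE p 1 L)
    (hV : IsPGroup p V) (hVL : V ≤ L) : IsCyclic V := by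
  rcases eq_or_ne V ⊥ with rfl | h0
  · infer_instance
  exact BG11.isCyclic_of_pRankLE_one (F.ne_two (dvd_card_of_pGroup hV h0)) hV
    (BG11.pRankLE_of_le hVL hr)

/-- An ideal prime outside `σ(L)` has rank one in `L`. -/
theorem rank_one_of_ideal {L : Subgroup G} (hL : IsCoatom L) {p : ℕ} [Fact p.Prime]
    (h : p ∉ Cfsg.sigma L) (hid : Cfsg.IsIdealPrime p G) : Cfsg.PRankLE p 1 L :=
  by_contra fun hr => (F.s10.p2_maximal L hL p h (F.s10.pRankLE_two hL h) hr).1 hid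

theorem beta_subset_sigma {M : Subgroup G} (hM : IsCoatom M) {q : ℕ} (h : q ∈ Cfsg.beta M) :
    q ∈ Cfsg.sigma M :=
  F.s10.alpha_subset_sigma hM h.1

/-- `β(H)` misses `σ(M)` for nonconjugate `M`, `H`. -/
theorem not_beta_of_sigma {M H : Subgroup G} (hM : IsCoatom M) (hH : IsCoatom H)
    (hne : ∀ g : G, H ≠ cj g M) {q : ℕ} (hq : q ∈ Cfsg.sigma M) : q ∉ Cfsg.beta H := fun hb => by
  haveI := Fact.mk hq.1
  obtain ⟨g, hg⟩ := F.s10.exists_cj_eq hH hM (F.beta_subset_sigma hH hb) hq (Or.inl hb.1)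
  exact hne g hg.symm

omit F in
theorem nonconj_symm {M H : Subgroup G} (hne : ∀ g : G, H ≠ cj g M) (g : G) : M ≠ cj g H :=
  fun e => hne g⁻¹ (by rw [e, cj_inv_cj])

/-- Nonconjugate maximal subgroups sharing a `σ`-prime have nonempty `β`. -/
theorem exists_beta {M H : Subgroup G} (hM : IsCoatom M) (hH : IsCoatom H)
    (hne : ∀ g : G, H ≠ cj g M) {q : ℕ} (hqM : q ∈ Cfsg.sigma M) (hqH : q ∈ Cfsg.sigma H) :
    ∃ s, s ∈ Cfsg.beta M := by
  by_contra h
  push Not at h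
  haveI := Fact.mk hqM.1
  obtain ⟨-, -, -, ⟨H₀, hH₀, hnil⟩, -⟩ := F.s10.betaCore_spec M hM
  have h1 : H₀ = Cfsg.sigmaCore M := le_antisymm hH₀.1 (relIndex_eq_one.mp
    (Nat.eq_one_iff_not_exists_prime_dvd.mpr fun r hr hd => hH₀.2.2 r hr ⟨hr, h r⟩ hd))
  obtain ⟨g, hg⟩ := F.s10.exists_cj_eq hM hH hqM hqH (Or.inr (h1 ▸ hnil))
  exact nonconj_symm hne g hg.symm

/-- The Frattini decomposition over `L_β` (BG 12.15 (d1)). -/
theorem le_betaCore_sup_normalizer {L S : Subgroup G} (hL : IsCoatom L) {q : ℕ} [Fact q.Prime]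
    (hq : q ∈ Cfsg.sigma L) (hb : q ∉ Cfsg.beta L) (hS : IsSylowOf q S L) :
    L ≤ Cfsg.piCoreOf (Cfsg.beta L) L ⊔ (L ⊓ normalizer (S : Set G)) := by
  set B := Cfsg.piCoreOf (Cfsg.beta L) L
  have hBL : B ≤ L := piCoreOf_le _ _
  have hBn : L ≤ normalizer (B : Set G) := le_normalizer_piCoreOf _ _
  obtain ⟨hBhall, -, -, ⟨H₀, hH₀, hnil⟩, -⟩ := F.s10.betaCore_spec L hL
  have hBσ : B ≤ Cfsg.sigmaCore L := F.s10.le_sigmaCore hL hBL fun r hr hd =>
    F.beta_subset_sigma hL (piCoreOf_isPiNumber _ _ r hr hd)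
  have hSσ := F.s10.sylow_le_sigmaCore hL hq hS
  -- a nilpotent Hall subgroup containing `S`
  obtain ⟨T, hT⟩ := BG11.exists_sylowOf q H₀
  have hTσ : IsSylowOf q T (Cfsg.sigmaCore L) := by
    refine ⟨hT.1.trans hH₀.1, hT.2.1, ?_⟩
    rw [hT.2.2, ← card_mul_relIndex hH₀.1, Nat.factorization_mul Nat.card_pos.ne'
      (fun e => by
        have := card_mul_relIndex hH₀.1
        rw [e, mul_zero] at this
        exact Nat.card_pos.ne' this.symm)]
    simp [Nat.factorization_eq_zero_of_not_dvd (hH₀.2.2 q (Fact.out) ⟨Fact.out, hb⟩)]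
  obtain ⟨m, hm, hmT⟩ := BG11.exists_conj_eq hSσ hTσ
  have hnorm : H₀ ≤ normalizer (T : Set G) := by
    obtain ⟨T', hT'⟩ := exists_sylow_eq hT
    haveI : (T' : Subgroup H₀).Normal :=
      Group.isNilpotent_of_finite_tfae.out 0 3 rfl rfl |>.mp hnil q inferInstance T'
    rw [← hT']
    exact Components.le_normalizer_map_subtype _
  set K := cj m H₀
  have hKS : K ≤ normalizer (S : Set G) := by
    rw [← hmT, ← cj_normalizer]
    exact cj_mono m hnorm
  have hK : K ≤ Cfsg.sigmaCore L := (cj_mono m hH₀.1).trans (cj_eq_of_mem hm).le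
  have hBK : Cfsg.sigmaCore L ≤ B ⊔ K := by
    refine relIndex_eq_one.mp (Nat.eq_one_iff_not_exists_prime_dvd.mpr fun r hr hd => ?_)
    by_cases hrb : r ∈ Cfsg.beta L
    · exact hBhall.2.2 r hr hrb ((hd.trans (relIndex_dvd_of_le_left (H := B) _ le_sup_left)).trans
        (Dvd.intro _ (relIndex_mul_relIndex B _ L hBσ (sigmaCore_le L))))
    · refine hH₀.2.2 r hr ⟨hr, hrb⟩ (hd.trans ?_)
      refine (relIndex_dvd_of_le_left (H := K) _ le_sup_right).trans (dvd_of_eq ?_)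
      have h1 := card_mul_relIndex hK
      rw [card_cj m H₀, ← card_mul_relIndex hH₀.1] at h1
      exact Nat.eq_of_mul_eq_mul_left Nat.card_pos h1
  set N₀ := B ⊔ S
  have hSN : IsSylowOf q S N₀ := isSylowOf_mono hS le_sup_right (sup_le hBL hS.1)
  have hσN : Cfsg.sigmaCore L ≤ normalizer (N₀ : Set G) := hBK.trans (sup_le
    (le_sup_left.trans le_normalizer) fun k hk => cj_eq_iff.mp (by
      rw [show cj k N₀ = cj k B ⊔ cj k S from Subgroup.map_sup B S _,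
        cj_eq_iff.mpr (hBn ((hK.trans (sigmaCore_le L)) hk)), cj_eq_iff.mpr (hKS hk)]))
  have hLN : L ≤ normalizer (N₀ : Set G) := by
    intro l hl
    have h1 : IsSylowOf q (cj l S) (Cfsg.sigmaCore L) := by
      have := isSylowOf_cj hSσ l
      rwa [cj_eq_iff.mpr (le_normalizer_sigmaCore L hl)] at this
    obtain ⟨n, hn, hnS⟩ := BG11.exists_conj_eq h1 hSσ
    refine cj_eq_iff.mp ?_
    rw [show cj l N₀ = cj l B ⊔ cj l S from Subgroup.map_sup B S _, cj_eq_iff.mpr (hBn hl), ← hnS]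
    calc B ⊔ cj n S = cj n B ⊔ cj n S := by rw [cj_eq_iff.mpr (hBn (sigmaCore_le L hn))]
      _ = cj n N₀ := (Subgroup.map_sup B S _).symm
      _ = N₀ := cj_eq_iff.mpr (hσN hn)
  exact (le_sup_normalizer (sup_le hBL hS.1) hLN hSN).trans
    (sup_le (sup_le le_sup_left (le_sup_of_le_right (le_inf hS.1 le_normalizer))) le_sup_right)

/-- A prime outside `β(L)` not dividing `|(L ∩ M)'|` does not divide `|L'|` (`N(S) ≤ M`). -/
theorem not_dvd_derived_of_common {L M S : Subgroup G} (hL : IsCoatom L) {q : ℕ} [Fact q.Prime]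
    (hq : q ∈ Cfsg.sigma L) (hb : q ∉ Cfsg.beta L) (hS : IsSylowOf q S L)
    (hNS : normalizer (S : Set G) ≤ M) {p : ℕ} (hp : p.Prime) (hpb : p ∉ Cfsg.beta L)
    (hd : ¬ p ∣ Nat.card ↥⁅M ⊓ L, M ⊓ L⁆) : ¬ p ∣ Nat.card ↥⁅L, L⁆ :=
  not_dvd_derived (piCoreOf_le _ _) (le_normalizer_piCoreOf _ _) inf_le_right
    ((F.le_betaCore_sup_normalizer hL hq hb hS).trans (sup_le_sup_left
      (le_inf (inf_le_right.trans hNS) inf_le_left) _)) hp
    (fun h => hpb (piCoreOf_isPiNumber _ _ p hp h)) hd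

/-- S1424 in terms of subgroups. -/
theorem embedding {M L X : Subgroup G} (hM : IsCoatom M) {q : ℕ} [Fact q.Prime]
    (hq : q ∈ Cfsg.sigma M) (hXq : IsPGroup q X) (hX : X ≠ ⊥) (hXM : X ≤ M) (hL : IsCoatom L)
    (hne : L ≠ M) (hN : normalizer (X : Set G) ≤ L) :
    (∀ g : G, L ≠ cj g M) ∧ ∃ S : Subgroup G, IsSylowOf q S (M ⊓ L) ∧ X ≤ S ∧
      IsSylowOf q S L ∧ normalizer (S : Set G) ≤ M := by
  obtain ⟨S₀, hS₀, hXS⟩ := exists_sylowOf_ge' hXq (le_inf hXM (le_normalizer.trans hN))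
  obtain ⟨S, rfl⟩ := exists_sylow_eq hS₀
  obtain ⟨h1, h2, h3⟩ := F.sigma_embedding M hM q hq X hXq hX hXM L hL hne hN S hXS
  refine ⟨h1, _, hS₀, hXS, ⟨hS₀.1.trans inf_le_right, hS₀.2.1, ?_⟩, h2⟩
  set S' := (S : Subgroup ↥(M ⊓ L)).map (M ⊓ L).subtype
  have hS'L : S' ≤ L := hS₀.1.trans inf_le_right
  obtain ⟨k, hk⟩ := IsPGroup.iff_card.mp hS₀.2.1
  have h4 := congrArg (fun n => n.factorization q) (card_mul_relIndex hS'L)
  have hne : S'.relIndex L ≠ 0 := fun e => h3 (by rw [e]; exact dvd_zero q)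
  rw [Nat.factorization_mul Nat.card_pos.ne' hne] at h4
  simp only [Finsupp.coe_add, Pi.add_apply, Nat.factorization_eq_zero_of_not_dvd h3, add_zero] at h4
  rw [← h4, hk, Nat.Prime.factorization_pow (Fact.out : q.Prime), Finsupp.single_eq_same]

/-- BG 12.15 (e1). -/
theorem tau2_of_not_sigma {M L X S : Subgroup G} (hM : IsCoatom M) (hL : IsCoatom L) {q : ℕ}
    [Fact q.Prime] (hq : q ∈ Cfsg.sigma M) (hqL : q ∉ Cfsg.sigma L) (hX : X ≠ ⊥) (hXS : X ≤ S)
    (hN : normalizer (X : Set G) ≤ L) (hS : IsSylowOf q S L) : q ∈ Cfsg.tau2 L := by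
  refine ⟨Fact.out, hqL, F.s10.pRankLE_two hL hqL, fun hr => hqL ?_⟩
  have hS0 : S ≠ ⊥ := fun e => hX (le_bot_iff.mp (e ▸ hXS))
  exact mem_sigma_of_normalizer_le ((dvd_card_of_pGroup hS.2.1 hS0).trans (card_dvd_of_le hS.1)) hS
    ((normalizer_le_of_cyclic (F.isCyclic_of_rank_one hr hS.2.1 hS.1) hXS).trans hN)

omit F in
theorem exists_elemAb_sq_sylow {L S : Subgroup G} {q : ℕ} [Fact q.Prime]
    (hS : IsSylowOf q S L) (hr : ¬ Cfsg.PRankLE q 1 L) :
    ∃ A : Subgroup G, A ≤ S ∧ Cfsg.IsElementaryAbelian q A ∧ Nat.card A = q ^ 2 := by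
  obtain ⟨A, hA, hAe, hA2⟩ := exists_elemAb_sq hr
  obtain ⟨m, hm, hle⟩ := BG11.exists_conj_le hS (elemAb_isPGroup hAe) hA
  exact ⟨cj m A, hle, elemAb_cj hAe m, by rw [card_cj, hA2]⟩

/-- BG 12.15 (e3). -/
theorem isComplIn_of_tau2 {M L S : Subgroup G} (hM : IsCoatom M) (hL : IsCoatom L) (hne : M ≠ L)
    {q : ℕ} [Fact q.Prime] (hq : q ∈ Cfsg.sigma M) (hq2 : q ∈ Cfsg.tau2 L)
    (hS : IsSylowOf q S L) (hSM : S ≤ M) : Cfsg.IsComplIn (M ⊓ L) (Cfsg.sigmaCore L) L := by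
  obtain ⟨A, hAS, hAe, hA2⟩ := exists_elemAb_sq_sylow hS hq2.2.2.2
  have hAM := hAS.trans hSM
  have hAL := hAS.trans hS.1
  obtain ⟨E, hE, hAE⟩ := F.s10.exists_compl_ge hL hAL fun r hr hd =>
    prime_of_dvd_pGroup (elemAb_isPGroup hAe) hr hd ▸ hq2.2.1
  obtain ⟨-, ⟨-, hEeq, -⟩, -⟩ := F.s10.compl_structure hL hE hq2 ⟨hAE, hAe, hA2⟩
  have hnA : normalizer (A : Set G) ≤ M := F.s10.normalizer_le_of_not_isCyclic hM hq
    (elemAb_isPGroup hAe) hAM (elemAb_not_cyclic hAe hA2.ge)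
  have hEM : E ≤ M := hEeq.ge.trans (inf_le_right.trans hnA)
  have h0 := F.s10.sigmaCore_inf_eq_bot hL hq2.2.1 hAL hAe hA2 hM hne hAM
  have heq : M ⊓ L = E := by
    refine le_antisymm (fun x hx => ?_) (le_inf hEM hE.1)
    obtain ⟨a, ha, b, hb, rfl⟩ := hE.2.2.2 x hx.2
    have hb1 : b ∈ Cfsg.sigmaCore L ⊓ M :=
      ⟨hb, by simpa using M.mul_mem (M.inv_mem (hEM ha)) hx.1⟩
    rw [h0, mem_bot] at hb1
    simpa [hb1] using ha
  rwa [heq]

/-- For a subgroup of order `p ∈ τ₁ ∪ τ₃`: its normalizer and the maximal subgroups above it. -/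
theorem normalizer_tau13_basic {M X : Subgroup G} (hM : IsCoatom M) {p : ℕ} [hp : Fact p.Prime]
    (hpτ : p ∈ Cfsg.tau1 M ∪ Cfsg.tau3 M) (hXM : X ≤ M) (hX : Nat.card X = p) :
    ¬ normalizer (X : Set G) ≤ M ∧ ∀ H : Subgroup G, IsCoatom H → normalizer (X : Set G) ≤ H →
      (∀ g : G, H ≠ cj g M) ∧ p ∈ Cfsg.sigma H ∪ Cfsg.tau2 H := by
  have hs : p ∉ Cfsg.sigma M := hpτ.elim (fun h => h.2.1) fun h => h.2.1
  have hr : Cfsg.PRankLE p 1 M := hpτ.elim (fun h => h.2.2.2.2) fun h => h.2.2.2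
  have hXp : IsPGroup p X := IsPGroup.of_card (n := 1) (by rw [hX, pow_one])
  have hX0 : X ≠ ⊥ := ne_bot_of_prime_card (hX ▸ hp.out)
  have hnot : ¬ normalizer (X : Set G) ≤ M := fun hle => by
    obtain ⟨S, hS, hXS⟩ := exists_sylowOf_ge' hXp hXM
    exact hs (mem_sigma_of_normalizer_le (hX ▸ card_dvd_of_le hXM) hS
      ((normalizer_le_of_cyclic (F.isCyclic_of_rank_one hr hS.2.1 hS.1) hXS).trans hle))
  refine ⟨hnot, fun H hH hN => ⟨fun g hg => ?_, ?_⟩⟩
  · -- the two conjugates of `X` in `M` are conjugate in `M`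
    have hX' : cj g⁻¹ X ≤ M := by
      rw [← cj_inv_cj g M, ← hg]
      exact cj_mono _ (le_normalizer.trans hN)
    obtain ⟨S, hS, hXS⟩ := exists_sylowOf_ge' hXp hXM
    obtain ⟨m, hm, hmS⟩ := BG11.exists_conj_le hS (hXp.map _) hX'
    have heq : cj m (cj g⁻¹ X) = X := H41.eq_of_card_eq_of_le_cyclic
      (F.isCyclic_of_rank_one hr hS.2.1 hS.1) hmS hXS (by rw [card_cj, card_cj])
    have hn : g * m⁻¹ ∈ normalizer (X : Set G) := cj_eq_iff.mp (by
      conv_lhs => rw [← heq]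
      rw [← cj_mul, ← cj_mul, show g * m⁻¹ * m * g⁻¹ = 1 by group, cj_one])
    have hgH : cj (g * m⁻¹) M = H := by rw [cj_mul, cj_eq_of_mem (M.inv_mem hm), hg]
    exact hnot (hN.trans (le_of_eq (by
      conv_rhs => rw [← cj_inv_cj (g * m⁻¹) M, hgH, cj_eq_of_mem (H.inv_mem (hN hn))])))
  · by_cases hσ : p ∈ Cfsg.sigma H
    · exact Or.inl hσ
    refine Or.inr ⟨hp.out, hσ, F.s10.pRankLE_two hH hσ, fun hr1 => hσ ?_⟩
    have hXH : X ≤ H := le_normalizer.trans hN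
    obtain ⟨S, hS, hXS⟩ := exists_sylowOf_ge' hXp hXH
    exact mem_sigma_of_normalizer_le (hX ▸ card_dvd_of_le hXH) hS
      ((normalizer_le_of_cyclic (F.isCyclic_of_rank_one hr1 hS.2.1 hS.1) hXS).trans hN)

end HypCore

theorem Hyp.nonconj_symm {M H : Subgroup G} (hne : ∀ g : G, H ≠ cj g M) (g : G) : M ≠ cj g H :=
  HypCore.nonconj_symm hne g

end Cfsg.Agent.OddOrder.BG13
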