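import Cfsg.Agent.OddOrder.BG13.Central

/-!
# Sylow subgroups for ideal primes, and commuting Sylow subgroups
-/

set_option autoImplicit false

universe u

namespace Cfsg.Agent.OddOrder.BG13

open Subgroup H40 BG11
open scoped commutatorElement

variable {G : Type u} [Group G] [Finite G]

theorem coprime_of_pGroups {p q : ℕ} [hp : Fact p.Prime] [hq : Fact q.Prime] {X Y : Subgroup G}
    (hX : IsPGroup p X) (hY : IsPGroup q Y) (h : p ≠ q) :
    (Nat.card X).Coprime (Nat.card Y) := by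
  obtain ⟨a, ha⟩ := IsPGroup.iff_card.mp hX
  obtain ⟨b, hb⟩ := IsPGroup.iff_card.mp hY
  rw [ha, hb]
  exact Nat.Coprime.pow _ _ ((Nat.coprime_primes hp.out hq.out).mpr h)

theorem isPGroup_of_card_eq {p : ℕ} {X : Subgroup G} (h : Nat.card X = p) : IsPGroup p X :=
  IsPGroup.of_card (n := 1) (by rw [h, pow_one])

omit [Finite G] in
theorem le_centralizer_of_cyclic_ge {C A B : Subgroup G} (hC : IsCyclic C) (hA : A ≤ C) (hB : B ≤ C) :
    A ≤ centralizer (B : Set G) := fun a ha => mem_centralizer_iff.mpr fun b hb => by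
  let _ := IsCyclic.commGroup (α := C)
  exact congrArg Subtype.val (mul_comm (⟨b, hB hb⟩ : C) ⟨a, hA ha⟩)

theorem eq_of_le_cyclic_pGroup {p : ℕ} [hp : Fact p.Prime] {C P : Subgroup G} (hC : IsCyclic C)
    (hPC : P ≤ C) (hP : Nat.card P = p) {x : G} (hx : x ∈ C) (hxp : x ^ p = 1) : x ∈ P := by
  rcases eq_or_ne x 1 with rfl | hx1
  · exact one_mem P
  have h : zpowers x = P := H41.eq_of_card_eq_of_le_cyclic hC (zpowers_le.mpr hx) hPC
    (by rw [hP, Nat.card_zpowers]; exact orderOf_eq_prime hxp hx1)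
  exact h ▸ mem_zpowers x

/-- `[Z, R] ≠ 1` makes `Q = [Z, R]` an admissible operator: `[Q, R] = Q`. -/
theorem commutator_self_eq {Z R : Subgroup G} {r : ℕ} [hr : Fact r.Prime] (hR : Nat.card R = r)
    (hn : R ≤ normalizer (Z : Set G)) (hc : (Nat.card R).Coprime (Nat.card Z)) :
    ⁅⁅Z, R⁆, R⁆ = ⁅Z, R⁆ := by
  haveI := isCyclic_of_prime_card (α := R) hR
  exact Coprime.commutator_commutator_eq hn hc (Or.inl inferInstance)

namespace HypCore

variable (F : HypCore G)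
include F

/-- The action data for a `q`-group `Q = [Q, R]` on a `p`-group. -/
theorem acts_pGroup {V Q R : Subgroup G} {p q r : ℕ} [Fact p.Prime] [Fact q.Prime]
    [hr : Fact r.Prime] (hV : IsPGroup p V) (hQ : IsPGroup q Q) (hR : Nat.card R = r)
    (hqp : q ≠ p) (hrp : r ≠ p) (hqr : q ≠ r) (hRV : R ≤ normalizer (V : Set G))
    (hQV : Q ≤ normalizer (V : Set G)) (hRQ : R ≤ normalizer (Q : Set G)) (h : ⁅Q, R⁆ = Q) :
    Acts V Q R :=
  ⟨hR ▸ hr.out, hRV, hQV, hRQ, h, coprime_of_pGroups hQ hV hqp,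
    coprime_of_pGroups (isPGroup_of_card_eq hR) hV hrp,
    coprime_of_pGroups hQ (isPGroup_of_card_eq hR) hqr, F.odd_sub Q⟩

/-- `M_β` contains the `p`-subgroups for `p ∈ β(M)`. -/
theorem le_betaCore {M X : Subgroup G} (hM : IsCoatom M) {p : ℕ} [hp : Fact p.Prime]
    (hb : p ∈ Cfsg.beta M) (hX : IsPGroup p X) (hXM : X ≤ M) :
    X ≤ Cfsg.piCoreOf (Cfsg.beta M) M := by
  obtain ⟨S, hS⟩ := BG11.exists_sylowOf p (Cfsg.piCoreOf (Cfsg.beta M) M)
  have hSM := isSylowOf_of_not_dvd hS (piCoreOf_le _ _)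
    ((F.s10.betaCore_spec M hM).1.2.2 p hp.out hb)
  obtain ⟨m, hm, hle⟩ := BG11.exists_conj_le hSM hX hXM
  have h := cj_mono m⁻¹ (hle.trans hS.1)
  rwa [cj_inv_cj, cj_eq_iff.mpr (le_normalizer_piCoreOf _ _ (M.inv_mem hm))] at h

/-- An invariant Sylow subgroup for `p ∈ β(H)`. -/
theorem exists_invariant_beta {H A U : Subgroup G} (hH : IsCoatom H) {p : ℕ} [hp : Fact p.Prime]
    (hb : p ∈ Cfsg.beta H) (hAH : A ≤ H)
    (hA : ∀ q : ℕ, q.Prime → q ∣ Nat.card A → q ∉ Cfsg.beta H) (hU : IsPGroup p U) (hUH : U ≤ H)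
    (hAU : A ≤ normalizer (U : Set G)) :
    ∃ V : Subgroup G, IsSylowOf p V H ∧ V ≤ Cfsg.piCoreOf (Cfsg.beta H) H ∧ U ≤ V ∧
      A ≤ normalizer (V : Set G) ∧ Cfsg.InUniqueMaximal V := by
  obtain ⟨V, hV, hUV, hAV⟩ := exists_invariant_sylowOf (q := p)
    (hAH.trans (le_normalizer_piCoreOf (Cfsg.beta H) H))
    (Nat.coprime_of_dvd fun q hq h1 h2 => hA q hq h1 (piCoreOf_isPiNumber _ _ q hq h2))
    (F.isSolvable_le hH (piCoreOf_le _ _)) (F.le_betaCore hH hb hU hUH) hU hAU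
  have hVH := isSylowOf_of_not_dvd hV (piCoreOf_le _ _)
    ((F.s10.betaCore_spec H hH).1.2.2 p hp.out hb)
  exact ⟨V, hVH, hV.1, hUV, hAV, F.s10.inUniqueMaximal_sylow_alpha hH hb.1 hVH⟩

/-- The fixed points of a `τ`-subgroup on a Sylow subgroup for an ideal prime are cyclic. -/
theorem fixed_pGroup_cyclic {H R W : Subgroup G} (hH : IsCoatom H) {r p : ℕ} [hr : Fact r.Prime]
    [Fact p.Prime] (hrτ : r ∈ Cfsg.tau1 H ∪ Cfsg.tau3 H) (hRH : R ≤ H) (hR : Nat.card R = r)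
    (hb : p ∈ Cfsg.beta H) (hW : IsPGroup p W) (hWR : W ≤ centralizer (R : Set G)) :
    IsCyclic W := by
  obtain ⟨L, hL, hN⟩ := BG11.exists_coatom_ge (normalizer_ne_top' F.minSimple
    (ne_bot_of_prime_card (hR ▸ hr.out)) (ne_top_of_le_coatom hH hRH))
  have hne := ((F.normalizer_tau13_basic hH hrτ hRH hR).2 L hL hN).1
  exact F.isCyclic_of_rank_one (F.rank_one_of_ideal hL
    (fun h => F.not_beta_of_sigma hL hH (nonconj_symm hne) h hb) hb.2) hW
    ((hWR.trans (H41.centralizer_le_normalizer R)).trans hN)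

/-- `Q = [Q, R]` centralizing `P` of order `p ∈ β(H)`, `P ≤ C(R)`, centralizes an invariant Sylow
`p`-subgroup over `P`; so `N(Q) ≤ H`. -/
theorem normalizer_le_of_beta {H P Q R : Subgroup G} (hH : IsCoatom H) {p q r : ℕ}
    [hp : Fact p.Prime] [hq : Fact q.Prime] [hr : Fact r.Prime]
    (hb : p ∈ Cfsg.beta H) (hqb : q ∉ Cfsg.beta H) (hr1 : r ∈ Cfsg.tau1 H) (hPH : P ≤ H)
    (hP : Nat.card P = p) (hRH : R ≤ H) (hR : Nat.card R = r) (hQH : Q ≤ H) (hQ : IsPGroup q Q)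
    (hQ0 : Q ≠ ⊥) (hqp : q ≠ p) (hqr : q ≠ r) (hRQ : R ≤ normalizer (Q : Set G))
    (hcomm : ⁅Q, R⁆ = Q) (hPQ : P ≤ centralizer (Q : Set G))
    (hPR : P ≤ centralizer (R : Set G)) : normalizer (Q : Set G) ≤ H := by
  have hrb : r ∉ Cfsg.beta H := fun h => hr1.2.1 (F.beta_subset_sigma hH h)
  obtain ⟨V, hV, -, hPV, hAV, huniq⟩ := F.exists_invariant_beta (A := Q ⊔ R) hH hb
    (sup_le hQH hRH) (fun t ht hd h => by
      rcases ht.dvd_mul.mp (hd.trans (card_sup_dvd hRQ)) with h1 | h1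
      · exact hqb (prime_of_dvd_pGroup hQ ht h1 ▸ h)
      · exact hrb (prime_of_dvd_pGroup (isPGroup_of_card_eq hR) ht h1 ▸ h))
    (isPGroup_of_card_eq hP) hPH
    (sup_le ((le_centralizer_iff.mp hPQ).trans (H41.centralizer_le_normalizer P))
      ((le_centralizer_iff.mp hPR).trans (H41.centralizer_le_normalizer P)))
  have hA := F.acts_pGroup hV.2.1 hQ hR hqp
    (fun e => hr1.2.1 (e ▸ F.beta_subset_sigma hH hb)) hqr (le_sup_right.trans hAV)
    (le_sup_left.trans hAV) hRQ hcomm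
  have hcyc := F.fixed_pGroup_cyclic hH (Or.inl hr1) hRH hR hb (W := V ⊓ centralizer (R : Set G))
    (hV.2.1.to_le inf_le_left) inf_le_right
  have hQV := hA.le_centralizer_of_cyclic (F.ne_two (hP ▸ card_dvd_of_le hPH : p ∣ Nat.card H))
    hV.2.1 fun x hxV hxR hxp => le_centralizer_iff.mp (le_centralizer_iff.mp hPQ)
      (eq_of_le_cyclic_pGroup hcyc (le_inf hPV hPR) hP ⟨hxV, hxR⟩ hxp)
  exact BG11.le_of_inUniqueMaximal huniq hH hV.1
    (normalizer_ne_top' F.minSimple hQ0 (ne_top_of_le_coatom hH hQH))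
    ((le_centralizer_iff.mp hQV).trans (H41.centralizer_le_normalizer Q))

/-- A `q`-subgroup of `H'` centralizes a Sylow `p`-subgroup of `H_σ`, for distinct primes outside
`β(H)`, `p ∈ σ(H)`. -/
theorem exists_sylow_centralized {H Q : Subgroup G} (hH : IsCoatom H) {p q : ℕ}
    [hp : Fact p.Prime] [hq : Fact q.Prime] (hpH : p ∈ Cfsg.sigma H) (hpb : p ∉ Cfsg.beta H)
    (hqb : q ∉ Cfsg.beta H) (hqp : q ≠ p) (hQ : IsPGroup q Q) (hQH : Q ≤ ⁅H, H⁆) :
    ∃ S : Subgroup G, IsSylowOf p S (Cfsg.sigmaCore H) ∧ S ≤ centralizer (Q : Set G) := by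
  obtain ⟨-, -, ⟨K₀, hK₀, hnil⟩, -, -⟩ := F.s10.betaCore_spec H hH
  have hs := F.isSolvable_le hH (derived_le H)
  obtain ⟨K, hK, hQK⟩ := exists_hall_ge (π := {t | t.Prime ∧ t ∉ Cfsg.beta H}) hs hQH
    fun t ht hd => ⟨ht, prime_of_dvd_pGroup hQ ht hd ▸ hqb⟩
  obtain ⟨m, hm, e⟩ := Coprime.exists_conj_hallOf hs hK hK₀
  have hQ₀ : cj m Q ≤ K₀ := (cj_mono m hQK).trans e.le
  obtain ⟨T, hT⟩ := BG11.exists_sylowOf p K₀
  have hTd := isSylowOf_of_not_dvd hT hK₀.1 (hK₀.2.2 p hp.out ⟨hp.out, hpb⟩)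
  have hTC : T ≤ centralizer (cj m Q : Set G) := fun t ht => mem_centralizer_iff.mpr fun x hx => by
    refine H41.commute_of_coprime_of_isNilpotent hnil (hQ₀ hx) (hT.1 ht) ?_
    exact ((coprime_of_pGroups (hQ.map _) hT.2.1 hqp).coprime_dvd_left
      ((cj m Q).orderOf_dvd_natCard hx)).coprime_dvd_right (T.orderOf_dvd_natCard ht)
  have hS : IsSylowOf p (cj m⁻¹ T) ⁅H, H⁆ := by
    have := isSylowOf_cj hTd m⁻¹
    rwa [cj_eq_of_mem (Subgroup.inv_mem _ hm)] at this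
  refine ⟨cj m⁻¹ T, isSylowOf_mono hS (F.s10.le_sigmaCore_of_isPGroup hH hpH
    (hS.1.trans (derived_le H)) hS.2.1) (F.s10.sigmaCore_le_derived H hH), ?_⟩
  have h := cj_mono m⁻¹ hTC
  rwa [cj_centralizer, cj_inv_cj] at h

end HypCore

end Cfsg.Agent.OddOrder.BG13
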