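import Cfsg.Agent.OddOrder.BG13.Tools

/-!
# BG 13.1: the action of `M ∩ H` on `M_σ ∩ H`
-/

set_option autoImplicit false

universe u

namespace Cfsg.Agent.OddOrder.BG13

open Subgroup H40 BG11
open scoped commutatorElement

variable {G : Type u} [Group G] [Finite G]

namespace HypCore

variable (F : HypCore G)
include F

/-- BG 13.1 (a). -/
theorem le_centralizer_inf {M H P : Subgroup G} (hM : IsCoatom M) (hH : IsCoatom H)
    (hne : ∀ g : G, H ≠ cj g M) {p : ℕ} [hp : Fact p.Prime] (hP : IsPGroup p P) (hPM : P ≤ M)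
    (hPH : P ≤ H) (hpM : p ∉ Cfsg.sigma M) (hpH : p ∈ Cfsg.sigma H ∪ Cfsg.tau3 H) :
    P ≤ centralizer ((Cfsg.sigmaCore M ⊓ H : Subgroup G) : Set G) := by
  set U := Cfsg.sigmaCore M ⊓ H
  have hPd := F.pGroup_le_derived hH hP hPH hpH
  have hPU : P ≤ normalizer (U : Set G) := le_normalizer_sigmaInf hPM hPH
  have hpU : ¬ p ∣ Nat.card U := not_dvd_of_le_sigmaCore inf_le_left hp.out hpM
  set T := U ⊓ ⁅H, H⁆
  have hPT : P ≤ normalizer (T : Set G) :=
    le_normalizer_inf hPU (hPH.trans (le_normalizer_derived H))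
  have hcT : P ≤ centralizer (T : Set G) :=
    F.le_centralizer_of_not_beta' hH hP hPd inf_le_right hPT
      (fun h => hpU (h.trans (card_dvd_of_le inf_le_left))) fun q hq hd =>
        F.not_beta_of_sigma hM hH hne (sigmaCore_isPiNumber M q hq
          (hd.trans (card_dvd_of_le (inf_le_left.trans inf_le_left))))
  refine Coprime.le_centralizer_of_commutator_le hPU (coprime_card_of_isPGroup hP hpU)
    (N := T) (le_inf (Coprime.commutator_le_left_of_normalizer hPU) ?_) hcT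
  exact commutator_mono inf_le_right hPH

theorem not_sigma_of_tau2 {M H : Subgroup G} (hM : IsCoatom M) (hH : IsCoatom H)
    (hne : ∀ g : G, H ≠ cj g M) {p : ℕ} [Fact p.Prime] (hp2 : p ∈ Cfsg.tau2 H) {q : ℕ}
    (hqM : q ∈ Cfsg.sigma M) : q ∉ Cfsg.sigma H := fun hqH => by
  haveI := Fact.mk hqM.1
  obtain ⟨A, hA⟩ := exists_elemAb_sq hp2.2.2.2
  obtain ⟨g, hg⟩ := F.s10.exists_cj_eq hH hM hqH hqM
    (Or.inr (F.s10.tauTwo_structure hH hp2 hA).1)
  exact hne g hg.symm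

/-- BG 13.1 (b). -/
theorem commutator_inf_eq_bot {M H P : Subgroup G} (hM : IsCoatom M) (hH : IsCoatom H)
    (hne : ∀ g : G, H ≠ cj g M) {p : ℕ} [hp : Fact p.Prime] (hPM : P ≤ M) (hPH : P ≤ H)
    (hPc : Nat.card P = p) (hpM : p ∉ Cfsg.sigma M) (hp2 : p ∈ Cfsg.tau2 H) :
    ⁅Cfsg.sigmaCore M ⊓ H, M ⊓ H⁆ = ⊥ := by
  by_contra h0
  set U := Cfsg.sigmaCore M ⊓ H with hU
  set T := ⁅U, M ⊓ H⁆ with hT
  have hMHU : M ⊓ H ≤ normalizer (U : Set G) := le_normalizer_sigmaInf inf_le_left inf_le_right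
  have hTU : T ≤ U := Coprime.commutator_le_left_of_normalizer hMHU
  have hTd : T ≤ ⁅H, H⁆ := commutator_mono inf_le_right inf_le_right
  have hUs : ∀ q : ℕ, q.Prime → q ∣ Nat.card U → q ∈ Cfsg.sigma M := fun q hq hd =>
    sigmaCore_isPiNumber M q hq (hd.trans (card_dvd_of_le inf_le_left))
  -- a complement containing `U` and `P`
  have hPU : P ≤ normalizer (U : Set G) := (le_inf hPM hPH).trans hMHU
  obtain ⟨E, hE, hWE⟩ := F.s10.exists_compl_ge hH (U := U ⊔ P) (sup_le inf_le_right hPH) (by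
    intro q hq hd
    rcases hq.dvd_mul.mp (hd.trans (card_sup_dvd hPU)) with h | h
    · exact F.not_sigma_of_tau2 hM hH hne hp2 (hUs q hq h)
    · exact (Nat.prime_dvd_prime_iff_eq hq hp.out).mp (hPc ▸ h) ▸ hp2.2.1)
  have hUE : U ≤ E := le_sup_left.trans hWE
  have hPE : P ≤ E := le_sup_right.trans hWE
  obtain ⟨A, hAE, hAe, hA2⟩ := F.exists_elemAb_compl hH hp2 hE
  obtain ⟨⟨hEA, hAuniq⟩, -⟩ := F.s10.compl_structure hH hE hp2 ⟨hAE, hAe, hA2⟩
  have hPA : P ≤ A := hAuniq P hPE hPc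
  have hTE' : T ≤ ⁅E, E⁆ := (le_inf (hTU.trans hUE) hTd).trans (inf_derived_le hE)
  have hpT : ¬ p ∣ Nat.card T := not_dvd_of_le_sigmaCore (hTU.trans inf_le_left) hp.out hpM
  have hab := F.s10.commute_compl_derived hH hE
  have hTA : T ≤ centralizer (A : Set G) := by
    refine Coprime.le_centralizer_of_commutator_le_centralizer ((hTU.trans hUE).trans hEA)
      (coprime_card_of_isPGroup (elemAb_isPGroup hAe) hpT).symm ?_
    refine (commutator_mono hAE (hTU.trans hUE)).trans fun x hx => mem_centralizer_iff.mpr fun t ht => ?_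
    exact congrArg Subtype.val (hab.is_comm.comm ⟨t, hTE' ht⟩ ⟨x, hx⟩)
  obtain ⟨q, hq, hqT⟩ := Nat.exists_prime_and_dvd (fun e => h0 (eq_bot_of_card_eq _ e))
  haveI := Fact.mk hq
  obtain ⟨X, hX⟩ := BG11.exists_sylowOf q T
  have hX0 := sylowOf_ne_bot hX hqT
  have hXU : X ≤ U := hX.1.trans hTU
  have hqM := hUs q hq (hqT.trans (card_dvd_of_le hTU))
  have hXM : X ≤ M := hXU.trans (inf_le_left.trans (sigmaCore_le M))
  obtain ⟨L, hL, hN⟩ := BG11.exists_coatom_ge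
    (normalizer_ne_top' F.minSimple hX0 (ne_top_of_le_coatom hM hXM))
  have hAL : A ≤ L :=
    ((le_centralizer_iff.mp hTA).trans (centralizer_le hX.1)).trans
      ((H41.centralizer_le_normalizer X).trans hN)
  have hkey : ∀ (K : Subgroup G) (B : Subgroup G), IsCoatom K → K ≠ M →
      Cfsg.IsElementaryAbelian p B → Nat.card B = p ^ 2 → B ≤ M → B ≤ K →
      Cfsg.sigmaCore M ⊓ K = ⊥ := fun K B hK hKM hBe hB2 hBM hBK =>
    F.s10.sigmaCore_inf_eq_bot hM hpM hBM hBe hB2 hK hKM hBK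
  have hHM : H ≠ M := fun e => hne 1 (by rw [e, cj_one])
  by_cases hLM : L = M
  · exact h0 (le_bot_iff.mp (hTU.trans (hkey H A hH hHM hAe hA2 (hLM ▸ hAL)
      (hAE.trans hE.1)).le))
  obtain ⟨hneL, S, hS, hXS, hSL, hNS⟩ := F.embedding hM hqM hX.2.1 hX0 hXM hL hLM hN
  have hidx : ¬ p ∣ (M ⊓ L).relIndex L := by
    by_cases hqL : q ∈ Cfsg.sigma L
    · refine fun hd => ?_
      have hb := F.not_beta_of_sigma hM hL hneL hqM
      have hle := (F.le_betaCore_sup_normalizer hL hqL hb hSL).trans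
        (sup_le_sup_left (le_inf (inf_le_right.trans hNS) inf_le_left : _ ≤ M ⊓ L) _)
      have h1 := hd.trans (relIndex_dvd_of_le_sup inf_le_right
        (inf_le_right.trans (le_normalizer_piCoreOf _ _)) hle)
      exact (F.s10.p2_maximal H hH p hp2.2.1 hp2.2.2.1 hp2.2.2.2).1
        (piCoreOf_isPiNumber _ _ p hp.out h1).2
    · have hcompl := F.isComplIn_of_tau2 hM hL (Ne.symm hLM) hqM
        (F.tau2_of_not_sigma hM hL hqM hqL hX0 hXS hN hSL) hSL (hS.1.trans inf_le_left)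
      refine fun hd => not_mem_sigma_of_dvd_compl (F.s10.sigmaCore_hall L hL).1 hcompl hp.out
        (hPc ▸ card_dvd_of_le (le_inf hPM (hPA.trans hAL))) ?_
      exact sigmaCore_isPiNumber L p hp.out (hd.trans (relIndex_dvd_of_le_sup inf_le_right
        (inf_le_right.trans (le_normalizer_sigmaCore L)) (le_sup_of_compl hcompl)))
  obtain ⟨m, -, hm⟩ := exists_conj_le_of_not_dvd (elemAb_isPGroup hAe) hAL inf_le_right hidx
  have h1 := hkey L (cj m A) hL hLM (elemAb_cj hAe m) ((card_cj m A).trans hA2)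
    (hm.trans inf_le_left) (hm.trans inf_le_right)
  exact hX0 (le_bot_iff.mp ((le_inf (hXU.trans inf_le_left) (le_normalizer.trans hN)).trans h1.le))

/-- Nonconjugate `M`, `H` have no common `σ`-prime if some `p ∈ σ(H) \ β(H)` does not divide `|M'|`. -/
theorem not_sigma_of_not_dvd {M H : Subgroup G} (hM : IsCoatom M) (hH : IsCoatom H)
    (hne : ∀ g : G, H ≠ cj g M) {p : ℕ} [hp : Fact p.Prime] (hpM : ¬ p ∣ Nat.card ↥⁅M, M⁆)
    (hpH : p ∈ Cfsg.sigma H) (hb : p ∉ Cfsg.beta H) {q : ℕ} (hqM : q ∈ Cfsg.sigma M) :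
    q ∉ Cfsg.sigma H := fun hqH => by
  haveI := Fact.mk hqM.1
  obtain ⟨S, hS⟩ := BG11.exists_sylowOf q H
  obtain ⟨g, hg⟩ := exists_sylowOf_cj hqM hqH hS
  have h1 := F.not_dvd_derived_of_common hH hqH (F.not_beta_of_sigma hM hH hne hqM) hS
    (normalizer_le_of_mem_sigma (mem_sigma_cj g hqM) hg) hp.out hb (fun hd => hpM ?_)
  · obtain ⟨P, hP⟩ := BG11.exists_sylowOf p H
    exact h1 ((dvd_card_of_pGroup hP.2.1 (sylowOf_ne_bot hP hpH.2.1)).trans
      (card_dvd_of_le (F.pGroup_le_derived hH hP.2.1 hP.1 (Or.inl hpH))))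
  · have h2 := hd.trans (card_dvd_of_le (commutator_mono (inf_le_left : cj g M ⊓ H ≤ cj g M)
      (inf_le_left : cj g M ⊓ H ≤ cj g M)))
    rwa [show ⁅cj g M, cj g M⁆ = cj g ⁅M, M⁆ from (map_commutator M M _).symm, card_cj] at h2

/-- A prime of `σ(H) \ β(H)` divides `|L'|` when `L` contains a complement `E` and an `E`-invariant
Sylow subgroup. -/
theorem dvd_derived_of_invariant {H E S L : Subgroup G} (hH : IsCoatom H)
    (hE : Cfsg.IsComplIn E (Cfsg.sigmaCore H) H) {p : ℕ} [hp : Fact p.Prime]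
    (hpH : p ∈ Cfsg.sigma H) (hb : p ∉ Cfsg.beta H) (hS : IsSylowOf p S (Cfsg.sigmaCore H))
    (hES : E ≤ normalizer (S : Set G)) (hSL : S ≤ L) (hEL : E ≤ L) :
    p ∣ Nat.card ↥⁅L, L⁆ := by
  by_contra hd
  refine F.sylow_not_le_derived hH hpH hb hS ((le_inf hS.1 ?_).trans (F.compl_fixed_le H hH E hE))
  rw [← commutator_eq_bot_iff_le_centralizer]
  refine le_bot_iff.mp ((le_inf (Coprime.commutator_le_left_of_normalizer hES)
    (commutator_mono hSL hEL)).trans ?_)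
  exact (Coprime.inf_eq_bot (coprime_card_of_isPGroup hS.2.1 hd)).le

/-- BG 13.1 (c). -/
theorem beta_of_tau1 {M H P : Subgroup G} (hM : IsCoatom M) (hH : IsCoatom H)
    (hne : ∀ g : G, H ≠ cj g M) {p : ℕ} [hp : Fact p.Prime] (hp1 : p ∈ Cfsg.tau1 M)
    (hPM : P ≤ M) (hPH : P ≤ H) (hPc : Nat.card P = p) (hpH : p ∈ Cfsg.sigma H)
    (hT : ⁅Cfsg.sigmaCore M ⊓ H, M ⊓ H⁆ ≠ ⊥) : p ∈ Cfsg.beta H := by
  by_contra hb
  have hpM' : ¬ p ∣ Nat.card ↥⁅M, M⁆ := hp1.2.2.2.1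
  have hpd : ∀ D : Subgroup G, D ≤ M → ¬ p ∣ Nat.card ↥⁅D, D⁆ := fun D hD h =>
    hpM' (h.trans (card_dvd_of_le (commutator_mono hD hD)))
  set U := Cfsg.sigmaCore M ⊓ H with hU
  set T := ⁅U, M ⊓ H⁆
  have hTU : T ≤ U := Coprime.commutator_le_left_of_normalizer
    (le_normalizer_sigmaInf inf_le_left inf_le_right)
  have hTd : T ≤ ⁅H, H⁆ := commutator_mono inf_le_right inf_le_right
  have hPp : IsPGroup p P := IsPGroup.of_card (n := 1) (by rw [hPc, pow_one])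
  have hPU : P ≤ centralizer (U : Set G) :=
    F.le_centralizer_inf hM hH hne hPp hPM hPH hp1.2.1 (Or.inl hpH)
  have hUs : ∀ q : ℕ, q.Prime → q ∣ Nat.card U → q ∈ Cfsg.sigma M := fun q hq hd =>
    sigmaCore_isPiNumber M q hq (hd.trans (card_dvd_of_le inf_le_left))
  obtain ⟨E, hE, hUE⟩ := F.s10.exists_compl_ge hH (U := U) inf_le_right fun q hq hd =>
    F.not_sigma_of_not_dvd hM hH hne hpM' hpH hb (hUs q hq hd)
  have hTE' : T ≤ ⁅E, E⁆ := (le_inf (hTU.trans hUE) hTd).trans (inf_derived_le hE)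
  obtain ⟨q, hq, hqT⟩ := Nat.exists_prime_and_dvd (fun e => hT (eq_bot_of_card_eq _ e))
  haveI := Fact.mk hq
  obtain ⟨Z, hZT, hZc⟩ := exists_prime_sub hqT
  have hZq : IsPGroup q Z := IsPGroup.of_card (n := 1) (by rw [hZc, pow_one])
  have hZ0 : Z ≠ ⊥ := ne_bot_of_prime_card (hZc ▸ hq)
  have hqM := hUs q hq (hqT.trans (card_dvd_of_le hTU))
  have hqH := F.not_sigma_of_not_dvd hM hH hne hpM' hpH hb hqM
  have hqH' : q ∣ Nat.card ↥⁅H, H⁆ := hqT.trans (card_dvd_of_le hTd)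
  have hZE : Z ≤ E := (hZT.trans hTU).trans hUE
  have hZM : Z ≤ M := (hZT.trans hTU).trans (inf_le_left.trans (sigmaCore_le M))
  obtain ⟨L, hL, hN⟩ := BG11.exists_coatom_ge
    (normalizer_ne_top' F.minSimple hZ0 (ne_top_of_le_coatom hM hZM))
  have hCL : centralizer (Z : Set G) ≤ L := (H41.centralizer_le_normalizer Z).trans hN
  have hPL : P ≤ L := (hPU.trans (centralizer_le (hZT.trans hTU))).trans hCL
  have hne' : H ≠ M := fun e => hne 1 (by rw [e, cj_one])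
  rcases tau_cases (F.s10.alpha_subset_sigma hH) hq (hqH'.trans (card_dvd_of_le (derived_le H)))
    hqH with h1 | h2 | h3
  · exact h1.2.2.2.1 hqH'
  · obtain ⟨A, hAE, hAe, hA2⟩ := F.exists_elemAb_compl hH h2 hE
    obtain ⟨⟨-, hAuniq⟩, -⟩ := F.s10.compl_structure hH hE h2 ⟨hAE, hAe, hA2⟩
    have hAL : A ≤ L := (show A ≤ centralizer (Z : Set G) from fun a ha =>
      mem_centralizer_iff.mpr fun z hz => elemAb_commute hAe (hAuniq Z hZE hZc hz) ha).trans hCL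
    by_cases hLH : L = H
    · subst hLH
      obtain ⟨-, S, hS, hZS, hSL, -⟩ := F.embedding hM hqM hZq hZ0 hZM hL hne' hN
      refine not_mem_sigma_of_dvd_compl (F.s10.sigmaCore_hall L hL).1
        (F.isComplIn_of_tau2 hM hL (Ne.symm hne') hqM h2 hSL (hS.1.trans inf_le_left)) hp.out
        (hPc ▸ card_dvd_of_le (le_inf hPM hPH)) hpH
    · have h := F.s10.sigmaCore_inf_eq_bot hH hqH (hAE.trans hE.1) hAe hA2 hL hLH hAL
      exact ne_bot_of_prime_card (hPc ▸ hp.out)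
        (le_bot_iff.mp ((le_inf (F.s10.le_sigmaCore_of_isPGroup hH hpH hPH hPp) hPL).trans h.le))
  · obtain ⟨-, hZd, hEZ⟩ := F.tau3_le hH hE hZE fun r hr hd =>
      prime_of_dvd_pGroup hZq hr hd ▸ h3
    have hneH : ∀ g : G, L ≠ cj g H :=
      ((F.normalizer_tau13_basic hH (Or.inr h3) (hZE.trans hE.1) hZc).2 L hL hN).1
    obtain ⟨S, hS, -, hES⟩ := exists_invariant_sylowOf (q := p) (U := ⊥)
      (compl_le_normalizer_sigmaCore hE) (F.compl_coprime hH hE)
      (F.isSolvable_le hH (sigmaCore_le H)) bot_le IsPGroup.of_bot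
      (fun a _ => cj_eq_iff.mp (Subgroup.map_bot _))
    have hZS : Z ≤ centralizer (S : Set G) := F.s10.le_centralizer_of_not_beta hH
      (fun e => hqH (by rw [e]; exact hpH)) hZq hS.2.1 (hZd.trans (commutator_mono hE.1 hE.1))
      (F.pGroup_le_derived hH hS.2.1 (hS.1.trans (sigmaCore_le H)) (Or.inl hpH))
      (hZE.trans hES) hb
    have hdL := F.dvd_derived_of_invariant hH hE hpH hb hS hES
      ((le_centralizer_iff.mp hZS).trans hCL) (hEZ.trans hN)
    by_cases hLM : L = M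
    · exact hpM' (hLM ▸ hdL)
    obtain ⟨hneL, S', hS', hZS', hSL', hNS'⟩ := F.embedding hM hqM hZq hZ0 hZM hL hLM hN
    by_cases hqL : q ∈ Cfsg.sigma L
    · exact F.not_dvd_derived_of_common hL hqL (F.not_beta_of_sigma hM hL hneL hqM) hSL' hNS'
        hp.out (F.not_beta_of_sigma hH hL hneH hpH) (hpd _ inf_le_left) hdL
    · have hc := F.isComplIn_of_tau2 hM hL (Ne.symm hLM) hqM
        (F.tau2_of_not_sigma hM hL hqM hqL hZ0 hZS' hN hSL') hSL' (hS'.1.trans inf_le_left)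
      refine not_dvd_derived (sigmaCore_le L) (le_normalizer_sigmaCore L) hc.1 (le_sup_of_compl hc)
        hp.out (fun h => ?_) (hpd _ inf_le_left) hdL
      exact not_mem_sigma_of_dvd_compl (F.s10.sigmaCore_hall L hL).1 hc hp.out
        (hPc ▸ card_dvd_of_le (le_inf hPM hPL)) (sigmaCore_isPiNumber L p hp.out h)

/-- A subgroup of prime power order of `M ∩ H` for a prime outside `σ(M) ∪ τ₁(H)` centralizes
`M_σ ∩ H`. -/
theorem le_centralizer_inf_of_not_tau1 {M H R : Subgroup G} (hM : IsCoatom M) (hH : IsCoatom H)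
    (hne : ∀ g : G, H ≠ cj g M) {r : ℕ} [hr : Fact r.Prime] (hR : IsPGroup r R) (hRM : R ≤ M)
    (hRH : R ≤ H) (hrM : r ∉ Cfsg.sigma M) (hr1 : r ∉ Cfsg.tau1 H) :
    R ≤ centralizer ((Cfsg.sigmaCore M ⊓ H : Subgroup G) : Set G) := by
  rcases eq_or_ne R ⊥ with rfl | hR0
  · exact bot_le
  have hd := dvd_card_of_pGroup hR hR0
  by_cases hs : r ∈ Cfsg.sigma H
  · exact F.le_centralizer_inf hM hH hne hR hRM hRH hrM (Or.inl hs)
  rcases tau_cases (F.s10.alpha_subset_sigma hH) hr.out (hd.trans (card_dvd_of_le hRH)) hs with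
    h | h | h
  · exact absurd h hr1
  · obtain ⟨P, hPR, hPc⟩ := exists_prime_sub hd
    have h1 := F.commutator_inf_eq_bot hM hH hne (hPR.trans hRM) (hPR.trans hRH) hPc hrM h
    rw [commutator_eq_bot_iff_le_centralizer] at h1
    exact le_centralizer_iff.mp (h1.trans (centralizer_le (le_inf hRM hRH)))
  · exact F.le_centralizer_inf hM hH hne hR hRM hRH hrM (Or.inr h)

/-- BG 13.2. -/
theorem normalizer_tau13' {M X H : Subgroup G} (hM : IsCoatom M) {p : ℕ} [hp : Fact p.Prime]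
    (hpτ : p ∈ Cfsg.tau1 M ∪ Cfsg.tau3 M) (hXM : X ≤ M) (hX : Nat.card X = p) (hH : IsCoatom H)
    (hN : normalizer (X : Set G) ≤ H) :
    (∀ g : G, H ≠ cj g M) ∧ p ∈ Cfsg.sigma H ∪ Cfsg.tau2 H ∧
      (⁅Cfsg.sigmaCore M ⊓ H, M ⊓ H⁆ ≠ ⊥ →
        p ∈ Cfsg.sigma H ∧ (p ∈ Cfsg.tau1 M → p ∈ Cfsg.beta H)) := by
  obtain ⟨hne, hpH⟩ := (F.normalizer_tau13_basic hM hpτ hXM hX).2 H hH hN
  have hs : p ∉ Cfsg.sigma M := hpτ.elim (fun h => h.2.1) fun h => h.2.1
  have hXH : X ≤ H := le_normalizer.trans hN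
  refine ⟨hne, hpH, fun hT => ?_⟩
  have h1 : p ∈ Cfsg.sigma H := hpH.resolve_right fun h =>
    hT (F.commutator_inf_eq_bot hM hH hne hXM hXH hX hs h)
  exact ⟨h1, fun h => F.beta_of_tau1 hM hH hne h hXM hXH hX h1 hT⟩

/-- A `p`-group over a subgroup of order `p ∈ τ₁ ∪ τ₃` has the same fixed points on `M_σ`. -/
theorem fixed_le_centralizer {M X Q : Subgroup G} (hM : IsCoatom M) {p : ℕ} [hp : Fact p.Prime]
    (hpτ : p ∈ Cfsg.tau1 M ∪ Cfsg.tau3 M) (hX : Nat.card X = p) (hXQ : X ≤ Q)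
    (hQ : IsPGroup p Q) (hQM : Q ≤ M) :
    Cfsg.sigmaCore M ⊓ centralizer (X : Set G) ≤ centralizer (Q : Set G) := by
  have hs : p ∉ Cfsg.sigma M := hpτ.elim (fun h => h.2.1) fun h => h.2.1
  have hr : Cfsg.PRankLE p 1 M := hpτ.elim (fun h => h.2.2.2.2) fun h => h.2.2.2
  have hXM := hXQ.trans hQM
  obtain ⟨H, hH, hN⟩ := BG11.exists_coatom_ge (normalizer_ne_top' F.minSimple
    (ne_bot_of_prime_card (hX ▸ hp.out)) (ne_top_of_le_coatom hM hXM))
  obtain ⟨hne, hpH, -⟩ := F.normalizer_tau13' hM hpτ hXM hX hH hN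
  have hcyc := F.isCyclic_of_rank_one hr hQ hQM
  have hQH : Q ≤ H :=
    ((le_normalizer (H := Q)).trans (normalizer_le_of_cyclic hcyc hXQ)).trans hN
  have hr1 : p ∉ Cfsg.tau1 H := fun h =>
    hpH.elim h.2.1 fun h2 => h2.2.2.2 h.2.2.2.2
  exact (inf_le_inf_left _ ((H41.centralizer_le_normalizer X).trans hN)).trans
    (le_centralizer_iff.mp (F.le_centralizer_inf_of_not_tau1 hM hH hne hQ hQM hQH hs hr1))

/-- For `X ≤ E` of order `p ∈ τ₃(M)`, `E'` centralizes the fixed points of `X` on `M_σ`. -/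
theorem derived_le_centralizer_fixed {M E X : Subgroup G} (hM : IsCoatom M)
    (hE : Cfsg.IsComplIn E (Cfsg.sigmaCore M) M) {p : ℕ} [hp : Fact p.Prime]
    (hp3 : p ∈ Cfsg.tau3 M) (hXE : X ≤ E) (hX : Nat.card X = p) :
    ⁅E, E⁆ ≤ centralizer ((Cfsg.sigmaCore M ⊓ centralizer (X : Set G) : Subgroup G) : Set G) := by
  have hXM := hXE.trans hE.1
  obtain ⟨H, hH, hN⟩ := BG11.exists_coatom_ge (normalizer_ne_top' F.minSimple
    (ne_bot_of_prime_card (hX ▸ hp.out)) (ne_top_of_le_coatom hM hXM))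
  obtain ⟨hne, -, -⟩ := F.normalizer_tau13' hM (Or.inr hp3) hXM hX hH hN
  have hEH : E ≤ H := (F.tau3_le hM hE hXE fun q hq hd =>
    (Nat.prime_dvd_prime_iff_eq hq hp.out).mp (hX ▸ hd) ▸ hp3).2.2.trans hN
  refine le_trans ?_ (centralizer_le (inf_le_inf_left _
    ((H41.centralizer_le_normalizer X).trans hN)))
  refine Coprime.le_of_forall_sylow_le fun r hr R hR hRr => ?_
  haveI := Fact.mk hr
  rcases eq_or_ne R ⊥ with rfl | hR0
  · exact bot_le
  have hd := (dvd_card_of_pGroup hRr hR0).trans (card_dvd_of_le hR)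
  refine F.le_centralizer_inf_of_not_tau1 hM hH hne hRr
    (hR.trans ((derived_le E).trans hE.1)) (hR.trans ((derived_le E).trans hEH)) ?_ fun h => ?_
  · exact not_mem_sigma_of_dvd_compl (F.s10.sigmaCore_hall M hM).1 hE hr
      (hd.trans (card_dvd_of_le (derived_le E)))
  · exact h.2.2.2.1 (hd.trans (card_dvd_of_le (commutator_mono hEH hEH)))

/-- A Hall `τ₃`-subgroup is semiprime on `M_σ`. -/
theorem tau3_semiprime {M E U : Subgroup G} (hM : IsCoatom M)
    (hE : Cfsg.IsComplIn E (Cfsg.sigmaCore M) M) (hUE : U ≤ E)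
    (hU : ∀ q : ℕ, q.Prime → q ∣ Nat.card U → q ∈ Cfsg.tau3 M) {x : G} (hx : x ∈ U) (hx1 : x ≠ 1) :
    Cfsg.sigmaCore M ⊓ centralizer ({x} : Set G) = Cfsg.sigmaCore M ⊓ centralizer (U : Set G) := by
  refine le_antisymm ?_ (inf_le_inf_left _ (centralizer_le (Set.singleton_subset_iff.mpr hx)))
  obtain ⟨q, hq, hqd⟩ := Nat.exists_prime_and_dvd (mt orderOf_eq_one_iff.mp hx1)
  haveI := Fact.mk hq
  obtain ⟨Z, hZ, hZc⟩ := exists_prime_sub (T := zpowers x) (q := q) (by rwa [Nat.card_zpowers])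
  have hq3 := hU q hq (hZc ▸ card_dvd_of_le (hZ.trans (zpowers_le.mpr hx)))
  rw [← centralizer_zpowers]
  refine le_inf inf_le_left ((inf_le_inf_left _ (centralizer_le hZ)).trans ?_)
  exact le_centralizer_iff.mp ((F.tau3_le hM hE hUE hU).2.1.trans
    (F.derived_le_centralizer_fixed hM hE hq3 (hZ.trans ((zpowers_le.mpr hx).trans hUE)) hZc))

end HypCore

end Cfsg.Agent.OddOrder.BG13
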