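import Cfsg.Agent.OddOrder.BG11.TauTwo
import Cfsg.Agent.OddOrder.BG11.Abelian

/-!
# Interface of BG §13

`Hyp G` lists what §13 takes from §10 and §12 (beyond the theorems already proved over `Section10`),
each field having the shape of a listed statement or of a part of one. `Results G` lists what §13
gives to §14.
-/

set_option autoImplicit false

universe u

namespace Cfsg.Agent.OddOrder.BG13

open Subgroup

/-- The inputs of BG 13.1 - 13.3, from which BG 13.4 (S1428) follows. -/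
structure HypCore (G : Type u) [Group G] [Finite G] : Prop where
  s10 : BG11.Section10 G
  /-- Statement shape of S1415. -/
  tau13_structure : ∀ M : Subgroup G, IsCoatom M → ∀ E : Subgroup G,
    Cfsg.IsComplIn E (Cfsg.sigmaCore M) M →
    Group.IsNilpotent ↥⁅E, E⁆ ∧
      (∀ E₁ : Subgroup G, Cfsg.IsPiHallOf (Cfsg.tau1 M) E₁ E → IsCyclic E₁) ∧
      ∀ E₃ : Subgroup G, Cfsg.IsPiHallOf (Cfsg.tau3 M) E₃ E →
        IsCyclic E₃ ∧ E₃ ≤ ⁅E, E⁆ ∧ E ≤ normalizer (E₃ : Set G)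
  /-- Statement shape of S1423. -/
  sigma_element : ∀ M : Subgroup G, IsCoatom M → ∀ (p : ℕ) [Fact p.Prime], p ∈ Cfsg.sigma M →
    ∀ X : Subgroup G, X ≤ M → Nat.card X = p → ∀ P : Sylow p ↥(Cfsg.sigmaCore M),
    (p ∈ Cfsg.beta M ∨ X ≤ ⁅Cfsg.sigmaCore M, Cfsg.sigmaCore M⁆) →
    (centralizer (X : Set G) ≤ M ∧
        ∀ L : Subgroup G, IsCoatom L → centralizer (X : Set G) ≤ L → L = M) ∧
      Cfsg.InUniqueMaximal
        ((P : Subgroup ↥(Cfsg.sigmaCore M)).map (Cfsg.sigmaCore M).subtype) ∧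
      (P : Subgroup ↥(Cfsg.sigmaCore M)).map (Cfsg.sigmaCore M).subtype ≤ M
  /-- Statement shape of S1424. -/
  sigma_embedding : ∀ M : Subgroup G, IsCoatom M → ∀ (q : ℕ) [Fact q.Prime], q ∈ Cfsg.sigma M →
    ∀ X : Subgroup G, IsPGroup q X → X ≠ ⊥ → X ≤ M →
    ∀ L : Subgroup G, IsCoatom L → L ≠ M → normalizer (X : Set G) ≤ L →
    ∀ S : Sylow q ↥(M ⊓ L), X ≤ (S : Subgroup ↥(M ⊓ L)).map (M ⊓ L).subtype →
      (∀ g : G, L ≠ M.map (MulAut.conj g).toMonoidHom) ∧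
        normalizer (((S : Subgroup ↥(M ⊓ L)).map (M ⊓ L).subtype : Subgroup G) : Set G) ≤ M ∧
        ¬ q ∣ ((S : Subgroup ↥(M ⊓ L)).map (M ⊓ L).subtype).relIndex L
  /-- The first assertion of S1426. -/
  compl_fixed_le : ∀ M : Subgroup G, IsCoatom M → ∀ E : Subgroup G,
    Cfsg.IsComplIn E (Cfsg.sigmaCore M) M →
    Cfsg.sigmaCore M ⊓ centralizer (E : Set G) ≤ ⁅Cfsg.sigmaCore M, Cfsg.sigmaCore M⁆

/-- The inputs of §13. -/
structure Hyp (G : Type u) [Group G] [Finite G] : Prop extends HypCore G where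
  /-- Statement shape of S1428. -/
  tau1_fixed_le : ∀ M : Subgroup G, IsCoatom M → ∀ E : Subgroup G,
    Cfsg.IsComplIn E (Cfsg.sigmaCore M) M → ∀ p : ℕ, p ∈ Cfsg.tau1 M →
    ∀ P : Subgroup G, P ≤ E → Nat.card P = p →
    ∀ R : Subgroup G, R ≤ E ⊓ centralizer (P : Set G) → (Nat.card R).Prime →
      Cfsg.sigmaCore M ⊓ centralizer (P : Set G) ≤ Cfsg.sigmaCore M ⊓ centralizer (R : Set G)

/-- What §13 gives to §14. -/
structure Results (G : Type u) [Group G] [Finite G] : Prop where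
  /-- BG 13.9. -/
  sigma_disjoint : ∀ M H : Subgroup G, IsCoatom M → IsCoatom H →
    (Cfsg.sigma M ∩ Cfsg.sigma H).Nonempty → ∃ g : G, H = M.map (MulAut.conj g).toMonoidHom
  /-- BG 13.2, for a subgroup of order `p ∈ τ₁ ∪ τ₃`. -/
  normalizer_tau13 : ∀ M : Subgroup G, IsCoatom M → ∀ p : ℕ, p ∈ Cfsg.tau1 M ∪ Cfsg.tau3 M →
    ∀ X : Subgroup G, X ≤ M → Nat.card X = p →
    ¬ normalizer (X : Set G) ≤ M ∧
      ∀ H : Subgroup G, IsCoatom H → normalizer (X : Set G) ≤ H →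
        (∀ g : G, H ≠ M.map (MulAut.conj g).toMonoidHom) ∧ p ∈ Cfsg.sigma H ∪ Cfsg.tau2 H ∧
          (⁅Cfsg.sigmaCore M ⊓ H, M ⊓ H⁆ ≠ ⊥ → p ∈ Cfsg.sigma H)
  /-- An element of prime order of `M_σ` centralized by a `κ`-element (BG 13.6). -/
  fixed_element : ∀ M : Subgroup G, IsCoatom M → ∀ p : ℕ, p ∈ Cfsg.tau1 M ∪ Cfsg.tau3 M →
    ∀ X : Subgroup G, X ≤ M → Nat.card X = p →
    ∀ z : G, z ∈ Cfsg.sigmaCore M → z ∈ centralizer (X : Set G) → (orderOf z).Prime →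
      (centralizer ({z} : Set G) ≤ M ∧
          ∀ L : Subgroup G, IsCoatom L → centralizer ({z} : Set G) ≤ L → L = M) ∧
        ∀ S : Sylow (orderOf z) ↥(Cfsg.sigmaCore M), Cfsg.InUniqueMaximal
          ((S : Subgroup ↥(Cfsg.sigmaCore M)).map (Cfsg.sigmaCore M).subtype)
  /-- BG 13.11: a `τ₃`-subgroup of prime order with nontrivial fixed points on `M_σ`. -/
  tau3_structure : ∀ M : Subgroup G, IsCoatom M → ∀ E : Subgroup G,
    Cfsg.IsComplIn E (Cfsg.sigmaCore M) M → ∀ p : ℕ, p ∈ Cfsg.tau3 M →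
    ∀ P : Subgroup G, P ≤ E → Nat.card P = p →
    Cfsg.sigmaCore M ⊓ centralizer (P : Set G) ≠ ⊥ →
      Cfsg.tau2 M = ∅ ∧ (∃ r ∈ Cfsg.tau1 M, r ∣ Nat.card E) ∧
        (∀ X : Subgroup G, X ≤ E → (Nat.card X).Prime → E ≤ normalizer (X : Set G)) ∧
        ∀ x ∈ E, x ≠ 1 → Cfsg.sigmaCore M ⊓ centralizer ({x} : Set G) =
          Cfsg.sigmaCore M ⊓ centralizer (E : Set G)
  /-- BG 13.5: a Hall `τ₁`-subgroup of `E` is semiprime on `M_σ`. -/
  tau1_semiprime : ∀ M : Subgroup G, IsCoatom M → ∀ E : Subgroup G,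
    Cfsg.IsComplIn E (Cfsg.sigmaCore M) M →
    ∀ E₁ : Subgroup G, Cfsg.IsPiHallOf (Cfsg.tau1 M) E₁ E → ∀ x ∈ E₁, x ≠ 1 →
      Cfsg.sigmaCore M ⊓ centralizer ({x} : Set G) = Cfsg.sigmaCore M ⊓ centralizer (E₁ : Set G)
  /-- BG 13.7, 13.12: what a `τ₁`-subgroup with nontrivial fixed points on `M_σ` can centralize
  in `E`: no `τ₂`-subgroup, and only `τ₃`-subgroups with the same fixed points. -/
  tau1_centralizes : ∀ M : Subgroup G, IsCoatom M → ∀ E : Subgroup G,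
    Cfsg.IsComplIn E (Cfsg.sigmaCore M) M → ∀ r : ℕ, r ∈ Cfsg.tau1 M →
    ∀ R : Subgroup G, R ≤ E → Nat.card R = r →
    Cfsg.sigmaCore M ⊓ centralizer (R : Set G) ≠ ⊥ →
    ∀ s : ℕ, s ∈ Cfsg.tau2 M ∪ Cfsg.tau3 M →
    ∀ Y : Subgroup G, Y ≤ E → Nat.card Y = s → Y ≤ centralizer (R : Set G) →
      s ∈ Cfsg.tau3 M ∧
        Cfsg.sigmaCore M ⊓ centralizer (Y : Set G) = Cfsg.sigmaCore M ⊓ centralizer (R : Set G)
  /-- The fixed line of a prime-order operator on a `τ₂`-elementary group. -/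
  tau2_line : ∀ M : Subgroup G, IsCoatom M → ∀ p : ℕ, p ∈ Cfsg.tau2 M →
    ∀ A : Subgroup G, A ≤ M → Cfsg.IsElementaryAbelian p A → Nat.card A = p ^ 2 →
    ∀ z : G, z ∈ normalizer (A : Set G) → (orderOf z).Prime → orderOf z ≠ p →
    Nat.card ↥(A ⊓ centralizer ({z} : Set G)) = p →
      ¬ normalizer ((A ⊓ centralizer ({z} : Set G) : Subgroup G) : Set G) ≤ M
  /-- BG 12.15 (e), given that `σ` separates the classes. -/
  embedding_tau2 : ∀ M : Subgroup G, IsCoatom M → ∀ q : ℕ, q ∈ Cfsg.sigma M →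
    ∀ X : Subgroup G, IsPGroup q X → X ≠ ⊥ → X ≤ M →
    ∀ N : Subgroup G, IsCoatom N → N ≠ M → normalizer (X : Set G) ≤ N →
      (∀ g : G, N ≠ M.map (MulAut.conj g).toMonoidHom) ∧ q ∈ Cfsg.tau2 N ∧
        Cfsg.IsComplIn (M ⊓ N) (Cfsg.sigmaCore N) N

end Cfsg.Agent.OddOrder.BG13
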