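import Cfsg.Agent.OddOrder.BG13.Main
import Cfsg.Agent.OddOrder.BG13.Instance

/-!
# BG §13, unconditionally
-/

set_option autoImplicit false

universe u

namespace Cfsg.Agent.OddOrder.BG13

/-- The results of BG §13 for a minimal simple group of odd order. -/
theorem results {G : Type u} [Group G] [Finite G] (hG : Cfsg.IsMinSimpleOddOrder G) : Results G :=
  (hyp hG).results

end Cfsg.Agent.OddOrder.BG13
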