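import Cfsg.Agent.OddOrder.BG13.Tau1

/-!
# BG 13.9: nonconjugate maximal subgroups have disjoint `σ`
-/

set_option autoImplicit false

universe u

namespace Cfsg.Agent.OddOrder.BG13

open Subgroup H40 BG11
open scoped commutatorElement

variable {G : Type u} [Group G] [Finite G]

theorem commutator_eq_of_fpf {S R : Subgroup G} {r : ℕ} [hr : Fact r.Prime] (hR : Nat.card R = r)
    (hn : R ≤ normalizer (S : Set G)) (hc : (Nat.card R).Coprime (Nat.card S))
    (hf : S ⊓ centralizer (R : Set G) = ⊥) : ⁅S, R⁆ = S := by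
  haveI := isCyclic_of_prime_card (α := R) hR
  have h := Coprime.commutator_sup_centralizer hn hc (Or.inl inferInstance)
  rwa [hf, sup_bot_eq] at h

theorem orderOf_eq_of_pGroup {p : ℕ} [hp : Fact p.Prime] {X : Subgroup G} (hX : IsPGroup p X)
    {x : G} (hx : x ∈ X) (hxp : (orderOf x).Prime) : orderOf x = p :=
  prime_of_dvd_pGroup hX hxp (X.orderOf_dvd_natCard hx)

omit [Finite G] in
theorem nonconj_cj {M H : Subgroup G} (hne : ∀ g : G, H ≠ cj g M) (g x : G) : cj g H ≠ cj x M :=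
  fun e => hne (g⁻¹ * x) (by rw [cj_mul, ← e, cj_inv_cj])

/-- A normal nontrivial `s`-subgroup normalizes every line when the `s`-subgroups are cyclic. -/
theorem le_normalizer_line {J N : Subgroup G} {s : ℕ} [hs : Fact s.Prime] (hNJ : N ≤ J)
    (hn : J ≤ normalizer (N : Set G)) (hN : IsPGroup s N) (hN0 : N ≠ ⊥)
    (hcyc : ∀ W : Subgroup G, W ≤ J → IsPGroup s W → IsCyclic W) {z : G} (hz : z ∈ J)
    (hzs : orderOf z = s) : J ≤ normalizer (zpowers z : Set G) := by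
  have hZc : Nat.card (zpowers z) = s := by rw [Nat.card_zpowers, hzs]
  obtain ⟨W, hW, hzW⟩ := exists_sylowOf_ge' (isPGroup_of_card_eq hZc) (zpowers_le.mpr hz)
  obtain ⟨m, hm, hle⟩ := BG11.exists_conj_le hW hN hNJ
  rw [cj_eq_iff.mpr (hn hm)] at hle
  obtain ⟨Z₀, hZ₀, hZ₀c⟩ := exists_prime_sub (dvd_card_of_pGroup hN hN0)
  have h : Z₀ = zpowers z := H41.eq_of_card_eq_of_le_cyclic (hcyc W hW.1 hW.2.1)
    (hZ₀.trans hle) hzW (hZ₀c.trans hZc.symm)
  exact hn.trans (normalizer_le_of_cyclic (hcyc N hNJ hN) (h ▸ hZ₀))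

/-- Of two elements of prime order in a solvable group with two primes and cyclic Sylow subgroups,
one normalizes the group generated by the other. -/
theorem normalizes_of_two_primes {J : Subgroup G} (hJs : Group.IsSolvable J) {s t : ℕ}
    [Fact s.Prime] [Fact t.Prime]
    (hJ : ∀ x : ℕ, x.Prime → x ∣ Nat.card J → x = s ∨ x = t)
    (hcs : ∀ W : Subgroup G, W ≤ J → IsPGroup s W → IsCyclic W)
    (hct : ∀ W : Subgroup G, W ≤ J → IsPGroup t W → IsCyclic W)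
    {z u : G} (hz : z ∈ J) (hzs : orderOf z = s) (hu : u ∈ J) (hut : orderOf u = t) :
    u ∈ normalizer (zpowers z : Set G) ∨ z ∈ normalizer (zpowers u : Set G) := by
  have hJ0 : J ≠ ⊥ := fun e => by
    rw [e, mem_bot] at hz
    rw [hz, orderOf_one] at hzs
    exact (Fact.out : s.Prime).ne_one hzs.symm
  obtain ⟨p, N, hp, hN0, hNJ, hn, -, hN⟩ :=
    Coprime.exists_invariant_normal_pgroup (A := J) le_normalizer hJs hJ0
  haveI := Fact.mk hp
  rcases hJ p hp ((dvd_card_of_pGroup hN hN0).trans (card_dvd_of_le hNJ)) with e | e <;> subst e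
  · exact Or.inl (le_normalizer_line hNJ hn hN hN0 hcs hz hzs hu)
  · exact Or.inr (le_normalizer_line hNJ hn hN hN0 hct hu hut hz)

namespace Hyp

variable (F : Hyp G)
include F

/-- The normalizer of a line for an ideal prime of `σ(M)`. -/
theorem normalizer_le_of_beta_element {M : Subgroup G} (hM : IsCoatom M) {z : G} {s : ℕ}
    (hz : z ∈ M) (hzs : orderOf z = s) (hs : s ∈ Cfsg.beta M) :
    normalizer (zpowers z : Set G) ≤ M := by
  haveI := Fact.mk hs.1.1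
  have hZc : Nat.card (zpowers z) = s := by rw [Nat.card_zpowers, hzs]
  obtain ⟨T⟩ : Nonempty (Sylow s ↥(Cfsg.sigmaCore M)) := inferInstance
  have h := (F.sigma_element M hM s (F.beta_subset_sigma hM hs) _ (zpowers_le.mpr hz) hZc T
    (Or.inl hs)).1
  exact le_of_unique (normalizer_ne_top' F.minSimple (ne_bot_of_prime_card (hZc ▸ hs.1.1))
    (ne_top_of_le_coatom hM (zpowers_le.mpr hz))) h.2 (H41.centralizer_le_normalizer _)

/-- The local argument in the centralizer of `R`. -/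
theorem false_of_local_pair {M H R : Subgroup G} (hM : IsCoatom M) (hH : IsCoatom H) {r : ℕ}
    [hr : Fact r.Prime] (hrM : r ∈ Cfsg.tau1 M) (hrH : r ∈ Cfsg.tau1 H) (hRM : R ≤ M)
    (hRH : R ≤ H) (hR : Nat.card R = r) {z w : G} {s t : ℕ}
    (hz : z ∈ Cfsg.sigmaCore M) (hzR : z ∈ centralizer (R : Set G)) (hzs : orderOf z = s)
    (hs : s ∈ Cfsg.beta M)
    (hw : w ∈ Cfsg.sigmaCore H) (hwR : w ∈ centralizer (R : Set G)) (hwt : orderOf w = t)
    (ht : t ∈ Cfsg.beta H)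
    (hblockM : ∀ u ∈ M, u ∈ centralizer (R : Set G) → orderOf u = t → False)
    (hblockH : ∀ u ∈ H, u ∈ centralizer (R : Set G) → orderOf u = s → False) : False := by
  haveI := Fact.mk hs.1.1
  haveI := Fact.mk ht.1.1
  have hR0 := ne_bot_of_prime_card (hR ▸ hr.out)
  obtain ⟨L, hL, hN⟩ := BG11.exists_coatom_ge
    (normalizer_ne_top' F.minSimple hR0 (ne_top_of_le_coatom hM hRM))
  have hneM := ((F.normalizer_tau13_basic hM (Or.inl hrM) hRM hR).2 L hL hN).1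
  have hneH := ((F.normalizer_tau13_basic hH (Or.inl hrH) hRH hR).2 L hL hN).1
  have hs1 : Cfsg.PRankLE s 1 L := F.rank_one_of_ideal hL
    (fun h => F.not_beta_of_sigma hL hM (nonconj_symm hneM) h hs) hs.2
  have ht1 : Cfsg.PRankLE t 1 L := F.rank_one_of_ideal hL
    (fun h => F.not_beta_of_sigma hL hH (nonconj_symm hneH) h ht) ht.2
  set D := centralizer (R : Set G)
  have hDL : D ≤ L := (H41.centralizer_le_normalizer R).trans hN
  have hDs := F.isSolvable_le hL hDL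
  obtain ⟨J, hJ, hzJ⟩ := exists_hall_ge (π := {x | x = s ∨ x = t}) hDs (zpowers_le.mpr hzR)
    fun x hx hd => Or.inl ((Nat.prime_dvd_prime_iff_eq hx hs.1.1).mp
      (by rwa [Nat.card_zpowers, hzs] at hd))
  obtain ⟨J', hJ', hwJ⟩ := exists_hall_ge (π := {x | x = s ∨ x = t}) hDs (zpowers_le.mpr hwR)
    fun x hx hd => Or.inr ((Nat.prime_dvd_prime_iff_eq hx ht.1.1).mp
      (by rwa [Nat.card_zpowers, hwt] at hd))
  obtain ⟨d, hd, e⟩ := Coprime.exists_conj_hallOf hDs hJ' hJ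
  have huJ : d * w * d⁻¹ ∈ J := e.le (conj_mem_cj d (hwJ (mem_zpowers w)))
  have hut : orderOf (d * w * d⁻¹) = t := (MulEquiv.orderOf_eq (MulAut.conj d) w).trans hwt
  rcases normalizes_of_two_primes (F.isSolvable_le hL (hJ.1.trans hDL))
      (fun x hx hxd => hJ.2.1 x hx hxd)
      (fun W hW hWp => F.isCyclic_of_rank_one hs1 hWp (hW.trans (hJ.1.trans hDL)))
      (fun W hW hWp => F.isCyclic_of_rank_one ht1 hWp (hW.trans (hJ.1.trans hDL)))
      (hzJ (mem_zpowers z)) hzs huJ hut with h | h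
  · exact hblockM _ (F.normalizer_le_of_beta_element hM (sigmaCore_le M hz) hzs hs h) (hJ.1 huJ) hut
  · refine hblockH (d⁻¹ * z * d) ?_ (D.mul_mem (D.mul_mem (D.inv_mem hd) hzR) hd) ?_
    · refine F.normalizer_le_of_beta_element hH (sigmaCore_le H hw) hwt ht (cj_eq_iff.mp ?_)
      have h1 : zpowers (d * w * d⁻¹) = cj d (zpowers w) :=
        (MonoidHom.map_zpowers (MulAut.conj d).toMonoidHom w).symm
      have h2 := cj_eq_iff.mpr h
      rw [h1] at h2
      rw [cj_mul, cj_mul, h2, cj_inv_cj]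
    · have := MulEquiv.orderOf_eq (MulAut.conj d⁻¹) z
      simp only [MulAut.conj_apply, inv_inv] at this
      rw [this, hzs]

/-! ### A common `σ`-prime -/

theorem not_unique_sylow {M H S : Subgroup G} (hM : IsCoatom M) (hH : IsCoatom H)
    (hne : ∀ g : G, H ≠ cj g M) {q : ℕ} [Fact q.Prime] (hqM : q ∈ Cfsg.sigma M)
    (hqH : q ∈ Cfsg.sigma H) (hS : IsSylowOf q S (Cfsg.sigmaCore M)) :
    ¬ Cfsg.InUniqueMaximal S := fun hu => by
  obtain ⟨g, hg⟩ := exists_sylowOf_cj hqH hqM (isSylowOf_of_not_dvd hS (sigmaCore_le M)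
    (F.s10.not_dvd_relIndex_sigmaCore hM hqM))
  exact nonconj_cj hne g 1 (by
    rw [cj_one]
    exact eq_of_inUniqueMaximal hu hM (hS.1.trans (sigmaCore_le M)) (coatom_cj hH g) hg.1)

theorem fixed_eq_bot {M H S R : Subgroup G} (hM : IsCoatom M) (hH : IsCoatom H)
    (hne : ∀ g : G, H ≠ cj g M) {q r : ℕ} [hq : Fact q.Prime] [Fact r.Prime]
    (hqM : q ∈ Cfsg.sigma M) (hqH : q ∈ Cfsg.sigma H) (hS : IsSylowOf q S (Cfsg.sigmaCore M))
    (hr1 : r ∈ Cfsg.tau1 M) (hRM : R ≤ M) (hR : Nat.card R = r) :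
    S ⊓ centralizer (R : Set G) = ⊥ := by
  by_contra h0
  obtain ⟨z, hz, hzp⟩ := Coprime.exists_prime_orderOf_mem h0
  have hzq := orderOf_eq_of_pGroup hS.2.1 hz.1 hzp
  exact F.not_unique_sylow hM hH hne hqM hqH hS
    ((F.fixed_element_tau1 hM hr1 hRM hR (hS.1 hz.1) hz.2 hzp).2 S (hzq.symm ▸ hS))

theorem exists_common {M H E : Subgroup G} (hM : IsCoatom M)
    {q : ℕ} [hq : Fact q.Prime] (hqM : q ∈ Cfsg.sigma M) (hqH : q ∈ Cfsg.sigma H)
    (hE : Cfsg.IsComplIn E (Cfsg.sigmaCore M) M) :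
    ∃ (S : Subgroup G) (g : G), IsSylowOf q S (Cfsg.sigmaCore M) ∧
      E ≤ normalizer (S : Set G) ∧ S ≠ ⊥ ∧ IsSylowOf q S (cj g H) ∧
      normalizer (S : Set G) ≤ cj g H ∧ normalizer (S : Set G) ≤ M ∧ E ≤ cj g H := by
  obtain ⟨S, hS, -, hES⟩ := exists_invariant_sylowOf (q := q) (U := ⊥)
    (compl_le_normalizer_sigmaCore hE) (F.compl_coprime hM hE)
    (F.isSolvable_le hM (sigmaCore_le M)) bot_le IsPGroup.of_bot
    (fun a _ => cj_eq_iff.mp (Subgroup.map_bot _))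
  have hSM := isSylowOf_of_not_dvd hS (sigmaCore_le M) (F.s10.not_dvd_relIndex_sigmaCore hM hqM)
  obtain ⟨g, hg⟩ := exists_sylowOf_cj hqH hqM hSM
  have hN := normalizer_le_of_mem_sigma (mem_sigma_cj g hqH) hg
  exact ⟨S, g, hS, hES, sylowOf_ne_bot hS (F.s10.dvd_sigmaCore hM hqM), hg, hN,
    normalizer_le_of_mem_sigma hqM hSM, hES.trans hN⟩

theorem not_tau2_common {M H : Subgroup G} (hM : IsCoatom M) (hH : IsCoatom H)
    (hne : ∀ g : G, H ≠ cj g M) {q : ℕ} [hq : Fact q.Prime] (hqM : q ∈ Cfsg.sigma M)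
    (hqH : q ∈ Cfsg.sigma H) {t : ℕ} : t ∉ Cfsg.tau2 M := fun h2 => by
  haveI := Fact.mk h2.1
  obtain ⟨E, hE⟩ := OddOrder.exists_compl (F.s10.sigmaCore_hall M hM).1
  obtain ⟨A, hAE, hAe, hA2⟩ := F.exists_elemAb_compl hM h2 hE
  obtain ⟨S, g, hS, -, hS0, hSg, -, -, hEg⟩ := F.exists_common hM hqM hqH hE
  have hne' : cj g H ≠ M := fun e => nonconj_cj hne g 1 (by rw [cj_one, e])
  exact hS0 (le_bot_iff.mp ((le_inf hS.1 hSg.1).trans
    (F.s10.sigmaCore_inf_eq_bot hM h2.2.1 (hAE.trans hE.1) hAe hA2 (coatom_cj hH g) hne'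
      (hAE.trans hEg)).le))

theorem tau1_not_sigma {M H : Subgroup G} (hM : IsCoatom M) (hH : IsCoatom H)
    (hne : ∀ g : G, H ≠ cj g M) {q : ℕ} [hq : Fact q.Prime] (hqM : q ∈ Cfsg.sigma M)
    (hqH : q ∈ Cfsg.sigma H) {t : ℕ} (ht : t ∈ Cfsg.tau1 M) : t ∉ Cfsg.sigma H := fun htH => by
  haveI := Fact.mk ht.1
  obtain ⟨T, hTM, hTc⟩ := exists_prime_sub ht.2.2.1
  obtain ⟨E, hE, hTE⟩ := F.s10.exists_compl_ge hM hTM fun x hx hd =>
    (Nat.prime_dvd_prime_iff_eq hx ht.1).mp (hTc ▸ hd) ▸ ht.2.1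
  obtain ⟨S, g, hS, hES, hS0, hSg, -, -, hEg⟩ := F.exists_common hM hqM hqH hE
  have hTq : t ≠ q := fun e => ht.2.1 (e ▸ hqM)
  have hqg := mem_sigma_cj g hqH
  have hc := F.s10.le_centralizer_of_not_beta (coatom_cj hH g) hTq (isPGroup_of_card_eq hTc) hSg.2.1
    (F.pGroup_le_derived (coatom_cj hH g) (isPGroup_of_card_eq hTc) (hTE.trans hEg)
      (Or.inl (mem_sigma_cj g htH)))
    (F.pGroup_le_derived (coatom_cj hH g) hSg.2.1 hSg.1 (Or.inl hqg))
    (hTE.trans hES) (F.not_beta_of_sigma hM (coatom_cj hH g) (fun x => nonconj_cj hne g x) hqM)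
  exact hS0 (le_bot_iff.mp ((le_inf le_rfl (le_centralizer_iff.mp hc)).trans
    (F.fixed_eq_bot hM hH hne hqM hqH hS ht hTM hTc).le))

theorem exists_tau1 {M H E : Subgroup G} (hM : IsCoatom M) (hH : IsCoatom H)
    (hne : ∀ g : G, H ≠ cj g M) {q : ℕ} [hq : Fact q.Prime] (hqM : q ∈ Cfsg.sigma M)
    (hqH : q ∈ Cfsg.sigma H) (hE : Cfsg.IsComplIn E (Cfsg.sigmaCore M) M) :
    ∃ (r : ℕ) (R : Subgroup G), r.Prime ∧ r ∈ Cfsg.tau1 M ∧ R ≤ E ∧ Nat.card R = r := by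
  by_contra h
  push Not at h
  obtain ⟨S, g, hS, hES, -, -, -, -, -⟩ := F.exists_common hM hqM hqH hE
  have hqb : q ∉ Cfsg.beta M := F.not_beta_of_sigma hH hM (nonconj_symm hne) hqH
  refine F.sylow_not_le_derived hM hqM hqb hS ((le_inf hS.1 (le_centralizer_iff.mp ?_)).trans
    (F.compl_fixed_le M hM E hE))
  refine Coprime.le_of_forall_sylow_le fun t ht T hT hTt => ?_
  haveI := Fact.mk ht
  rcases eq_or_ne T ⊥ with rfl | hT0
  · exact bot_le
  have hd := (dvd_card_of_pGroup hTt hT0).trans (card_dvd_of_le hT)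
  rcases tau_cases (F.s10.alpha_subset_sigma hM) ht (hd.trans (card_dvd_of_le hE.1))
    (not_mem_sigma_of_dvd_compl (F.s10.sigmaCore_hall M hM).1 hE ht hd) with h1 | h2 | h3
  · obtain ⟨R, hRT, hRc⟩ := exists_prime_sub (dvd_card_of_pGroup hTt hT0)
    exact absurd hRc (h t R ht h1 (hRT.trans hT))
  · exact absurd h2 (F.not_tau2_common hM hH hne hqM hqH)
  · exact (F.tau3_le hM hE hT fun x hx hxd => prime_of_dvd_pGroup hTt hx hxd ▸ h3).2.1.trans
      (F.derived_le_centralizer_sylow hM hE hqM hqb hS hES)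

theorem tau1_other {M H R : Subgroup G} (hM : IsCoatom M) (hH : IsCoatom H)
    (hne : ∀ g : G, H ≠ cj g M) {q r : ℕ} [hq : Fact q.Prime] [hr : Fact r.Prime]
    (hqM : q ∈ Cfsg.sigma M) (hqH : q ∈ Cfsg.sigma H) (hr1 : r ∈ Cfsg.tau1 M)
    (hRH : R ≤ H) (hR : Nat.card R = r) : r ∈ Cfsg.tau1 H := by
  have hs := F.tau1_not_sigma hM hH hne hqM hqH hr1
  rcases tau_cases (F.s10.alpha_subset_sigma hH) hr.out (hR ▸ card_dvd_of_le hRH) hs with
    h | h | h
  · exact h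
  · exact absurd h (F.not_tau2_common hH hM (nonconj_symm hne) hqH hqM)
  exfalso
  have hrU : ∀ x : ℕ, x.Prime → x ∣ Nat.card R → x ∈ Cfsg.tau3 H := fun x hx hd =>
    (Nat.prime_dvd_prime_iff_eq hx hr.out).mp (hR ▸ hd) ▸ h
  obtain ⟨E, hE, hRE⟩ := F.s10.exists_compl_ge hH hRH fun x hx hd => (hrU x hx hd).2.1
  obtain ⟨S, g, hS, hES, hS0, hSg, -, -, hEg⟩ := F.exists_common hH hqH hqM hE
  have hqb : q ∉ Cfsg.beta H := F.not_beta_of_sigma hM hH hne hqM
  have hc : R ≤ centralizer (S : Set G) :=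
    (F.tau3_le hH hE hRE hrU).2.1.trans (F.derived_le_centralizer_sylow hH hE hqH hqb hS hES)
  have h1 : r ∈ Cfsg.tau1 (cj g M) := by rw [tau1_map]; exact hr1
  exact hS0 (le_bot_iff.mp ((le_inf le_rfl (le_centralizer_iff.mp hc)).trans
    (F.fixed_eq_bot (coatom_cj hM g) hH (fun x e => hne (x * g) (by rw [e, cj_mul]))
      (mem_sigma_cj g hqM) hqH
      (F.s10.sylow_le_sigmaCore (coatom_cj hM g) (mem_sigma_cj g hqM) hSg) h1
      (hRE.trans hEg) hR).le))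

theorem blocked_common {M H R : Subgroup G} (hM : IsCoatom M) (hH : IsCoatom H)
    (hne : ∀ g : G, H ≠ cj g M) {q r : ℕ} [hq : Fact q.Prime] [hr : Fact r.Prime]
    (hqM : q ∈ Cfsg.sigma M) (hqH : q ∈ Cfsg.sigma H) (hr1 : r ∈ Cfsg.tau1 M)
    (hRM : R ≤ M) (hR : Nat.card R = r) {t : ℕ} (ht : t ∈ Cfsg.beta H) {u : G}
    (hu : u ∈ M) (huR : u ∈ centralizer (R : Set G)) (hut : orderOf u = t) : False := by
  haveI := Fact.mk ht.1.1
  have htM : t ∉ Cfsg.sigma M := fun h => F.not_beta_of_sigma hM hH hne h ht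
  have htH := F.beta_subset_sigma hH ht
  have hU : Nat.card (zpowers u) = t := by rw [Nat.card_zpowers, hut]
  rcases tau_cases (F.s10.alpha_subset_sigma hM) ht.1.1
    (hU ▸ card_dvd_of_le (zpowers_le.mpr hu)) htM with h | h | h
  · exact F.tau1_not_sigma hM hH hne hqM hqH h htH
  · exact F.not_tau2_common hM hH hne hqM hqH h
  have hUR : zpowers u ≤ centralizer (R : Set G) := zpowers_le.mpr huR
  obtain ⟨E, hE, hWE⟩ := F.s10.exists_compl_ge hM (U := zpowers u ⊔ R)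
    (sup_le (zpowers_le.mpr hu) hRM) (by
    intro x hx hd
    rcases hx.dvd_mul.mp (hd.trans (card_sup_dvd
      ((le_centralizer_iff.mp hUR).trans (H41.centralizer_le_normalizer _)))) with h1 | h1
    · exact (Nat.prime_dvd_prime_iff_eq hx ht.1.1).mp (hU ▸ h1) ▸ htM
    · exact (Nat.prime_dvd_prime_iff_eq hx hr.out).mp (hR ▸ h1) ▸ hr1.2.1)
  have hUE : zpowers u ≤ E := le_sup_left.trans hWE
  have heq := F.fixed_eq_of_commute hM hE h hr1 hUE hU (le_sup_right.trans hWE) hR hUR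
  obtain ⟨S, g, hS, hES, hS0, -, -, -, -⟩ := F.exists_common hM hqM hqH hE
  have hqb : q ∉ Cfsg.beta M := F.not_beta_of_sigma hH hM (nonconj_symm hne) hqH
  have hc : zpowers u ≤ centralizer (S : Set G) :=
    (F.tau3_le hM hE hUE fun x hx hd =>
      (Nat.prime_dvd_prime_iff_eq hx ht.1.1).mp (hU ▸ hd) ▸ h).2.1.trans
      (F.derived_le_centralizer_sylow hM hE hqM hqb hS hES)
  exact hS0 (le_bot_iff.mp ((le_inf le_rfl ((le_inf hS.1 (le_centralizer_iff.mp hc)).trans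
    (heq.le.trans inf_le_right))).trans (F.fixed_eq_bot hM hH hne hqM hqH hS hr1 hRM hR).le))

theorem exists_beta_fixed {M K S R : Subgroup G} (hM : IsCoatom M) (hK : IsCoatom K) (hKM : K ≠ M)
    {q r s : ℕ} [hq : Fact q.Prime] [hr : Fact r.Prime] (hs : s ∈ Cfsg.beta M)
    (hqM : q ∈ Cfsg.sigma M) (hqb : q ∉ Cfsg.beta M) (hrM : r ∉ Cfsg.sigma M)
    (hSM : S ≤ M) (hS : IsPGroup q S) (hRM : R ≤ M) (hR : Nat.card R = r)
    (hRS : R ≤ normalizer (S : Set G)) (hf : S ⊓ centralizer (R : Set G) = ⊥)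
    (hNK : normalizer (S : Set G) ≤ K) :
    ∃ z ∈ Cfsg.sigmaCore M, z ∈ centralizer (R : Set G) ∧ orderOf z = s := by
  haveI := Fact.mk hs.1.1
  have hsM := F.beta_subset_sigma hM hs
  have hrb : r ∉ Cfsg.beta M := fun h => hrM (F.beta_subset_sigma hM h)
  obtain ⟨W, hW, -, -, hAW, huniq⟩ := F.exists_invariant_beta (A := S ⊔ R) hM hs
    (sup_le hSM hRM) (fun x hx hd h => by
      rcases hx.dvd_mul.mp (hd.trans (card_sup_dvd hRS)) with h1 | h1
      · exact hqb (prime_of_dvd_pGroup hS hx h1 ▸ h)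
      · exact hrb (prime_of_dvd_pGroup (isPGroup_of_card_eq hR) hx h1 ▸ h))
    (U := ⊥) IsPGroup.of_bot bot_le (fun a _ => cj_eq_iff.mp (Subgroup.map_bot _))
  have hqr : q ≠ r := fun e => hrM (e ▸ hqM)
  have hcomm := commutator_eq_of_fpf hR hRS
    (coprime_of_pGroups (isPGroup_of_card_eq hR) hS hqr.symm) hf
  have hA := F.acts_pGroup hW.2.1 hS hR (fun e => hqb (e ▸ hs)) (fun e => hrb (e ▸ hs)) hqr
    (le_sup_right.trans hAW) (le_sup_left.trans hAW) hRS hcomm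
  have hne : W ⊓ centralizer (R : Set G) ≠ ⊥ := fun h => by
    have hc := hA.le_centralizer_of_pGroup hW.2.1 (h.le.trans bot_le)
    exact hKM (eq_of_inUniqueMaximal huniq hM hW.1 hK
      ((le_centralizer_iff.mp hc).trans ((H41.centralizer_le_normalizer S).trans hNK)))
  obtain ⟨z, hz, hzp⟩ := Coprime.exists_prime_orderOf_mem hne
  exact ⟨z, F.s10.le_sigmaCore_of_isPGroup hM hsM hW.1 hW.2.1 hz.1, hz.2,
    orderOf_eq_of_pGroup hW.2.1 hz.1 hzp⟩

/-- BG 13.9. -/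
theorem not_sigma_of_nonconj {M H : Subgroup G} (hM : IsCoatom M) (hH : IsCoatom H)
    (hne : ∀ g : G, H ≠ cj g M) {q : ℕ} (hqM : q ∈ Cfsg.sigma M) : q ∉ Cfsg.sigma H := by
  intro hqH
  haveI := Fact.mk hqM.1
  obtain ⟨E, hE⟩ := OddOrder.exists_compl (F.s10.sigmaCore_hall M hM).1
  obtain ⟨r, R, hrp, hr1, hRE, hR⟩ := F.exists_tau1 hM hH hne hqM hqH hE
  haveI := Fact.mk hrp
  obtain ⟨S, g, hS, hES, hS0, hSg, hNH, hNM, hEg⟩ := F.exists_common hM hqM hqH hE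
  have hH' := coatom_cj hH g
  have hne' : ∀ x : G, cj g H ≠ cj x M := fun x => nonconj_cj hne g x
  have hqH' := mem_sigma_cj g hqH
  have hRM := hRE.trans hE.1
  have hrH := F.tau1_other hM hH' hne' hqM hqH' hr1 (hRE.trans hEg) hR
  have hf := F.fixed_eq_bot hM hH' hne' hqM hqH' hS hr1 hRM hR
  obtain ⟨s, hs⟩ := F.exists_beta hM hH' hne' hqM hqH'
  obtain ⟨t, ht⟩ := F.exists_beta hH' hM (nonconj_symm hne') hqH' hqM
  have hneM : cj g H ≠ M := fun e => hne' 1 (by rw [cj_one, e])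
  obtain ⟨z, hz, hzR, hzs⟩ := F.exists_beta_fixed hM hH' hneM hs hqM
    (F.not_beta_of_sigma hH' hM (nonconj_symm hne') hqH') hr1.2.1 (hS.1.trans (sigmaCore_le M))
    hS.2.1 hRM hR (hRE.trans hES) hf hNH
  obtain ⟨w, hw, hwR, hwt⟩ := F.exists_beta_fixed hH' hM (Ne.symm hneM) ht hqH'
    (F.not_beta_of_sigma hM hH' hne' hqM) hrH.2.1 hSg.1
    hS.2.1 (hRE.trans hEg) hR (hRE.trans hES) hf hNM
  exact F.false_of_local_pair hM hH' hr1 hrH hRM (hRE.trans hEg) hR hz hzR hzs hs hw hwR hwt ht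
    (fun u hu huR hut => F.blocked_common hM hH' hne' hqM hqH' hr1 hRM hR ht hu huR hut)
    (fun u hu huR hus => F.blocked_common hH' hM (nonconj_symm hne') hqH' hqM hrH
      (hRE.trans hEg) hR hs hu huR hus)

/-- BG 13.9, in the form of the results. -/
theorem sigma_disjoint {M H : Subgroup G} (hM : IsCoatom M) (hH : IsCoatom H)
    (h : (Cfsg.sigma M ∩ Cfsg.sigma H).Nonempty) : ∃ g : G, H = cj g M := by
  by_contra hn
  push Not at hn
  obtain ⟨q, hqM, hqH⟩ := h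
  exact F.not_sigma_of_nonconj hM hH hn hqM hqH

end Hyp

end Cfsg.Agent.OddOrder.BG13
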