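import Cfsg.Agent.OddOrder.BG13.Beta

/-!
# BG 13.6, 13.7: fixed points of `τ₁`-subgroups on `M_σ`
-/

set_option autoImplicit false

universe u

namespace Cfsg.Agent.OddOrder.BG13

open Subgroup H40 BG11
open scoped commutatorElement

variable {G : Type u} [Group G] [Finite G]

theorem not_dvd_relIndex_of_sylowOf {p : ℕ} [hp : Fact p.Prime] {S D L : Subgroup G}
    (hS : IsSylowOf p S L) (hSD : S ≤ D) (hDL : D ≤ L) : ¬ p ∣ D.relIndex L := fun hd => by
  have hD := isSylowOf_mono hS hSD hDL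
  have h := congrArg (fun n => n.factorization p) (card_mul_relIndex hDL)
  have hne : D.relIndex L ≠ 0 := by
    intro e
    have := card_mul_relIndex hDL
    rw [e, mul_zero] at this
    exact Nat.card_pos.ne' this.symm
  simp only [Nat.factorization_mul Nat.card_pos.ne' hne, Finsupp.coe_add, Pi.add_apply] at h
  have h1 := hp.out.factorization_pos_of_dvd hne hd
  have h2 : (Nat.card D).factorization p = (Nat.card L).factorization p :=
    Nat.pow_right_injective hp.out.two_le (hD.2.2.symm.trans hS.2.2)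
  omega

omit [Finite G] in
theorem le_normalizer_inf_centralizer {Y S P : Subgroup G} (hS : Y ≤ normalizer (S : Set G))
    (hP : Y ≤ centralizer (P : Set G)) :
    Y ≤ normalizer ((S ⊓ centralizer (P : Set G) : Subgroup G) : Set G) :=
  le_normalizer_inf hS (hP.trans le_normalizer)

namespace Hyp

variable (F : Hyp G)
include F

/-- `E'` centralizes an `E`-invariant Sylow subgroup of `M_σ` for a prime outside `β(M)`. -/
theorem derived_le_centralizer_sylow {M E S : Subgroup G} (hM : IsCoatom M)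
    (hE : Cfsg.IsComplIn E (Cfsg.sigmaCore M) M) {q : ℕ} [Fact q.Prime]
    (hqM : q ∈ Cfsg.sigma M) (hqb : q ∉ Cfsg.beta M) (hS : IsSylowOf q S (Cfsg.sigmaCore M))
    (hES : E ≤ normalizer (S : Set G)) : ⁅E, E⁆ ≤ centralizer (S : Set G) := by
  refine Coprime.le_of_forall_sylow_le fun t ht T hT hTt => ?_
  haveI := Fact.mk ht
  rcases eq_or_ne T ⊥ with rfl | hT0
  · exact bot_le
  have hd := ((dvd_card_of_pGroup hTt hT0).trans (card_dvd_of_le (hT.trans (derived_le E))))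
  have htq : t ≠ q := fun e =>
    not_mem_sigma_of_dvd_compl (F.s10.sigmaCore_hall M hM).1 hE ht hd (e ▸ hqM)
  exact F.s10.le_centralizer_of_not_beta hM htq hTt hS.2.1 (hT.trans (commutator_mono hE.1 hE.1))
    (hS.1.trans (F.s10.sigmaCore_le_derived M hM)) ((hT.trans (derived_le E)).trans hES) hqb

/-- If a `τ₁`-subgroup fixes a nontrivial part of a Sylow subgroup for `q ∉ β(M)`, then `τ₂(M)` is
empty. -/
theorem not_tau2_of_fixed {M E P S : Subgroup G} (hM : IsCoatom M)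
    (hE : Cfsg.IsComplIn E (Cfsg.sigmaCore M) M) {p : ℕ} [hp : Fact p.Prime]
    (hp1 : p ∈ Cfsg.tau1 M) (hPE : P ≤ E) (hP : Nat.card P = p) {q : ℕ} [hq : Fact q.Prime]
    (hqM : q ∈ Cfsg.sigma M) (hqb : q ∉ Cfsg.beta M) (hS : IsSylowOf q S (Cfsg.sigmaCore M))
    (hES : E ≤ normalizer (S : Set G)) (hZ : S ⊓ centralizer (P : Set G) ≠ ⊥) {r : ℕ} :
    r ∉ Cfsg.tau2 M := by
  intro hr2
  haveI := Fact.mk hr2.1
  obtain ⟨A, hAE, hAe, hA2⟩ := F.exists_elemAb_compl hM hr2 hE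
  haveI := hAe.1
  obtain ⟨⟨hEA, -⟩, -⟩ := F.s10.compl_structure hM hE hr2 ⟨hAE, hAe, hA2⟩
  have hfix := (F.s10.tauTwo_structure hM hr2 ⟨hAE.trans hE.1, hAe, hA2⟩).2.2.2.1
  set Z := S ⊓ centralizer (P : Set G) with hZdef
  have hPp := isPGroup_of_card_eq hP
  have hAr := elemAb_isPGroup hAe
  have hpr : p ≠ r := fun e => tau2_disjoint_tau1 hr2 (e ▸ hp1)
  have hqr : q ≠ r := fun e => hr2.2.1 (e ▸ hqM)
  have hqp : q ≠ p := fun e => hp1.2.1 (e ▸ hqM)
  have hAP : ⁅A, P⁆ ≤ centralizer (S : Set G) :=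
    (commutator_mono hAE hPE).trans (F.derived_le_centralizer_sylow hM hE hqM hqb hS hES)
  obtain ⟨-, hdec⟩ := Coprime.abelian_decomposition (hPE.trans hEA)
    (coprime_of_pGroups hPp hAr hpr)
  -- an element of order `r` centralizing `P` but not `Z`
  obtain ⟨y, hy, hyZ⟩ : ∃ y ∈ A ⊓ centralizer (P : Set G), y ∉ centralizer (Z : Set G) := by
    by_contra h
    push Not at h
    have hAC : A ≤ centralizer (Z : Set G) := hdec.ge.trans
      (sup_le h (hAP.trans (centralizer_le inf_le_left)))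
    exact hZ (le_bot_iff.mp ((le_inf (inf_le_left.trans hS.1) (le_centralizer_iff.mp hAC)).trans hfix.le))
  set R := zpowers y with hRdef
  have hy1 : y ≠ 1 := fun e => hyZ (e ▸ one_mem _)
  have hR : Nat.card R = r := by rw [Nat.card_zpowers]; exact orderOf_eq_prime (hAe.2 y hy.1) hy1
  have hRA : R ≤ A := zpowers_le.mpr hy.1
  have hRP : R ≤ centralizer (P : Set G) := zpowers_le.mpr hy.2
  have hRS : R ≤ normalizer (S : Set G) := (hRA.trans hAE).trans hES
  have hRZ : R ≤ normalizer (Z : Set G) := le_normalizer_inf_centralizer hRS hRP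
  have hZq : IsPGroup q Z := hS.2.1.to_le inf_le_left
  have hcRZ := coprime_of_pGroups (isPGroup_of_card_eq hR) hZq hqr.symm
  set Q := ⁅Z, R⁆ with hQdef
  have hQZ : Q ≤ Z := Coprime.commutator_le_left_of_normalizer hRZ
  have hQ0 : Q ≠ ⊥ := fun e => hyZ
    (le_centralizer_iff.mp (commutator_eq_bot_iff_le_centralizer.mp e) (mem_zpowers y))
  have hPM : P ≤ M := hPE.trans hE.1
  obtain ⟨H, hH, hN⟩ := BG11.exists_coatom_ge (normalizer_ne_top' F.minSimple
    (ne_bot_of_prime_card (hP ▸ hp.out)) (ne_top_of_le_coatom hM hPM))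
  obtain ⟨hne, -, hT⟩ := F.normalizer_tau13' hM (Or.inl hp1) hPM hP hH hN
  have hCH : centralizer (P : Set G) ≤ H := (H41.centralizer_le_normalizer P).trans hN
  have hZU : Z ≤ Cfsg.sigmaCore M ⊓ H := le_inf (inf_le_left.trans hS.1) (inf_le_right.trans hCH)
  have hRM : R ≤ M := hRA.trans (hAE.trans hE.1)
  have hRH : R ≤ H := hRP.trans hCH
  have hT0 : ⁅Cfsg.sigmaCore M ⊓ H, M ⊓ H⁆ ≠ ⊥ := fun e =>
    hQ0 (le_bot_iff.mp ((commutator_mono hZU (le_inf hRM hRH)).trans e.le))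
  obtain ⟨-, hpb⟩ := hT hT0
  have hr1 : r ∈ Cfsg.tau1 H := by_contra fun h => hyZ
    (centralizer_le hZU ((F.le_centralizer_inf_of_not_tau1 hM hH hne (isPGroup_of_card_eq hR)
      hRM hRH hr2.2.1 h) (mem_zpowers y)))
  have hQH : Q ≤ H := hQZ.trans (hZU.trans inf_le_right)
  have hNQ : normalizer (Q : Set G) ≤ H := F.normalizer_le_of_beta hH (hpb hp1)
    (F.not_beta_of_sigma hM hH hne hqM) hr1 (le_normalizer.trans hN) hP hRH hR hQH
    (hZq.to_le hQZ) hQ0 hqp hqr (normalizer_commutator_ge_right Z R)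
    (commutator_self_eq hR hRZ hcRZ) (le_centralizer_iff.mp (hQZ.trans inf_le_right))
    (le_centralizer_iff.mp hRP)
  have hAH : A ≤ H := by
    refine le_trans ?_ hNQ
    rw [← hdec]
    refine sup_le ?_ ((hAP.trans (centralizer_le (hQZ.trans inf_le_left))).trans
      (H41.centralizer_le_normalizer Q))
    refine le_normalizer_commutator ?_
      (le_normalizer_inf_centralizer (inf_le_left.trans (hAE.trans hES)) inf_le_right)
    exact ((inf_le_left.trans fun a ha => mem_centralizer_iff.mpr fun b hb =>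
      elemAb_commute hAe (hRA hb) ha) : A ⊓ centralizer (P : Set G) ≤ centralizer (R : Set G)).trans
      (H41.centralizer_le_normalizer R)
  exact absurd (card_le_of_pRankLE hr1.2.2.2.2 hAH hAe) (by
    rw [hA2, pow_one, not_le]
    exact lt_self_pow₀ hr2.1.one_lt (by norm_num))

/-- `E` centralizes the fixed points of a `τ₁`-subgroup on an invariant Sylow subgroup for `q ∉ β(M)`. -/
theorem compl_le_centralizer_fixed {M E P S : Subgroup G} (hM : IsCoatom M)
    (hE : Cfsg.IsComplIn E (Cfsg.sigmaCore M) M) {p : ℕ} [hp : Fact p.Prime]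
    (hp1 : p ∈ Cfsg.tau1 M) (hPE : P ≤ E) (hP : Nat.card P = p) {q : ℕ} [hq : Fact q.Prime]
    (hqM : q ∈ Cfsg.sigma M) (hqb : q ∉ Cfsg.beta M) (hS : IsSylowOf q S (Cfsg.sigmaCore M))
    (hES : E ≤ normalizer (S : Set G)) :
    E ≤ centralizer ((S ⊓ centralizer (P : Set G) : Subgroup G) : Set G) := by
  set Z := S ⊓ centralizer (P : Set G) with hZdef
  rcases eq_or_ne Z ⊥ with hZ | hZ
  · rw [hZ]
    exact fun e _ => mem_centralizer_iff.mpr fun z hz => by
      rw [mem_bot.mp hz, one_mul, mul_one]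
  obtain ⟨E₁, hE₁, hPE₁⟩ := exists_hall_ge (π := Cfsg.tau1 M) (F.isSolvable_le hM hE.1) hPE
    fun t ht hd => (Nat.prime_dvd_prime_iff_eq ht hp.out).mp (hP ▸ hd) ▸ hp1
  have hc₁ := (F.tau13_structure M hM E hE).2.1 E₁ hE₁
  have hder : ⁅E, E⁆ ≤ centralizer (Z : Set G) :=
    (F.derived_le_centralizer_sylow hM hE hqM hqb hS hES).trans (centralizer_le inf_le_left)
  have hE1c : E₁ ≤ centralizer (Z : Set G) := by
    refine Coprime.le_of_forall_sylow_le fun t ht T hT hTt => ?_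
    haveI := Fact.mk ht
    rcases eq_or_ne T ⊥ with rfl | hT0
    · exact bot_le
    obtain ⟨T₀, hT₀, hT₀c⟩ := exists_prime_sub (dvd_card_of_pGroup hTt hT0)
    have ht1 := hE₁.2.1 t ht (hT₀c ▸ card_dvd_of_le (hT₀.trans hT))
    have h1 := F.tau1_fixed_le M hM E hE p hp1 P hPE hP T₀
      (le_inf (hT₀.trans (hT.trans hE₁.1)) (le_centralizer_of_cyclic_ge hc₁ (hT₀.trans hT) hPE₁))
      (hT₀c ▸ ht)
    have h2 := F.fixed_le_centralizer hM (Or.inl ht1) hT₀c hT₀ hTt ((hT.trans hE₁.1).trans hE.1)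
    exact le_centralizer_iff.mp (((inf_le_inf_right _ hS.1).trans h1).trans h2)
  have hle : E ≤ ⁅E, E⁆ ⊔ E₁ := by
    refine relIndex_eq_one.mp (Nat.eq_one_iff_not_exists_prime_dvd.mpr fun t ht hd => ?_)
    haveI := Fact.mk ht
    have hdE : t ∣ Nat.card E := hd.trans (relIndex_dvd_card _ _)
    have htM := not_mem_sigma_of_dvd_compl (F.s10.sigmaCore_hall M hM).1 hE ht hdE
    rcases tau_cases (F.s10.alpha_subset_sigma hM) ht (hdE.trans (card_dvd_of_le hE.1)) htM with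
      h | h | h
    · exact hE₁.2.2 t ht h (hd.trans (relIndex_dvd_of_le_left _ le_sup_right))
    · exact F.not_tau2_of_fixed hM hE hp1 hPE hP hqM hqb hS hES hZ h
    · obtain ⟨T, hT⟩ := BG11.exists_sylowOf t E
      refine not_dvd_relIndex_of_sylowOf hT ?_ (sup_le (derived_le E) hE₁.1) hd
      exact (F.tau3_le hM hE hT.1 fun s hs hsd =>
        prime_of_dvd_pGroup hT.2.1 hs hsd ▸ h).2.1.trans le_sup_left
  exact hle.trans (sup_le hder hE1c)

/-- BG 13.6 for `τ₁`. -/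
theorem fixed_element_tau1 {M X : Subgroup G} (hM : IsCoatom M) {p : ℕ} [hp : Fact p.Prime]
    (hp1 : p ∈ Cfsg.tau1 M) (hXM : X ≤ M) (hX : Nat.card X = p) {z : G}
    (hz : z ∈ Cfsg.sigmaCore M) (hzX : z ∈ centralizer (X : Set G)) (hzp : (orderOf z).Prime) :
    (centralizer ({z} : Set G) ≤ M ∧
        ∀ L : Subgroup G, IsCoatom L → centralizer ({z} : Set G) ≤ L → L = M) ∧
      ∀ S : Subgroup G, IsSylowOf (orderOf z) S (Cfsg.sigmaCore M) → Cfsg.InUniqueMaximal S := by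
  set q := orderOf z with hqdef
  haveI := Fact.mk hzp
  have hZc : Nat.card (zpowers z) = q := Nat.card_zpowers z
  have hZσ : zpowers z ≤ Cfsg.sigmaCore M := zpowers_le.mpr hz
  have hqM : q ∈ Cfsg.sigma M :=
    sigmaCore_isPiNumber M q hzp (hZc ▸ card_dvd_of_le hZσ)
  have hmain : q ∈ Cfsg.beta M ∨ zpowers z ≤ ⁅Cfsg.sigmaCore M, Cfsg.sigmaCore M⁆ := by
    by_contra hn
    push Not at hn
    refine hn.2 (zpowers_le.mpr ?_)
    obtain ⟨E, hE, hXE⟩ := F.s10.exists_compl_ge hM hXM fun t ht hd =>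
      (Nat.prime_dvd_prime_iff_eq ht hp.out).mp (hX ▸ hd) ▸ hp1.2.1
    have hσs : Group.IsSolvable (Cfsg.sigmaCore M) := F.isSolvable_le hM (sigmaCore_le M)
    obtain ⟨S, hS, -, hES⟩ := exists_invariant_sylowOf (q := q) (U := ⊥)
      (compl_le_normalizer_sigmaCore hE) (F.compl_coprime hM hE) hσs bot_le IsPGroup.of_bot
      (fun a _ => cj_eq_iff.mp (Subgroup.map_bot _))
    have hXn := hXE.trans (compl_le_normalizer_sigmaCore hE)
    have hcop := (F.compl_coprime hM hE).coprime_dvd_left (card_dvd_of_le hXE)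
    have hXz : X ≤ normalizer (zpowers z : Set G) :=
      (le_centralizer_iff.mp (zpowers_le.mpr hzX)).trans (H41.centralizer_le_normalizer _)
    obtain ⟨S₀, hS₀, hzS, hXS⟩ := exists_invariant_sylowOf hXn hcop hσs hZσ
      (isPGroup_of_card_eq hZc) hXz
    obtain ⟨k, hk, hkS⟩ := BG11.exists_conj_eq hS hS₀
    obtain ⟨c, hc, hcS⟩ := Coprime.exists_centralizer_conj hXn hcop (Or.inr hσs) hXS
      (hXE.trans hES) hk hkS
    have hcz : c * z * c⁻¹ ∈ S ⊓ centralizer (X : Set G) :=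
      ⟨hcS ▸ conj_mem_cj c (hzS (mem_zpowers z)),
        (centralizer (X : Set G)).mul_mem ((centralizer (X : Set G)).mul_mem hc.2 hzX)
          ((centralizer (X : Set G)).inv_mem hc.2)⟩
    have hd := F.compl_fixed_le M hM E hE ⟨hS.1 hcz.1,
      le_centralizer_iff.mp (F.compl_le_centralizer_fixed hM hE hp1 hXE hX hqM hn.1 hS hES) hcz⟩
    simpa [mul_assoc] using
      Coprime.conj_mem (le_normalizer_derived (Cfsg.sigmaCore M) (inv_mem hc.1)) hd
  constructor
  · obtain ⟨T, hT⟩ := BG11.exists_sylowOf q (Cfsg.sigmaCore M)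
    obtain ⟨T', hT'⟩ := exists_sylow_eq hT
    have h := (F.sigma_element M hM q hqM (zpowers z) (hZσ.trans (sigmaCore_le M)) hZc T' hmain).1
    rwa [centralizer_zpowers] at h
  · intro S hS
    obtain ⟨T', hT'⟩ := exists_sylow_eq hS
    exact hT' ▸ (F.sigma_element M hM q hqM (zpowers z) (hZσ.trans (sigmaCore_le M)) hZc T' hmain).2.1

/-- No `Q = [Q, R]` in `M ∩ H_σ` with `C(Q) ≤ H` and `C_{M_σ}(R) ≤ H`. -/
theorem false_of_common {M H Q R : Subgroup G} (hM : IsCoatom M) (hH : IsCoatom H)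
    (hne : ∀ g : G, H ≠ cj g M) {q r : ℕ} [hq : Fact q.Prime] [hr : Fact r.Prime]
    (hqM : q ∈ Cfsg.sigma M) (hqH : q ∈ Cfsg.sigma H) (hr1 : r ∈ Cfsg.tau1 M)
    (hRM : R ≤ M) (hR : Nat.card R = r) (hQM : Q ≤ M) (hQH : Q ≤ H)
    (hQ : IsPGroup q Q) (hRQ : R ≤ normalizer (Q : Set G)) (hcomm : ⁅Q, R⁆ = Q)
    (hCQ : centralizer (Q : Set G) ≤ H)
    (hCR : Cfsg.sigmaCore M ⊓ centralizer (R : Set G) ≤ H) : False := by
  obtain ⟨s, hs⟩ := F.exists_beta hM hH hne hqM hqH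
  haveI := Fact.mk hs.1.1
  have hsM := F.beta_subset_sigma hM hs
  have hqb : q ∉ Cfsg.beta M := F.not_beta_of_sigma hH hM (nonconj_symm hne) hqH
  have hrb : r ∉ Cfsg.beta M := fun h => hr1.2.1 (F.beta_subset_sigma hM h)
  have hsH : s ∉ Cfsg.sigma H := fun h => F.not_beta_of_sigma hH hM (nonconj_symm hne) h hs
  obtain ⟨W, hW, hWB, -, hAW, huniq⟩ := F.exists_invariant_beta (A := Q ⊔ R) hM hs
    (sup_le hQM hRM) (fun t ht hd h => by
      rcases ht.dvd_mul.mp (hd.trans (card_sup_dvd hRQ)) with h1 | h1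
      · exact hqb (prime_of_dvd_pGroup hQ ht h1 ▸ h)
      · exact hrb (prime_of_dvd_pGroup (isPGroup_of_card_eq hR) ht h1 ▸ h))
    (U := ⊥) IsPGroup.of_bot bot_le (fun a _ => cj_eq_iff.mp (Subgroup.map_bot _))
  have hA := F.acts_pGroup hW.2.1 hQ hR (fun e => hqb (e ▸ hs)) (fun e => hrb (e ▸ hs))
    (fun e => hr1.2.1 (e ▸ hqM)) (le_sup_right.trans hAW) (le_sup_left.trans hAW) hRQ hcomm
  have hWσ : W ≤ Cfsg.sigmaCore M := F.s10.le_sigmaCore_of_isPGroup hM hsM hW.1 hW.2.1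
  have hQσ : Q ≤ Cfsg.sigmaCore H := F.s10.le_sigmaCore_of_isPGroup hH hqH hQH hQ
  have hfix : W ⊓ centralizer (R : Set G) ≤ centralizer (Q : Set G) := by
    set C := W ⊓ centralizer (R : Set G)
    have hCH : C ≤ H := (inf_le_inf_right _ hWσ).trans hCR
    rw [← commutator_eq_bot_iff_le_centralizer]
    refine le_bot_iff.mp ((le_inf ((commutator_mono inf_le_left le_rfl).trans
      (Coprime.commutator_le_left_of_normalizer (le_sup_left.trans hAW))) ?_).trans
      (Coprime.inf_eq_bot (coprime_card_of_isPGroup hW.2.1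
        (not_dvd_of_le_sigmaCore le_rfl hs.1.1 hsH))).le)
    rw [commutator_comm]
    exact (commutator_mono hQσ hCH).trans
      (Coprime.commutator_le_left_of_normalizer (le_normalizer_sigmaCore H))
  have hWH : W ≤ H :=
    (le_centralizer_iff.mp (hA.le_centralizer_of_pGroup hW.2.1 hfix)).trans hCQ
  exact hne 1 (by rw [cj_one]; exact eq_of_inUniqueMaximal huniq hM hW.1 hH hWH)

/-- No `Q = [Q, R]` in `M_σ ∩ H` commuting with a subgroup of order `p ∈ σ(H) \ σ(M)` fixed by `R`. -/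
theorem false_of_commuting {M H P Q R : Subgroup G} (hM : IsCoatom M) (hH : IsCoatom H)
    (hne : ∀ g : G, H ≠ cj g M) {p q r : ℕ} [hp : Fact p.Prime] [hq : Fact q.Prime]
    [hr : Fact r.Prime] (hpH : p ∈ Cfsg.sigma H) (hpM : p ∉ Cfsg.sigma M)
    (hrM : r ∈ Cfsg.tau1 M) (hrH : r ∈ Cfsg.tau1 H) (hPM : P ≤ M) (hPH : P ≤ H)
    (hP : Nat.card P = p) (hRM : R ≤ M) (hRH : R ≤ H) (hR : Nat.card R = r)
    (hQσ : Q ≤ Cfsg.sigmaCore M) (hQH : Q ≤ H) (hQ : IsPGroup q Q) (hQ0 : Q ≠ ⊥)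
    (hRQ : R ≤ normalizer (Q : Set G)) (hcomm : ⁅Q, R⁆ = Q)
    (hPQ : P ≤ centralizer (Q : Set G)) (hPR : P ≤ centralizer (R : Set G))
    (hCR : Cfsg.sigmaCore M ⊓ centralizer (R : Set G) ≤ H) : False := by
  have hqM : q ∈ Cfsg.sigma M :=
    sigmaCore_isPiNumber M q hq.out ((dvd_card_of_pGroup hQ hQ0).trans (card_dvd_of_le hQσ))
  have hqr : q ≠ r := fun e => hrM.2.1 (e ▸ hqM)
  have hqp : q ≠ p := fun e => hpM (e ▸ hqM)
  have hqb := F.not_beta_of_sigma hM hH hne hqM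
  have hQM : Q ≤ M := hQσ.trans (sigmaCore_le M)
  have hNQ : normalizer (Q : Set G) ≤ H := by
    by_cases hpb : p ∈ Cfsg.beta H
    · exact F.normalizer_le_of_beta hH hpb hqb hrH hPH hP hRH hR hQH hQ hQ0 hqp hqr hRQ hcomm
        hPQ hPR
    obtain ⟨x, hx, hxp⟩ := Coprime.exists_prime_orderOf_mem
      (ne_bot_of_prime_card (hP ▸ hp.out) : P ≠ ⊥)
    have hxo : orderOf x = p :=
      (Nat.prime_dvd_prime_iff_eq hxp hp.out).mp (hP ▸ P.orderOf_dvd_natCard hx)
    have hu := (F.fixed_element_tau1 hH hrH hRH hR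
      (F.s10.le_sigmaCore_of_isPGroup hH hpH hPH (isPGroup_of_card_eq hP) hx) (hPR hx) hxp).2
    obtain ⟨S, hS, hSQ⟩ := F.exists_sylow_centralized hH hpH hpb hqb hqp hQ
      (hcomm ▸ commutator_mono hQH hRH)
    exact BG11.le_of_inUniqueMaximal (hu S (hxo.symm ▸ hS)) hH (hS.1.trans (sigmaCore_le H))
      (normalizer_ne_top' F.minSimple hQ0 (ne_top_of_le_coatom hH hQH))
      (hSQ.trans (H41.centralizer_le_normalizer Q))
  by_cases hqH : q ∈ Cfsg.sigma H
  · exact F.false_of_common hM hH hne hqM hqH hrM hRM hR hQM hQH hQ hRQ hcomm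
      ((H41.centralizer_le_normalizer Q).trans hNQ) hCR
  · have hHM : H ≠ M := fun e => hne 1 (by rw [e, cj_one])
    obtain ⟨-, S, hS, hQS, hSH, -⟩ := F.embedding hM hqM hQ hQ0 hQM hH hHM hNQ
    exact not_mem_sigma_of_dvd_compl (F.s10.sigmaCore_hall H hH).1
      (F.isComplIn_of_tau2 hM hH (Ne.symm hHM) hqM
        (F.tau2_of_not_sigma hM hH hqM hqH hQ0 hQS hNQ hSH) hSH (hS.1.trans inf_le_left))
      hp.out (hP ▸ card_dvd_of_le (le_inf hPM hPH)) hpH

/-- BG 13.7. -/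
theorem fixed_eq_of_commute {M E P R : Subgroup G} (hM : IsCoatom M)
    (hE : Cfsg.IsComplIn E (Cfsg.sigmaCore M) M) {p r : ℕ} [hp : Fact p.Prime] [hr : Fact r.Prime]
    (hp3 : p ∈ Cfsg.tau3 M) (hr1 : r ∈ Cfsg.tau1 M) (hPE : P ≤ E) (hP : Nat.card P = p)
    (hRE : R ≤ E) (hR : Nat.card R = r) (hPR : P ≤ centralizer (R : Set G)) :
    Cfsg.sigmaCore M ⊓ centralizer (P : Set G) = Cfsg.sigmaCore M ⊓ centralizer (R : Set G) := by
  have hle := F.tau1_fixed_le M hM E hE r hr1 R hRE hR P (le_inf hPE hPR) (hP ▸ hp.out)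
  refine le_antisymm (le_inf inf_le_left ?_) hle
  have hPM := hPE.trans hE.1
  obtain ⟨H, hH, hN⟩ := BG11.exists_coatom_ge (normalizer_ne_top' F.minSimple
    (ne_bot_of_prime_card (hP ▸ hp.out)) (ne_top_of_le_coatom hM hPM))
  obtain ⟨hne, -, hT⟩ := F.normalizer_tau13' hM (Or.inr hp3) hPM hP hH hN
  set C := Cfsg.sigmaCore M ⊓ centralizer (P : Set G)
  have hCP : centralizer (P : Set G) ≤ H := (H41.centralizer_le_normalizer P).trans hN
  have hRM := hRE.trans hE.1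
  have hRH : R ≤ H := (le_centralizer_iff.mp hPR).trans hCP
  have hRC : R ≤ normalizer (C : Set G) :=
    le_normalizer_inf_centralizer (hRM.trans (le_normalizer_sigmaCore M)) (le_centralizer_iff.mp hPR)
  have hcop : (Nat.card R).Coprime (Nat.card C) :=
    coprime_card_of_isPGroup (isPGroup_of_card_eq hR) (not_dvd_of_le_sigmaCore inf_le_left hr.out hr1.2.1)
  refine Coprime.le_of_exists_sylow_le fun q hq => ?_
  haveI := Fact.mk hq
  obtain ⟨W, hW⟩ := Coprime.exists_invariant_sylow hRC hcop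
    (Or.inr (F.isSolvable_le hM (inf_le_left.trans (sigmaCore_le M)))) q
  refine ⟨W, by_contra fun hnot => ?_⟩
  set Wq := (W : Subgroup C).map C.subtype
  have hWq : IsPGroup q Wq := W.isPGroup'.map _
  have hWC : Wq ≤ C := map_subtype_le _
  have hQW : ⁅Wq, R⁆ ≤ Wq := Coprime.commutator_le_left_of_normalizer hW
  have hQ0 : ⁅Wq, R⁆ ≠ ⊥ := fun e => hnot (commutator_eq_bot_iff_le_centralizer.mp e)
  have hWU : Wq ≤ Cfsg.sigmaCore M ⊓ H :=
    hWC.trans (le_inf inf_le_left (inf_le_right.trans hCP))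
  obtain ⟨hpH, -⟩ := hT fun e =>
    hQ0 (le_bot_iff.mp ((commutator_mono hWU (le_inf hRM hRH)).trans e.le))
  have hrH : r ∈ Cfsg.tau1 H := by_contra fun h => hnot (hWU.trans (le_centralizer_iff.mp
    (F.le_centralizer_inf_of_not_tau1 hM hH hne (isPGroup_of_card_eq hR) hRM hRH hr1.2.1 h)))
  exact F.false_of_commuting hM hH hne hpH hp3.2.1 hr1 hrH hPM (le_normalizer.trans hN) hP hRM hRH
    hR (hQW.trans (hWC.trans inf_le_left)) (hQW.trans (hWU.trans inf_le_right)) (hWq.to_le hQW) hQ0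
    (normalizer_commutator_ge_right Wq R)
    (commutator_self_eq hR hW (hcop.coprime_dvd_right (card_dvd_of_le hWC)))
    (le_centralizer_iff.mp ((hQW.trans hWC).trans inf_le_right)) hPR
    ((hle.trans inf_le_right).trans hCP)

end Hyp

end Cfsg.Agent.OddOrder.BG13
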