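import Cfsg.Agent.OddOrder.BG13.Beta

/-!
# BG 13.4: fixed points of a `τ₁`-subgroup and of a subgroup centralizing it
-/

set_option autoImplicit false

universe u

namespace Cfsg.Agent.OddOrder.BG13

open Subgroup H40 BG11
open scoped commutatorElement

variable {G : Type u} [Group G] [Finite G]

namespace HypCore

variable (F : HypCore G)
include F

/-- If `R` moves a `q`-subgroup `W` of `C_{M_σ}(P)`, then `q ∈ σ(H)` and `N([W, R]) ≤ H` for a
maximal `H` over `N(P)`. -/
theorem sigma_of_fixed {M H P R W : Subgroup G} (hM : IsCoatom M) (hH : IsCoatom H) {p q r : ℕ}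
    [hp : Fact p.Prime] [hq : Fact q.Prime] [hr : Fact r.Prime] (hp1 : p ∈ Cfsg.tau1 M)
    (hPM : P ≤ M) (hP : Nat.card P = p) (hN : normalizer (P : Set G) ≤ H)
    (hrM : r ∉ Cfsg.sigma M) (hRM : R ≤ M) (hR : Nat.card R = r)
    (hPR : P ≤ centralizer (R : Set G)) (hWσ : W ≤ Cfsg.sigmaCore M)
    (hWP : W ≤ centralizer (P : Set G)) (hWq : IsPGroup q W) (hRW : R ≤ normalizer (W : Set G))
    (hnot : ¬ W ≤ centralizer (R : Set G)) :
    (∀ g : G, H ≠ cj g M) ∧ r ∈ Cfsg.tau1 H ∧ q ∈ Cfsg.sigma M ∧ q ∈ Cfsg.sigma H ∧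
      normalizer ((⁅W, R⁆ : Subgroup G) : Set G) ≤ H := by
  have hW0 : W ≠ ⊥ := fun e => hnot (e ▸ bot_le)
  have hqM : q ∈ Cfsg.sigma M :=
    sigmaCore_isPiNumber M q hq.out ((dvd_card_of_pGroup hWq hW0).trans (card_dvd_of_le hWσ))
  obtain ⟨hne, -, hT⟩ := F.normalizer_tau13' hM (Or.inl hp1) hPM hP hH hN
  have hCH : centralizer (P : Set G) ≤ H := (H41.centralizer_le_normalizer P).trans hN
  have hRH : R ≤ H := (le_centralizer_iff.mp hPR).trans hCH
  have hPH : P ≤ H := le_normalizer.trans hN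
  have hWU : W ≤ Cfsg.sigmaCore M ⊓ H := le_inf hWσ (hWP.trans hCH)
  set Q := ⁅W, R⁆ with hQdef
  have hQW : Q ≤ W := Coprime.commutator_le_left_of_normalizer hRW
  have hQ0 : Q ≠ ⊥ := fun e => hnot (commutator_eq_bot_iff_le_centralizer.mp e)
  have hqr : q ≠ r := fun e => hrM (e ▸ hqM)
  have hqp : q ≠ p := fun e => hp1.2.1 (e ▸ hqM)
  obtain ⟨hpH, hpb⟩ := hT fun e =>
    hQ0 (le_bot_iff.mp ((commutator_mono hWU (le_inf hRM hRH)).trans e.le))
  have hrH : r ∈ Cfsg.tau1 H := by_contra fun h => hnot (hWU.trans (le_centralizer_iff.mp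
    (F.le_centralizer_inf_of_not_tau1 hM hH hne (isPGroup_of_card_eq hR) hRM hRH hrM h)))
  have hQq : IsPGroup q Q := hWq.to_le hQW
  have hQH : Q ≤ H := hQW.trans (hWU.trans inf_le_right)
  have hNQ : normalizer (Q : Set G) ≤ H := F.normalizer_le_of_beta hH (hpb hp1)
    (F.not_beta_of_sigma hM hH hne hqM) hrH hPH hP hRH hR hQH hQq hQ0 hqp hqr
    (normalizer_commutator_ge_right W R)
    (commutator_self_eq hR hRW (coprime_of_pGroups (isPGroup_of_card_eq hR) hWq hqr.symm))
    (le_centralizer_iff.mp (hQW.trans hWP)) hPR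
  refine ⟨hne, hrH, hqM, by_contra fun hqH => ?_, hNQ⟩
  have hHM : H ≠ M := fun e => hne 1 (by rw [e, cj_one])
  obtain ⟨-, S, hS, hQS, hSH, -⟩ :=
    F.embedding hM hqM hQq hQ0 ((hQW.trans hWσ).trans (sigmaCore_le M)) hH hHM hNQ
  exact not_mem_sigma_of_dvd_compl (F.s10.sigmaCore_hall H hH).1
    (F.isComplIn_of_tau2 hM hH (Ne.symm hHM) hqM
      (F.tau2_of_not_sigma hM hH hqM hqH hQ0 hQS hNQ hSH) hSH (hS.1.trans inf_le_left))
    hp.out (hP ▸ card_dvd_of_le (le_inf hPM hPH)) hpH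

/-- BG 13.4. -/
theorem tau1_fixed_le {M E P R : Subgroup G} (hM : IsCoatom M)
    (hE : Cfsg.IsComplIn E (Cfsg.sigmaCore M) M) {p r : ℕ} [hp : Fact p.Prime] [hr : Fact r.Prime]
    (hp1 : p ∈ Cfsg.tau1 M) (hPE : P ≤ E) (hP : Nat.card P = p) (hRE : R ≤ E)
    (hR : Nat.card R = r) (hRP : R ≤ centralizer (P : Set G)) :
    Cfsg.sigmaCore M ⊓ centralizer (P : Set G) ≤ centralizer (R : Set G) := by
  have hPR : P ≤ centralizer (R : Set G) := le_centralizer_iff.mp hRP
  have hPM := hPE.trans hE.1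
  have hRM := hRE.trans hE.1
  rcases eq_or_ne r p with rfl | hrp
  · have hPp : IsPGroup r P := isPGroup_of_card_eq hP
    have hcyc := F.isCyclic_of_rank_one hp1.2.2.2.2
      ((isPGroup_of_card_eq hR).to_sup_of_normal_right' hPp
        (hRP.trans (H41.centralizer_le_normalizer P))) (sup_le hRM hPM)
    rw [H41.eq_of_card_eq_of_le_cyclic hcyc (le_sup_left : R ≤ R ⊔ P) le_sup_right
      (hR.trans hP.symm)]
    exact inf_le_right
  have hrM : r ∉ Cfsg.sigma M := not_mem_sigma_of_dvd_compl (F.s10.sigmaCore_hall M hM).1 hE hr.out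
    (hR ▸ card_dvd_of_le hRE)
  obtain ⟨H, hH, hN⟩ := BG11.exists_coatom_ge (normalizer_ne_top' F.minSimple
    (ne_bot_of_prime_card (hP ▸ hp.out)) (ne_top_of_le_coatom hM hPM))
  have hCH : centralizer (P : Set G) ≤ H := (H41.centralizer_le_normalizer P).trans hN
  set C := Cfsg.sigmaCore M ⊓ centralizer (P : Set G)
  have hRC : R ≤ normalizer (C : Set G) :=
    le_normalizer_inf (hRM.trans (le_normalizer_sigmaCore M)) (hRP.trans le_normalizer)
  have hcop : (Nat.card R).Coprime (Nat.card C) :=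
    coprime_card_of_isPGroup (isPGroup_of_card_eq hR) (not_dvd_of_le_sigmaCore inf_le_left hr.out hrM)
  refine Coprime.le_of_exists_sylow_le fun q hq => ?_
  haveI := Fact.mk hq
  obtain ⟨W, hW⟩ := Coprime.exists_invariant_sylow hRC hcop
    (Or.inr (F.isSolvable_le hM (inf_le_left.trans (sigmaCore_le M)))) q
  refine ⟨W, by_contra fun hnot => ?_⟩
  set Wq := (W : Subgroup C).map C.subtype
  have hWq : IsPGroup q Wq := W.isPGroup'.map _
  have hWC : Wq ≤ C := map_subtype_le _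
  have hWσ : Wq ≤ Cfsg.sigmaCore M := hWC.trans inf_le_left
  obtain ⟨hne, -, hqM, hqH, hNQ⟩ := F.sigma_of_fixed hM hH hp1 hPM hP hN hrM hRM hR hPR hWσ
    (hWC.trans inf_le_right) hWq hW hnot
  rcases tau_cases (F.s10.alpha_subset_sigma hM) hr.out (hR ▸ card_dvd_of_le hRM) hrM with
    hr1 | hr2 | hr3
  · -- `r ∈ τ₁(M)`
    set Q := ⁅Wq, R⁆ with hQdef
    have hQW : Q ≤ Wq := Coprime.commutator_le_left_of_normalizer hW
    have hQM : Q ≤ M := (hQW.trans hWσ).trans (sigmaCore_le M)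
    have hQH : Q ≤ H := ((hQW.trans hWC).trans inf_le_right).trans hCH
    have hQ : IsPGroup q Q := hWq.to_le hQW
    have hRQ : R ≤ normalizer (Q : Set G) := normalizer_commutator_ge_right Wq R
    have hPQR : P ≤ centralizer ((Q ⊔ R : Subgroup G) : Set G) := le_centralizer_iff.mp
      (sup_le ((hQW.trans hWC).trans inf_le_right) hRP)
    have hPn : P ≤ normalizer ((Q ⊔ R : Subgroup G) : Set G) :=
      hPQR.trans (H41.centralizer_le_normalizer _)
    obtain ⟨s, hs⟩ := F.exists_beta hM hH hne hqM hqH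
    haveI := Fact.mk hs.1.1
    have hsM := F.beta_subset_sigma hM hs
    have hqb : q ∉ Cfsg.beta M := F.not_beta_of_sigma hH hM (nonconj_symm hne) hqH
    have hsH : s ∉ Cfsg.sigma H := fun h => F.not_beta_of_sigma hH hM (nonconj_symm hne) h hs
    obtain ⟨V, hV, -, -, hAV, huniq⟩ := F.exists_invariant_beta (A := Q ⊔ R ⊔ P) hM hs
      (sup_le (sup_le hQM hRM) hPM) (fun t ht hd h => by
        rcases ht.dvd_mul.mp (hd.trans (card_sup_dvd hPn)) with h1 | h1
        · rcases ht.dvd_mul.mp (h1.trans (card_sup_dvd hRQ)) with h2 | h2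
          · exact hqb (prime_of_dvd_pGroup hQ ht h2 ▸ h)
          · exact hrM (F.beta_subset_sigma hM (prime_of_dvd_pGroup (isPGroup_of_card_eq hR) ht h2 ▸ h))
        · exact hp1.2.1 (F.beta_subset_sigma hM
            (prime_of_dvd_pGroup (isPGroup_of_card_eq hP) ht h1 ▸ h)))
      (U := ⊥) IsPGroup.of_bot bot_le (fun a _ => cj_eq_iff.mp (Subgroup.map_bot _))
    have hQRV : Q ⊔ R ≤ normalizer (V : Set G) := le_sup_left.trans hAV
    have hVσ : V ≤ Cfsg.sigmaCore M := F.s10.le_sigmaCore_of_isPGroup hM hsM hV.1 hV.2.1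
    set D := V ⊓ centralizer (R : Set G) with hDdef
    by_cases hDP : D ≤ centralizer (P : Set G)
    · have hA := F.acts_pGroup hV.2.1 hQ hR (fun e => hqb (e ▸ hs)) (fun e => hrM (e ▸ hsM))
        (fun e => hrM (e ▸ hqM)) (le_sup_right.trans hQRV) (le_sup_left.trans hQRV) hRQ
        (commutator_self_eq hR hW (hcop.coprime_dvd_right (card_dvd_of_le hWC)))
      have hQσ : Q ≤ Cfsg.sigmaCore H := F.s10.le_sigmaCore_of_isPGroup hH hqH hQH hQ
      have hfix : D ≤ centralizer (Q : Set G) := by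
        rw [← commutator_eq_bot_iff_le_centralizer]
        refine le_bot_iff.mp ((le_inf ((commutator_mono inf_le_left le_rfl).trans
          (Coprime.commutator_le_left_of_normalizer (le_sup_left.trans hQRV))) ?_).trans
          (Coprime.inf_eq_bot (coprime_card_of_isPGroup hV.2.1
            (not_dvd_of_le_sigmaCore le_rfl hs.1.1 hsH))).le)
        rw [commutator_comm]
        exact (commutator_mono hQσ (hDP.trans hCH)).trans
          (Coprime.commutator_le_left_of_normalizer (le_normalizer_sigmaCore H))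
      have hVH : V ≤ H := (le_centralizer_iff.mp (hA.le_centralizer_of_pGroup hV.2.1 hfix)).trans
        ((H41.centralizer_le_normalizer Q).trans hNQ)
      exact hne 1 (by rw [cj_one]; exact eq_of_inUniqueMaximal huniq hM hV.1 hH hVH)
    · -- the same with `P` and `R` exchanged
      obtain ⟨L, hL, hNR⟩ := BG11.exists_coatom_ge (normalizer_ne_top' F.minSimple
        (ne_bot_of_prime_card (hR ▸ hr.out)) (ne_top_of_le_coatom hM hRM))
      obtain ⟨hneL, -, -, hsL, -⟩ := F.sigma_of_fixed hM hL hr1 hRM hR hNR hp1.2.1 hPM hP hRP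
        (inf_le_left.trans hVσ : D ≤ _) inf_le_right (hV.2.1.to_le inf_le_left)
        (le_normalizer_inf (le_sup_right.trans hAV) (hPR.trans le_normalizer)) hDP
      exact F.not_beta_of_sigma hL hM (nonconj_symm hneL) hsL hs
  · exact F.not_sigma_of_tau2 hH hM (nonconj_symm hne) hr2 hqH hqM
  · refine hnot (le_centralizer_iff.mp (F.s10.le_centralizer_of_not_beta hM ?_
      (isPGroup_of_card_eq hR) hWq (F.le_derived_of_tau3 hM hRM fun t ht hd => ?_)
      (hWσ.trans (F.s10.sigmaCore_le_derived M hM)) hW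
      (F.not_beta_of_sigma hH hM (nonconj_symm hne) hqH)))
    · exact fun e => hrM (e ▸ hqM)
    · exact (Nat.prime_dvd_prime_iff_eq ht hr.out).mp (hR ▸ hd) ▸ hr3

end HypCore

end Cfsg.Agent.OddOrder.BG13
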