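import Cfsg.Agent.OddOrder.BG13.SigmaDisjoint

/-!
# BG 13.10, 13.11: `τ₃`-subgroups with fixed points on `M_σ`
-/

set_option autoImplicit false

universe u

namespace Cfsg.Agent.OddOrder.BG13

open Subgroup H40 BG11
open scoped commutatorElement

variable {G : Type u} [Group G] [Finite G]

theorem prime_dvd_sup {X Y : Subgroup G} (h : Y ≤ normalizer (X : Set G)) {a b t : ℕ}
    (hX : Nat.card X = a) (hY : Nat.card Y = b) (ha : a.Prime) (hb : b.Prime) (ht : t.Prime)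
    (hd : t ∣ Nat.card ↥(X ⊔ Y)) : t = a ∨ t = b := by
  rcases ht.dvd_mul.mp (hd.trans (card_sup_dvd h)) with h1 | h1
  · exact Or.inl ((Nat.prime_dvd_prime_iff_eq ht ha).mp (hX ▸ h1))
  · exact Or.inr ((Nat.prime_dvd_prime_iff_eq ht hb).mp (hY ▸ h1))

namespace Hyp

variable (F : Hyp G)
include F

theorem tau1_ne_tau3 {M : Subgroup G} {p r : ℕ} (hp : p ∈ Cfsg.tau3 M) (hr : r ∈ Cfsg.tau1 M) :
    p ≠ r := fun e => tau1_disjoint_tau3 hr (e ▸ hp)

/-- A `τ₃`-subgroup with fixed points excludes `τ₂`-primes. -/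
theorem not_tau2_of_tau3 {M P : Subgroup G} (hM : IsCoatom M) {p : ℕ} [hp : Fact p.Prime]
    (hp3 : p ∈ Cfsg.tau3 M) (hPM : P ≤ M) (hP : Nat.card P = p)
    (hC : Cfsg.sigmaCore M ⊓ centralizer (P : Set G) ≠ ⊥) {t : ℕ} : t ∉ Cfsg.tau2 M := by
  intro h2
  haveI := Fact.mk h2.1
  have hPs : ∀ x : ℕ, x.Prime → x ∣ Nat.card P → x ∈ Cfsg.tau3 M := fun x hx hd =>
    (Nat.prime_dvd_prime_iff_eq hx hp.out).mp (hP ▸ hd) ▸ hp3
  obtain ⟨E, hE, hPE⟩ := F.s10.exists_compl_ge hM hPM fun x hx hd => (hPs x hx hd).2.1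
  obtain ⟨A, hAE, hAe, hA2⟩ := F.exists_elemAb_compl hM h2 hE
  obtain ⟨H, hH, hN⟩ := BG11.exists_coatom_ge (normalizer_ne_top' F.minSimple
    (ne_bot_of_prime_card (hP ▸ hp.out)) (ne_top_of_le_coatom hM hPM))
  obtain ⟨hne, -, -⟩ := F.normalizer_tau13' hM (Or.inr hp3) hPM hP hH hN
  exact hC (le_bot_iff.mp ((inf_le_inf_left _ ((H41.centralizer_le_normalizer P).trans hN)).trans
    (F.s10.sigmaCore_inf_eq_bot hM h2.2.1 (hAE.trans hE.1) hAe hA2 hH
      (fun e => hne 1 (by rw [cj_one, e])) (hAE.trans ((F.tau3_le hM hE hPE hPs).2.2.trans hN))).le))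

/-- `R` acting fixed point freely on `P` does not fix only points fixed by `P`. -/
theorem fixed_not_le {M P R : Subgroup G} (hM : IsCoatom M) {p r : ℕ} [hp : Fact p.Prime]
    [hr : Fact r.Prime] (hp3 : p ∈ Cfsg.tau3 M) (hr1 : r ∈ Cfsg.tau1 M) (hPM : P ≤ M)
    (hP : Nat.card P = p) (hRM : R ≤ M) (hR : Nat.card R = r)
    (hRP : R ≤ normalizer (P : Set G)) (hnc : ¬ P ≤ centralizer (R : Set G)) :
    ¬ Cfsg.sigmaCore M ⊓ centralizer (R : Set G) ≤ centralizer (P : Set G) := by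
  intro hle
  have hPp := isPGroup_of_card_eq hP
  have hpr := F.tau1_ne_tau3 hp3 hr1
  have hcPR := coprime_of_pGroups hPp (isPGroup_of_card_eq hR) hpr
  have hf : P ⊓ centralizer (R : Set G) = ⊥ := by
    by_contra h
    obtain ⟨x, hx, hxp⟩ := Coprime.exists_prime_orderOf_mem h
    have hx1 : x ≠ 1 := fun e => hxp.ne_one (by rw [e, orderOf_one])
    exact hnc (zpowers_eq_of_prime_card (hP ▸ hp.out) hx.1 hx1 ▸ zpowers_le.mpr hx.2)
  have hA : Acts (Cfsg.sigmaCore M) P R := ⟨hR ▸ hr.out, hRM.trans (le_normalizer_sigmaCore M),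
    hPM.trans (le_normalizer_sigmaCore M), hRP, commutator_eq_of_fpf hR hRP hcPR.symm hf,
    coprime_card_of_isPGroup hPp (not_dvd_of_le_sigmaCore le_rfl hp.out hp3.2.1),
    coprime_card_of_isPGroup (isPGroup_of_card_eq hR) (not_dvd_of_le_sigmaCore le_rfl hr.out hr1.2.1),
    hcPR, F.odd_sub P⟩
  have hc := hA.le_centralizer (F.isSolvable_le hM (sigmaCore_le M)) hle
  have hPs : ∀ x : ℕ, x.Prime → x ∣ Nat.card P → x ∈ Cfsg.tau3 M := fun x hx hd =>
    (Nat.prime_dvd_prime_iff_eq hx hp.out).mp (hP ▸ hd) ▸ hp3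
  obtain ⟨E, hE, hPE⟩ := F.s10.exists_compl_ge hM hPM fun x hx hd => (hPs x hx hd).2.1
  obtain ⟨H, hH, hN⟩ := BG11.exists_coatom_ge (normalizer_ne_top' F.minSimple
    (ne_bot_of_prime_card (hP ▸ hp.out)) (ne_top_of_le_coatom hM hPM))
  obtain ⟨hne, -, -⟩ := F.normalizer_tau13' hM (Or.inr hp3) hPM hP hH hN
  have hMH : M ≤ H := (le_sup_of_compl hE).trans (sup_le
    ((le_centralizer_iff.mp hc).trans ((H41.centralizer_le_normalizer P).trans hN))
    ((F.tau3_le hM hE hPE hPs).2.2.trans hN))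
  refine hne 1 ?_
  rw [cj_one]
  by_contra hne'
  exact hH.1 (hM.2 H (lt_of_le_of_ne hMH fun e => hne' e.symm))

/-- A `τ₁`-subgroup commuting with `R` centralizes no `τ₃`-subgroup of prime order. -/
theorem not_commute_tau3 {M E P R R₁ P₁ : Subgroup G} (hM : IsCoatom M)
    (hE : Cfsg.IsComplIn E (Cfsg.sigmaCore M) M) {p r r₁ p₁ : ℕ} [hp : Fact p.Prime]
    [hr : Fact r.Prime] [hr₁ : Fact r₁.Prime] [hp₁ : Fact p₁.Prime]
    (hp3 : p ∈ Cfsg.tau3 M) (hr1 : r ∈ Cfsg.tau1 M) (hPE : P ≤ E) (hP : Nat.card P = p)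
    (hRE : R ≤ E) (hR : Nat.card R = r) (hnc : ¬ P ≤ centralizer (R : Set G))
    (hr₁1 : r₁ ∈ Cfsg.tau1 M) (hp₁3 : p₁ ∈ Cfsg.tau3 M) (hR₁E : R₁ ≤ E) (hR₁ : Nat.card R₁ = r₁)
    (hP₁E : P₁ ≤ E) (hP₁ : Nat.card P₁ = p₁) (hRR₁ : R₁ ≤ centralizer (R : Set G))
    (hPR₁ : P₁ ≤ centralizer (R₁ : Set G)) : False := by
  have hEP := (F.tau3_le hM hE hPE fun x hx hd =>
    (Nat.prime_dvd_prime_iff_eq hx hp.out).mp (hP ▸ hd) ▸ hp3).2.2
  refine F.fixed_not_le hM hp3 hr1 (hPE.trans hE.1) hP (hRE.trans hE.1) hR (hRE.trans hEP) hnc ?_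
  have h1 := F.tau1_fixed_le M hM E hE r hr1 R hRE hR R₁ (le_inf hR₁E hRR₁) (hR₁ ▸ hr₁.out)
  refine h1.trans ((F.fixed_eq_of_commute hM hE hp₁3 hr₁1 hP₁E hP₁ hR₁E hR₁ hPR₁).ge.trans ?_)
  obtain ⟨x, hx, hxp⟩ := Coprime.exists_prime_orderOf_mem
    (ne_bot_of_prime_card (hP₁ ▸ hp₁.out) : P₁ ≠ ⊥)
  have hU : ∀ t : ℕ, t.Prime → t ∣ Nat.card ↥(P ⊔ P₁) → t ∈ Cfsg.tau3 M := fun t ht hd => by
    rcases prime_dvd_sup (hP₁E.trans hEP) hP hP₁ hp.out hp₁.out ht hd with e | e <;> subst e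
    · exact hp3
    · exact hp₁3
  exact (inf_le_inf_left _ (centralizer_le (Set.singleton_subset_iff.mpr hx))).trans
    ((F.tau3_semiprime hM hE (sup_le hPE hP₁E) hU (mem_sup_right hx)
      fun e => hxp.ne_one (by rw [e, orderOf_one])).le.trans
      (inf_le_right.trans (centralizer_le (le_sup_left : P ≤ P ⊔ P₁))))

/-- An element of order `q` fixed by `R` is for an ideal prime and is not fixed by `P`. -/
theorem fixed_element_beta {M P R : Subgroup G} (hM : IsCoatom M) {p r : ℕ} [hp : Fact p.Prime]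
    [hr : Fact r.Prime] (hp3 : p ∈ Cfsg.tau3 M) (hr1 : r ∈ Cfsg.tau1 M) (hPM : P ≤ M)
    (hP : Nat.card P = p) (hRM : R ≤ M) (hR : Nat.card R = r) (hRP : R ≤ normalizer (P : Set G))
    (hnc : ¬ P ≤ centralizer (R : Set G)) {z : G} (hz : z ∈ Cfsg.sigmaCore M)
    (hzR : z ∈ centralizer (R : Set G)) (hzp : (orderOf z).Prime) :
    orderOf z ∈ Cfsg.beta M ∧ z ∉ centralizer (P : Set G) := by
  set q := orderOf z with hqdef
  haveI := Fact.mk hzp
  have hqM : q ∈ Cfsg.sigma M := sigmaCore_isPiNumber M q hzp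
    ((Cfsg.sigmaCore M).orderOf_dvd_natCard hz)
  obtain ⟨hnot, hLs⟩ := F.normalizer_tau13_basic hM (Or.inr hp3) hPM hP
  have hP0 := ne_bot_of_prime_card (hP ▸ hp.out)
  have hPs : ∀ x : ℕ, x.Prime → x ∣ Nat.card P → x ∈ Cfsg.tau3 M := fun x hx hd =>
    (Nat.prime_dvd_prime_iff_eq hx hp.out).mp (hP ▸ hd) ▸ hp3
  have hqb : q ∈ Cfsg.beta M := by
    by_contra hb
    obtain ⟨E, hE, hPE⟩ := F.s10.exists_compl_ge hM hPM fun x hx hd => (hPs x hx hd).2.1
    obtain ⟨S, hS, -, hES⟩ := exists_invariant_sylowOf (q := q) (U := ⊥)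
      (compl_le_normalizer_sigmaCore hE) (F.compl_coprime hM hE)
      (F.isSolvable_le hM (sigmaCore_le M)) bot_le IsPGroup.of_bot
      (fun a _ => cj_eq_iff.mp (Subgroup.map_bot _))
    have hu := (F.fixed_element_tau1 hM hr1 hRM hR hz hzR hzp).2 S hS
    refine hnot (BG11.le_of_inUniqueMaximal hu hM (hS.1.trans (sigmaCore_le M))
      (normalizer_ne_top' F.minSimple hP0 (ne_top_of_le_coatom hM hPM))
      ((le_centralizer_iff.mp ((F.tau3_le hM hE hPE hPs).2.1.trans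
        (F.derived_le_centralizer_sylow hM hE hqM hb hS hES))).trans
        (H41.centralizer_le_normalizer P)))
  refine ⟨hqb, fun hzP => hnot ?_⟩
  have hpr := F.tau1_ne_tau3 hp3 hr1
  have hcPR := coprime_of_pGroups (isPGroup_of_card_eq hP) (isPGroup_of_card_eq hR) hpr
  have hf : P ⊓ centralizer (R : Set G) = ⊥ := by
    by_contra h
    obtain ⟨x, hx, hxp⟩ := Coprime.exists_prime_orderOf_mem h
    have hx1 : x ≠ 1 := fun e => hxp.ne_one (by rw [e, orderOf_one])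
    exact hnc (zpowers_eq_of_prime_card (hP ▸ hp.out) hx.1 hx1 ▸ zpowers_le.mpr hx.2)
  exact F.normalizer_le_of_beta hM hqb (fun h => hp3.2.1 (F.beta_subset_sigma hM h)) hr1
    (zpowers_le.mpr (sigmaCore_le M hz)) (Nat.card_zpowers z) hRM hR hPM (isPGroup_of_card_eq hP)
    hP0 (fun e => hp3.2.1 (e ▸ hqM)) hpr hRP (commutator_eq_of_fpf hR hRP hcPR.symm hf)
    (zpowers_le.mpr hzP) (zpowers_le.mpr hzR)

/-- Elements of prime order commuting with `R` outside `M_σ` have the order of `R`. -/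
theorem orderOf_eq_of_commute {M P R : Subgroup G} (hM : IsCoatom M) {p r : ℕ} [hp : Fact p.Prime]
    [hr : Fact r.Prime] (hp3 : p ∈ Cfsg.tau3 M) (hr1 : r ∈ Cfsg.tau1 M) (hPM : P ≤ M)
    (hP : Nat.card P = p) (hRM : R ≤ M) (hR : Nat.card R = r) (hRP : R ≤ normalizer (P : Set G))
    (hnc : ¬ P ≤ centralizer (R : Set G))
    (hC : Cfsg.sigmaCore M ⊓ centralizer (P : Set G) ≠ ⊥) {u : G} (hu : u ∈ M)
    (huR : u ∈ centralizer (R : Set G)) (hup : (orderOf u).Prime)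
    (hus : orderOf u ∉ Cfsg.sigma M) : orderOf u = r := by
  by_contra hne
  set t := orderOf u with htdef
  haveI := Fact.mk hup
  have hU : Nat.card (zpowers u) = t := Nat.card_zpowers u
  have hUR : zpowers u ≤ centralizer (R : Set G) := zpowers_le.mpr huR
  have hH := (F.s10.sigmaCore_hall M hM).1
  obtain ⟨E₀, hE₀, hW₀⟩ := F.s10.exists_compl_ge hM (U := P ⊔ R) (sup_le hPM hRM) (fun x hx hd => by
    rcases prime_dvd_sup hRP hP hR hp.out hr.out hx hd with e | e <;> subst e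
    · exact hp3.2.1
    · exact hr1.2.1)
  obtain ⟨E, hE, hW⟩ := F.s10.exists_compl_ge hM (U := zpowers u ⊔ R)
    (sup_le (zpowers_le.mpr hu) hRM) (fun x hx hd => by
    rcases prime_dvd_sup ((le_centralizer_iff.mp hUR).trans (H41.centralizer_le_normalizer _))
      hU hR hup hr.out hx hd with e | e <;> subst e
    · exact hus
    · exact hr1.2.1)
  obtain ⟨m, hm, e⟩ := Coprime.exists_conj_hallOf (F.s10.isSolvable_max hM)
    (compl_isPiHallOf hH hE₀) (compl_isPiHallOf hH hE)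
  set P' := cj m P
  have hP'E : P' ≤ E := (cj_mono m (le_sup_left.trans hW₀)).trans e.le
  have hP'c : Nat.card P' = p := (card_cj m P).trans hP
  have hRE : R ≤ E := le_sup_right.trans hW
  have hUE : zpowers u ≤ E := le_sup_left.trans hW
  have hnc' : ¬ P' ≤ centralizer (R : Set G) := fun h => by
    -- move back to `E₀`
    have h1 : P ≤ centralizer (cj m⁻¹ R : Set G) := by
      have := cj_mono m⁻¹ h
      rwa [cj_inv_cj, cj_centralizer] at this
    have hR' : cj m⁻¹ R ≤ E₀ := by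
      rw [← cj_inv_cj m E₀]
      exact cj_mono _ (hRE.trans e.ge)
    obtain ⟨W, hW', hRW⟩ := exists_sylowOf_ge' (isPGroup_of_card_eq hR) (le_sup_right.trans hW₀)
    obtain ⟨f, hf, hle⟩ := BG11.exists_conj_le hW' ((isPGroup_of_card_eq hR).map _) hR'
    have heq : cj f (cj m⁻¹ R) = R := H41.eq_of_card_eq_of_le_cyclic
      (F.isCyclic_of_rank_one hr1.2.2.2.2 hW'.2.1 (hW'.1.trans hE₀.1)) hle hRW
      (by rw [card_cj, card_cj])
    refine hnc ?_
    have h2 := cj_mono f h1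
    rwa [cj_centralizer, heq, cj_eq_iff.mpr ((F.tau3_le hM hE₀ (le_sup_left.trans hW₀) fun x hx hd =>
      (Nat.prime_dvd_prime_iff_eq hx hp.out).mp (hP ▸ hd) ▸ hp3).2.2 hf)] at h2
  have hC' : Cfsg.sigmaCore M ⊓ centralizer (P' : Set G) ≠ ⊥ := fun h => hC (by
    have h1 : cj m (Cfsg.sigmaCore M ⊓ centralizer (P : Set G)) = ⊥ := by
      rw [cj_inf, cj_centralizer, cj_eq_iff.mpr (le_normalizer_sigmaCore M hm)]
      exact h
    exact (map_eq_bot_iff_of_injective _ (MulAut.conj m).injective).mp h1)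
  rcases tau_cases (F.s10.alpha_subset_sigma hM) hup
    (hU ▸ card_dvd_of_le (zpowers_le.mpr hu)) hus with h | h | h
  · -- two `τ₁`-subgroups with the same fixed points
    have hEP : E ≤ normalizer (P' : Set G) := (F.tau3_le hM hE hP'E fun x hx hd =>
      (Nat.prime_dvd_prime_iff_eq hx hp.out).mp (hP'c ▸ hd) ▸ hp3).2.2
    have hfp : ∀ Y : Subgroup G, ¬ P' ≤ centralizer (Y : Set G) →
        P' ⊓ centralizer (Y : Set G) = ⊥ := fun Y hY => by
      by_contra h'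
      obtain ⟨x, hx, hxp⟩ := Coprime.exists_prime_orderOf_mem h'
      have hx1 : x ≠ 1 := fun e => hxp.ne_one (by rw [e, orderOf_one])
      exact hY (zpowers_eq_of_prime_card (hP'c ▸ hp.out) hx.1 hx1 ▸ zpowers_le.mpr hx.2)
    have hncU : ¬ P' ≤ centralizer (zpowers u : Set G) := fun hPU =>
      F.not_commute_tau3 hM hE hp3 hr1 hP'E hP'c hRE hR hnc' h hp3 hUE hU hP'E hP'c hUR hPU
    have heq : Cfsg.sigmaCore M ⊓ centralizer (R : Set G) =
        Cfsg.sigmaCore M ⊓ centralizer (zpowers u : Set G) :=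
      le_antisymm (F.tau1_fixed_le M hM E hE r hr1 R hRE hR _ (le_inf hUE hUR) (hU ▸ hup))
        (F.tau1_fixed_le M hM E hE t h _ hUE hU R (le_inf hRE (le_centralizer_iff.mp hUR))
          (hR ▸ hr.out))
    have hMσ := compl_le_normalizer_sigmaCore hE
    have hcop := F.compl_coprime hM hE
    have hres := eq_of_common_fixed (F.isSolvable_le hM (sigmaCore_le M))
      (ne_bot_of_prime_card (hP'c ▸ hp.out)) (hR ▸ hr.out) (hU ▸ hup) (hRE.trans hMσ)
      (hUE.trans hMσ) (hP'E.trans hMσ) (hRE.trans hEP) (hUE.trans hEP) (hfp R hnc') (hfp _ hncU)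
      (hcop.coprime_dvd_left (card_dvd_of_le hP'E)) (hcop.coprime_dvd_left (card_dvd_of_le hRE))
      (hcop.coprime_dvd_left (card_dvd_of_le hUE)) heq fun hc =>
        F.fixed_not_le hM hp3 hr1 (hP'E.trans hE.1) hP'c hRM hR (hRE.trans hEP) hnc'
          (inf_le_left.trans (le_centralizer_iff.mp hc))
    rw [hR, hU] at hres
    exact hne hres.symm
  · exact F.not_tau2_of_tau3 hM hp3 hPM hP hC h
  · exact F.not_commute_tau3 hM hE hp3 hr1 hP'E hP'c hRE hR hnc' hr1 h hRE hR hUE hU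
      (le_centralizer_iff.mpr ((le_centralizer_iff_isMulCommutative).mpr
        (by haveI := isCyclic_of_prime_card (α := R) hR; infer_instance))) hUR

/-- `M` and `H` with `q ∈ σ(M) ∩ τ₂(H)`, centralized by a `σ(H)`-subgroup. -/
theorem false_of_tau2 {M H Z P : Subgroup G} (hM : IsCoatom M) (hH : IsCoatom H)
    (hne : ∀ g : G, H ≠ cj g M) {p q : ℕ} [hp : Fact p.Prime] [hq : Fact q.Prime]
    (hqM : q ∈ Cfsg.sigma M) (hq2 : q ∈ Cfsg.tau2 H) (hpH : p ∈ Cfsg.sigma H)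
    (hZM : Z ≤ M) (hZH : Z ≤ H) (hZ : Nat.card Z = q) (hPM : P ≤ M) (hPH : P ≤ H)
    (hP : Nat.card P = p) (hPZ : P ≤ centralizer (Z : Set G)) : False := by
  have hZq := isPGroup_of_card_eq hZ
  have hZ0 : Z ≠ ⊥ := ne_bot_of_prime_card (hZ ▸ hq.out)
  obtain ⟨E, hE, hZE⟩ := F.s10.exists_compl_ge hH hZH fun x hx hd =>
    (Nat.prime_dvd_prime_iff_eq hx hq.out).mp (hZ ▸ hd) ▸ hq2.2.1
  obtain ⟨A, hAE, hAe, hA2⟩ := F.exists_elemAb_compl hH hq2 hE
  obtain ⟨⟨-, hAu⟩, -⟩ := F.s10.compl_structure hH hE hq2 ⟨hAE, hAe, hA2⟩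
  obtain ⟨L, hL, hN⟩ := BG11.exists_coatom_ge
    (normalizer_ne_top' F.minSimple hZ0 (ne_top_of_le_coatom hM hZM))
  have hCL : centralizer (Z : Set G) ≤ L := (H41.centralizer_le_normalizer Z).trans hN
  have hAL : A ≤ L := (show A ≤ centralizer (Z : Set G) from fun a ha =>
    mem_centralizer_iff.mpr fun z hz => elemAb_commute hAe (hAu Z hZE hZ hz) ha).trans hCL
  by_cases hLH : L = H
  · subst hLH
    have hne' : L ≠ M := fun e => hne 1 (by rw [e, cj_one])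
    obtain ⟨-, S, hS, hZS, hSL, -⟩ := F.embedding hM hqM hZq hZ0 hZM hL hne' hN
    exact not_mem_sigma_of_dvd_compl (F.s10.sigmaCore_hall L hL).1
      (F.isComplIn_of_tau2 hM hL (Ne.symm hne') hqM hq2 hSL (hS.1.trans inf_le_left)) hp.out
      (hP ▸ card_dvd_of_le (le_inf hPM hPH)) hpH
  · exact ne_bot_of_prime_card (hP ▸ hp.out) (le_bot_iff.mp
      ((le_inf (F.s10.le_sigmaCore_of_isPGroup hH hpH hPH (isPGroup_of_card_eq hP))
        (hPZ.trans hCL)).trans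
        (F.s10.sigmaCore_inf_eq_bot hH hq2.2.1 (hAE.trans hE.1) hAe hA2 hL hLH hAL).le))

/-- BG 13.10. -/
theorem fixed_eq_bot_of_not_commute {M P R : Subgroup G} (hM : IsCoatom M) {p r : ℕ}
    [hp : Fact p.Prime] [hr : Fact r.Prime] (hp3 : p ∈ Cfsg.tau3 M) (hr1 : r ∈ Cfsg.tau1 M)
    (hPM : P ≤ M) (hP : Nat.card P = p) (hRM : R ≤ M) (hR : Nat.card R = r)
    (hRP : R ≤ normalizer (P : Set G)) (hnc : ¬ P ≤ centralizer (R : Set G)) :
    Cfsg.sigmaCore M ⊓ centralizer (P : Set G) = ⊥ := by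
  by_contra hC0
  set C := Cfsg.sigmaCore M ⊓ centralizer (P : Set G) with hCdef
  obtain ⟨H, hH, hN⟩ := BG11.exists_coatom_ge (normalizer_ne_top' F.minSimple
    (ne_bot_of_prime_card (hP ▸ hp.out)) (ne_top_of_le_coatom hM hPM))
  obtain ⟨hne, -, hT⟩ := F.normalizer_tau13' hM (Or.inr hp3) hPM hP hH hN
  have hCH : C ≤ H := inf_le_right.trans ((H41.centralizer_le_normalizer P).trans hN)
  have hPH : P ≤ H := le_normalizer.trans hN
  have hRH : R ≤ H := hRP.trans hN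
  have hRC : R ≤ normalizer (C : Set G) := le_normalizer_inf (hRM.trans (le_normalizer_sigmaCore M))
    (fun x hx => cj_eq_iff.mp (by rw [cj_centralizer, cj_eq_iff.mpr (hRP hx)]))
  have hcop : (Nat.card R).Coprime (Nat.card C) :=
    coprime_card_of_isPGroup (isPGroup_of_card_eq hR)
      (not_dvd_of_le_sigmaCore inf_le_left hr.out hr1.2.1)
  have hfix : C ⊓ centralizer (R : Set G) = ⊥ := by
    by_contra h
    obtain ⟨z, hz, hzp⟩ := Coprime.exists_prime_orderOf_mem h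
    exact (F.fixed_element_beta hM hp3 hr1 hPM hP hRM hR hRP hnc hz.1.1 hz.2 hzp).2 hz.1.2
  have hCU : C ≤ Cfsg.sigmaCore M ⊓ H := le_inf inf_le_left hCH
  have hTne : ⁅Cfsg.sigmaCore M ⊓ H, M ⊓ H⁆ ≠ ⊥ := fun e => hC0 (by
    have h1 : C ≤ centralizer (R : Set G) := commutator_eq_bot_iff_le_centralizer.mp
      (le_bot_iff.mp ((commutator_mono hCU (le_inf hRM hRH)).trans e.le))
    exact le_bot_iff.mp ((le_inf le_rfl h1).trans hfix.le))
  obtain ⟨hpH, -⟩ := hT hTne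
  have hrH : r ∈ Cfsg.tau1 H := by
    by_contra h
    exact hC0 (le_bot_iff.mp ((le_inf le_rfl (hCU.trans (le_centralizer_iff.mp
      (F.le_centralizer_inf_of_not_tau1 hM hH hne (isPGroup_of_card_eq hR) hRM hRH hr1.2.1
        h)))).trans hfix.le))
  obtain ⟨q, hq, hqC⟩ := Nat.exists_prime_and_dvd (fun e => hC0 (eq_bot_of_card_eq _ e))
  haveI := Fact.mk hq
  have hqM : q ∈ Cfsg.sigma M :=
    sigmaCore_isPiNumber M q hq (hqC.trans (card_dvd_of_le inf_le_left))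
  have hqH : q ∉ Cfsg.sigma H := F.not_sigma_of_nonconj hM hH hne hqM
  obtain ⟨W', hW'⟩ := Coprime.exists_invariant_sylow hRC hcop
    (Or.inr (F.isSolvable_le hM (inf_le_left.trans (sigmaCore_le M)))) q
  set W := (W' : Subgroup C).map C.subtype
  have hWs : IsSylowOf q W C := isSylowOf_map W'
  have hW0 := sylowOf_ne_bot hWs hqC
  have hWC : W ≤ C := map_subtype_le _
  have hWd : W ≤ ⁅H, H⁆ := by
    rw [← commutator_eq_of_fpf hR hW' (hcop.coprime_dvd_right (card_dvd_of_le hWC))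
      (le_bot_iff.mp ((inf_le_inf_right _ hWC).trans hfix.le))]
    exact commutator_mono (hWC.trans hCH) hRH
  have hqd : q ∣ Nat.card ↥⁅H, H⁆ :=
    (dvd_card_of_pGroup hWs.2.1 hW0).trans (card_dvd_of_le hWd)
  obtain ⟨Z, hZW, hZ⟩ := exists_prime_sub (dvd_card_of_pGroup hWs.2.1 hW0)
  have hPZ : P ≤ centralizer (Z : Set G) :=
    le_centralizer_iff.mp ((hZW.trans hWC).trans inf_le_right)
  have hZM : Z ≤ M := (hZW.trans hWC).trans (inf_le_left.trans (sigmaCore_le M))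
  have hZH : Z ≤ H := (hZW.trans hWC).trans hCH
  rcases tau_cases (F.s10.alpha_subset_sigma hH) hq (hqd.trans (card_dvd_of_le (derived_le H))) hqH
    with h | h | h
  · exact h.2.2.2.1 hqd
  · exact F.false_of_tau2 hM hH hne hqM h hpH hZM hZH hZ hPM hPH hP hPZ
  have hRZ : R ≤ normalizer (Z : Set G) := hW'.trans
    (normalizer_le_of_cyclic (F.isCyclic_of_rank_one h.2.2.2 hWs.2.1 (hWC.trans hCH)) hZW)
  have hncZ : ¬ Z ≤ centralizer (R : Set G) := fun h' => ne_bot_of_prime_card (hZ ▸ hq)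
    (le_bot_iff.mp ((le_inf (hZW.trans hWC) h').trans hfix.le))
  have hC' : Cfsg.sigmaCore H ⊓ centralizer (Z : Set G) ≠ ⊥ := fun e =>
    ne_bot_of_prime_card (hP ▸ hp.out) (le_bot_iff.mp
      ((le_inf (F.s10.le_sigmaCore_of_isPGroup hH hpH hPH (isPGroup_of_card_eq hP)) hPZ).trans e.le))
  obtain ⟨z, hz, hzp⟩ := Coprime.exists_prime_orderOf_mem
    (fun e => F.fixed_not_le hM hp3 hr1 hPM hP hRM hR hRP hnc (e.le.trans bot_le) :
      Cfsg.sigmaCore M ⊓ centralizer (R : Set G) ≠ ⊥)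
  obtain ⟨w, hw, hwp⟩ := Coprime.exists_prime_orderOf_mem
    (fun e => F.fixed_not_le hH h hrH hZH hZ hRH hR hRZ hncZ (e.le.trans bot_le) :
      Cfsg.sigmaCore H ⊓ centralizer (R : Set G) ≠ ⊥)
  have hzb := (F.fixed_element_beta hM hp3 hr1 hPM hP hRM hR hRP hnc hz.1 hz.2 hzp).1
  have hwb := (F.fixed_element_beta hH h hrH hZH hZ hRH hR hRZ hncZ hw.1 hw.2 hwp).1
  refine F.false_of_local_pair hM hH hr1 hrH hRM hRH hR hz.1 hz.2 rfl hzb hw.1 hw.2 rfl hwb
    (fun u hu huR hut => ?_) (fun u hu huR hus => ?_)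
  · have hσ := F.beta_subset_sigma hH hwb
    have := F.orderOf_eq_of_commute hM hp3 hr1 hPM hP hRM hR hRP hnc hC0 hu huR (hut ▸ hwp)
      (hut ▸ fun h' => F.not_sigma_of_nonconj hM hH hne h' hσ)
    exact hrH.2.1 ((hut.symm.trans this) ▸ hσ)
  · have hσ := F.beta_subset_sigma hM hzb
    have := F.orderOf_eq_of_commute hH h hrH hZH hZ hRH hR hRZ hncZ hC' hu huR (hus ▸ hzp)
      (hus ▸ F.not_sigma_of_nonconj hM hH hne hσ)
    exact hr1.2.1 ((hus.symm.trans this) ▸ hσ)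

/-- BG 13.5. -/
theorem tau1_semiprime {M E E₁ : Subgroup G} (hM : IsCoatom M)
    (hE : Cfsg.IsComplIn E (Cfsg.sigmaCore M) M) (hE₁ : Cfsg.IsPiHallOf (Cfsg.tau1 M) E₁ E)
    {x : G} (hx : x ∈ E₁) (hx1 : x ≠ 1) :
    Cfsg.sigmaCore M ⊓ centralizer ({x} : Set G) =
      Cfsg.sigmaCore M ⊓ centralizer (E₁ : Set G) := by
  refine le_antisymm ?_ (inf_le_inf_left _ (centralizer_le (Set.singleton_subset_iff.mpr hx)))
  obtain ⟨r, hr, hrd⟩ := Nat.exists_prime_and_dvd (mt orderOf_eq_one_iff.mp hx1)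
  haveI := Fact.mk hr
  obtain ⟨Z, hZ, hZc⟩ := exists_prime_sub (T := zpowers x) (q := r) (by rwa [Nat.card_zpowers])
  have hZE₁ : Z ≤ E₁ := hZ.trans (zpowers_le.mpr hx)
  have hr1 := hE₁.2.1 r hr (hZc ▸ card_dvd_of_le hZE₁)
  have hc₁ := (F.tau13_structure M hM E hE).2.1 E₁ hE₁
  rw [← centralizer_zpowers]
  refine le_inf inf_le_left ((inf_le_inf_left _ (centralizer_le hZ)).trans
    (le_centralizer_iff.mp ?_))
  refine Coprime.le_of_forall_sylow_le fun t ht T hT hTt => ?_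
  haveI := Fact.mk ht
  rcases eq_or_ne T ⊥ with rfl | hT0
  · exact bot_le
  obtain ⟨T₀, hT₀, hT₀c⟩ := exists_prime_sub (dvd_card_of_pGroup hTt hT0)
  have ht1 := hE₁.2.1 t ht (hT₀c ▸ card_dvd_of_le (hT₀.trans hT))
  have h1 := F.tau1_fixed_le M hM E hE r hr1 Z (hZE₁.trans hE₁.1) hZc T₀
    (le_inf (hT₀.trans (hT.trans hE₁.1)) (le_centralizer_of_cyclic_ge hc₁ (hT₀.trans hT) hZE₁))
    (hT₀c ▸ ht)
  exact le_centralizer_iff.mp (h1.trans
    (F.fixed_le_centralizer hM (Or.inl ht1) hT₀c hT₀ hTt ((hT.trans hE₁.1).trans hE.1)))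

/-- Without `τ₂`-primes, `E` is `E'` extended by a Hall `τ₁`-subgroup. -/
theorem le_derived_sup_hall {M E E₁ : Subgroup G} (hM : IsCoatom M)
    (hE : Cfsg.IsComplIn E (Cfsg.sigmaCore M) M) (hE₁ : Cfsg.IsPiHallOf (Cfsg.tau1 M) E₁ E)
    (h2 : ∀ t, t ∉ Cfsg.tau2 M) : E ≤ ⁅E, E⁆ ⊔ E₁ := by
  refine relIndex_eq_one.mp (Nat.eq_one_iff_not_exists_prime_dvd.mpr fun t ht hd => ?_)
  haveI := Fact.mk ht
  have hdE : t ∣ Nat.card E := hd.trans (relIndex_dvd_card _ _)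
  have htM := not_mem_sigma_of_dvd_compl (F.s10.sigmaCore_hall M hM).1 hE ht hdE
  rcases tau_cases (F.s10.alpha_subset_sigma hM) ht (hdE.trans (card_dvd_of_le hE.1)) htM with
    h | h | h
  · exact hE₁.2.2 t ht h (hd.trans (relIndex_dvd_of_le_left _ le_sup_right))
  · exact h2 t h
  · obtain ⟨T, hT⟩ := BG11.exists_sylowOf t E
    refine not_dvd_relIndex_of_sylowOf hT ?_ (sup_le (derived_le E) hE₁.1) hd
    exact (F.tau3_le hM hE hT.1 fun s hs hsd =>
      prime_of_dvd_pGroup hT.2.1 hs hsd ▸ h).2.1.trans le_sup_left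

/-- BG 13.11. -/
theorem tau3_structure {M E P : Subgroup G} (hM : IsCoatom M)
    (hE : Cfsg.IsComplIn E (Cfsg.sigmaCore M) M) {p : ℕ} [hp : Fact p.Prime]
    (hp3 : p ∈ Cfsg.tau3 M) (hPE : P ≤ E) (hP : Nat.card P = p)
    (hC : Cfsg.sigmaCore M ⊓ centralizer (P : Set G) ≠ ⊥) :
    Cfsg.tau2 M = ∅ ∧ (∃ r ∈ Cfsg.tau1 M, r ∣ Nat.card E) ∧
      (∀ X : Subgroup G, X ≤ E → (Nat.card X).Prime → E ≤ normalizer (X : Set G)) ∧
      ∀ x ∈ E, x ≠ 1 → Cfsg.sigmaCore M ⊓ centralizer ({x} : Set G) =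
        Cfsg.sigmaCore M ⊓ centralizer (E : Set G) := by
  set C := Cfsg.sigmaCore M ⊓ centralizer (P : Set G) with hCdef
  have h2 : ∀ t, t ∉ Cfsg.tau2 M := fun t =>
    F.not_tau2_of_tau3 hM hp3 (hPE.trans hE.1) hP hC
  have hdC := F.derived_le_centralizer_fixed hM hE hp3 hPE hP
  -- all `τ₃`-subgroups of prime order have the fixed points `C`
  have h3 : ∀ t : ℕ, t ∈ Cfsg.tau3 M → ∀ X : Subgroup G, X ≤ E → Nat.card X = t →
      Cfsg.sigmaCore M ⊓ centralizer (X : Set G) = C := by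
    intro t ht X hXE hXc
    haveI := Fact.mk ht.1
    refine le_antisymm (le_inf inf_le_left (le_centralizer_iff.mp ?_)) (le_inf inf_le_left
      (le_centralizer_iff.mp ?_))
    · exact ((F.tau3_le hM hE hPE fun x hx hd =>
        (Nat.prime_dvd_prime_iff_eq hx hp.out).mp (hP ▸ hd) ▸ hp3).2.1).trans
        (F.derived_le_centralizer_fixed hM hE ht hXE hXc)
    · exact ((F.tau3_le hM hE hXE fun x hx hd =>
        (Nat.prime_dvd_prime_iff_eq hx ht.1).mp (hXc ▸ hd) ▸ ht).2.1).trans hdC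
  -- all `τ₁`-subgroups centralize the `τ₃`-subgroups
  have h13 : ∀ r : ℕ, r ∈ Cfsg.tau1 M → ∀ R : Subgroup G, R ≤ E → Nat.card R = r →
      ∀ t : ℕ, t ∈ Cfsg.tau3 M → ∀ X : Subgroup G, X ≤ E → Nat.card X = t →
      X ≤ centralizer (R : Set G) := by
    intro r hr1 R hRE hR t ht X hXE hXc
    haveI := Fact.mk hr1.1
    haveI := Fact.mk ht.1
    by_contra hn
    exact hC ((h3 t ht X hXE hXc).symm.trans (F.fixed_eq_bot_of_not_commute hM ht hr1
      (hXE.trans hE.1) hXc (hRE.trans hE.1) hR (hRE.trans (F.tau3_le hM hE hXE fun x hx hd =>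
        (Nat.prime_dvd_prime_iff_eq hx ht.1).mp (hXc ▸ hd) ▸ ht).2.2) hn))
  have h1 : ∀ r : ℕ, r ∈ Cfsg.tau1 M → ∀ R : Subgroup G, R ≤ E → Nat.card R = r →
      Cfsg.sigmaCore M ⊓ centralizer (R : Set G) = C := by
    intro r hr1 R hRE hR
    haveI := Fact.mk hr1.1
    exact (F.fixed_eq_of_commute hM hE hp3 hr1 hPE hP hRE hR
      (h13 r hr1 R hRE hR p hp3 P hPE hP)).symm
  -- `C` is centralized by `E`
  obtain ⟨E₁, hE₁, -⟩ := exists_hall_ge (π := Cfsg.tau1 M) (U := ⊥) (F.isSolvable_le hM hE.1) bot_le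
    (fun x hx hd => absurd (Nat.dvd_one.mp (Subgroup.card_bot (G := G) ▸ hd)) hx.ne_one)
  have hE₁C : E₁ ≤ centralizer (C : Set G) := by
    refine Coprime.le_of_forall_sylow_le fun t ht T hT hTt => ?_
    haveI := Fact.mk ht
    rcases eq_or_ne T ⊥ with rfl | hT0
    · exact bot_le
    obtain ⟨T₀, hT₀, hT₀c⟩ := exists_prime_sub (dvd_card_of_pGroup hTt hT0)
    have ht1 := hE₁.2.1 t ht (hT₀c ▸ card_dvd_of_le (hT₀.trans hT))
    exact le_centralizer_iff.mp ((h1 t ht1 T₀ (hT₀.trans (hT.trans hE₁.1)) hT₀c).ge.trans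
      (F.fixed_le_centralizer hM (Or.inl ht1) hT₀c hT₀ hTt ((hT.trans hE₁.1).trans hE.1)))
  have hEC : E ≤ centralizer (C : Set G) :=
    (F.le_derived_sup_hall hM hE hE₁ h2).trans (sup_le hdC hE₁C)
  have hcases : ∀ t : ℕ, t.Prime → t ∣ Nat.card E → t ∈ Cfsg.tau1 M ∨ t ∈ Cfsg.tau3 M := by
    intro t ht hd
    rcases tau_cases (F.s10.alpha_subset_sigma hM) ht (hd.trans (card_dvd_of_le hE.1))
      (not_mem_sigma_of_dvd_compl (F.s10.sigmaCore_hall M hM).1 hE ht hd) with h | h | h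
    · exact Or.inl h
    · exact absurd h (h2 t)
    · exact Or.inr h
  refine ⟨Set.eq_empty_iff_forall_notMem.mpr h2, ?_, fun X hXE hXp => ?_, fun x hx hx1 => ?_⟩
  · -- some prime of `τ₁` divides `|E|`, as `E ≠ E'`
    by_contra hno
    push Not at hno
    have hle : E ≤ ⁅E, E⁆ := by
      refine Coprime.le_of_forall_sylow_le fun t ht T hT hTt => ?_
      haveI := Fact.mk ht
      rcases eq_or_ne T ⊥ with rfl | hT0
      · exact bot_le
      have hd := (dvd_card_of_pGroup hTt hT0).trans (card_dvd_of_le hT)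
      exact (hcases t ht hd).elim (fun h => absurd hd (hno t h)) fun h =>
        (F.tau3_le hM hE hT fun s hs hsd => prime_of_dvd_pGroup hTt hs hsd ▸ h).2.1
    haveI := F.isSolvable_le hM hE.1
    haveI : Nontrivial E := nontrivial_iff_ne_bot E |>.mpr fun e =>
      ne_bot_of_prime_card (hP ▸ hp.out) (le_bot_iff.mp (e ▸ hPE))
    refine (IsSolvable.commutator_lt_top_of_nontrivial (G := E)).ne
      (eq_top_iff.mpr fun y _ => ?_)
    obtain ⟨y', hy', he⟩ := (map_subtype_commutator E).ge (hle y.2)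
    exact (Subtype.ext he : y' = y) ▸ hy'
  · -- every subgroup of prime order is normal in `E`
    haveI := Fact.mk hXp
    rcases hcases _ hXp (card_dvd_of_le hXE) with h | h
    · obtain ⟨E₂, hE₂, hXE₂⟩ := exists_hall_ge (π := Cfsg.tau1 M) (F.isSolvable_le hM hE.1) hXE
        fun x hx hd => (Nat.prime_dvd_prime_iff_eq hx hXp).mp hd ▸ h
      refine (F.le_derived_sup_hall hM hE hE₂ h2).trans (sup_le ?_
        ((le_centralizer_of_cyclic_ge ((F.tau13_structure M hM E hE).2.1 E₂ hE₂) le_rfl hXE₂).trans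
          (H41.centralizer_le_normalizer X)))
      haveI := F.s10.commute_compl_derived hM hE
      have hnd : ∀ t : ℕ, t.Prime → t ∣ Nat.card ↥⁅E, E⁆ → t ∈ Cfsg.tau3 M := fun t ht hd =>
        (hcases t ht (hd.trans (card_dvd_of_le (derived_le E)))).elim
          (fun h' => absurd (hd.trans (card_dvd_of_le (commutator_mono hE.1 hE.1))) h'.2.2.2.1) id
      refine (le_centralizer_iff.mp (Coprime.le_centralizer_of_prime_order
        (hXE.trans (le_normalizer_derived E)) ?_ fun v hv hvp a ha => ?_)).trans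
        (H41.centralizer_le_normalizer X)
      · exact coprime_card_of_isPGroup (isPGroup_of_card_eq rfl) fun hd =>
          tau1_disjoint_tau3 h (hnd _ hXp hd)
      · have hv3 := hnd _ hvp ((⁅E, E⁆ : Subgroup G).orderOf_dvd_natCard hv)
        exact mem_centralizer_iff.mp (h13 _ h X hXE rfl _ hv3 (zpowers v)
          (zpowers_le.mpr (derived_le E hv)) (Nat.card_zpowers v) (mem_zpowers v)) a ha
    · exact (F.tau3_le hM hE hXE fun x hx hd =>
        (Nat.prime_dvd_prime_iff_eq hx hXp).mp hd ▸ h).2.2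
  · refine le_antisymm ?_ (inf_le_inf_left _ (centralizer_le (Set.singleton_subset_iff.mpr hx)))
    obtain ⟨t, ht, htd⟩ := Nat.exists_prime_and_dvd (mt orderOf_eq_one_iff.mp hx1)
    haveI := Fact.mk ht
    obtain ⟨Z, hZ, hZc⟩ := exists_prime_sub (T := zpowers x) (q := t) (by rwa [Nat.card_zpowers])
    have hZE : Z ≤ E := hZ.trans (zpowers_le.mpr hx)
    have hZC : Cfsg.sigmaCore M ⊓ centralizer (Z : Set G) = C :=
      (hcases t ht (hZc ▸ card_dvd_of_le hZE)).elim (fun h => h1 t h Z hZE hZc)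
        fun h => h3 t h Z hZE hZc
    rw [← centralizer_zpowers]
    exact ((inf_le_inf_left _ (centralizer_le hZ)).trans hZC.le).trans
      (le_inf inf_le_left (le_centralizer_iff.mp hEC))

/-- BG 13.6. -/
theorem fixed_element {M X : Subgroup G} (hM : IsCoatom M) {p : ℕ} [hp : Fact p.Prime]
    (hpτ : p ∈ Cfsg.tau1 M ∪ Cfsg.tau3 M) (hXM : X ≤ M) (hX : Nat.card X = p) {z : G}
    (hz : z ∈ Cfsg.sigmaCore M) (hzX : z ∈ centralizer (X : Set G)) (hzp : (orderOf z).Prime) :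
    (centralizer ({z} : Set G) ≤ M ∧
        ∀ L : Subgroup G, IsCoatom L → centralizer ({z} : Set G) ≤ L → L = M) ∧
      ∀ S : Subgroup G, IsSylowOf (orderOf z) S (Cfsg.sigmaCore M) → Cfsg.InUniqueMaximal S := by
  rcases hpτ with h | h
  · exact F.fixed_element_tau1 hM h hXM hX hz hzX hzp
  obtain ⟨E, hE, hXE⟩ := F.s10.exists_compl_ge hM hXM fun x hx hd =>
    (Nat.prime_dvd_prime_iff_eq hx hp.out).mp (hX ▸ hd) ▸ h.2.1
  have hC : Cfsg.sigmaCore M ⊓ centralizer (X : Set G) ≠ ⊥ := fun e => hzp.ne_one (by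
    have hz1 : z ∈ (⊥ : Subgroup G) := e ▸ ⟨hz, hzX⟩
    rw [mem_bot.mp hz1, orderOf_one])
  obtain ⟨-, ⟨r, hr1, hrd⟩, -, hfix⟩ := F.tau3_structure hM hE h hXE hX hC
  haveI := Fact.mk hr1.1
  obtain ⟨R, hRE, hR⟩ := exists_prime_sub hrd
  refine F.fixed_element_tau1 hM hr1 (hRE.trans hE.1) hR hz ?_ hzp
  obtain ⟨x, hx, hxp⟩ := Coprime.exists_prime_orderOf_mem
    (ne_bot_of_prime_card (hX ▸ hp.out) : X ≠ ⊥)
  have hzx : z ∈ centralizer ({x} : Set G) := centralizer_le (Set.singleton_subset_iff.mpr hx) hzX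
  exact centralizer_le hRE
    ((hfix x (hXE hx) fun e => hxp.ne_one (by rw [e, orderOf_one])).le ⟨hz, hzx⟩).2

end Hyp

end Cfsg.Agent.OddOrder.BG13
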