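import Cfsg.Agent.OddOrder.BG13.TauThree

/-!
# The fixed line on a `τ₂`-elementary group; BG 12.15 (e)
-/

set_option autoImplicit false

universe u

namespace Cfsg.Agent.OddOrder.BG13

open Subgroup H40 BG11
open scoped commutatorElement

variable {G : Type u} [Group G] [Finite G]

theorem elemAb_sup_of_commute {p : ℕ} [hp : Fact p.Prime] {X Y : Subgroup G} (hX : Nat.card X = p)
    (hY : Nat.card Y = p) (hne : X ≠ Y) (hc : X ≤ centralizer (Y : Set G)) :
    Cfsg.IsElementaryAbelian p (X ⊔ Y) ∧ Nat.card ↥(X ⊔ Y) = p ^ 2 := by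
  have hpow : ∀ Z : Subgroup G, Nat.card Z = p → ∀ z ∈ Z, z ^ p = 1 := fun Z hZ z hz =>
    orderOf_dvd_iff_pow_eq_one.mp (hZ ▸ Z.orderOf_dvd_natCard hz)
  have hd : X ⊓ Y = ⊥ := by
    by_contra h
    obtain ⟨x, hx, hx1⟩ := H41.exists_ne_one h
    exact hne ((zpowers_eq_of_prime_card (hX ▸ hp.out) hx.1 hx1).symm.trans
      (zpowers_eq_of_prime_card (hY ▸ hp.out) hx.2 hx1))
  have hcomm : ∀ a ∈ X, ∀ b ∈ Y, a * b = b * a := fun a ha b hb =>
    (mem_centralizer_iff.mp (hc ha) b hb).symm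
  haveI := isCyclic_of_prime_card (α := X) hX
  haveI := isCyclic_of_prime_card (α := Y) hY
  have hXX : X ≤ centralizer (X : Set G) := le_centralizer_of_cyclic_ge inferInstance le_rfl le_rfl
  have hYY : Y ≤ centralizer (Y : Set G) := le_centralizer_of_cyclic_ge inferInstance le_rfl le_rfl
  refine ⟨⟨?_, fun a ha => ?_⟩, ?_⟩
  · have hS : X ⊔ Y ≤ centralizer ((X ⊔ Y : Subgroup G) : Set G) :=
      le_centralizer_iff.mp (sup_le (le_centralizer_iff.mp (sup_le hXX (le_centralizer_iff.mp hc)))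
        (le_centralizer_iff.mp (sup_le hc hYY)))
    exact le_centralizer_iff_isMulCommutative.mp hS
  · obtain ⟨x, hx, y, hy, rfl⟩ := (Coprime.mem_sup_iff
      ((le_centralizer_iff.mp hc).trans (H41.centralizer_le_normalizer X))).mp ha
    rw [Commute.mul_pow (hcomm x hx y hy), hpow X hX x hx, hpow Y hY y hy, one_mul]
  · rw [H41.card_sup_of_commute X Y hcomm hd, hX, hY, sq]

namespace Hyp

variable (F : Hyp G)
include F

/-- An operator of order `q` fixing only a line of `A` centralizes no elementary subgroup of order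
`p ^ 2` of `M`. -/
theorem false_of_centralized {M A W : Subgroup G} (hM : IsCoatom M) {p q : ℕ} [hp : Fact p.Prime]
    [hq : Fact q.Prime] (hp2 : p ∈ Cfsg.tau2 M) (hqs : q ∉ Cfsg.sigma M) (hAM : A ≤ M)
    (hA : Cfsg.IsElementaryAbelian p A) (hA2 : Nat.card A = p ^ 2) {z : G} (hzM : z ∈ M)
    (hzA : z ∈ normalizer (A : Set G)) (hzq : orderOf z = q) (hqp : q ≠ p)
    (hfix : ¬ zpowers z ≤ centralizer (A : Set G)) (hWM : W ≤ M)
    (hW : Cfsg.IsElementaryAbelian p W) (hW2 : Nat.card W = p ^ 2)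
    (hzW : zpowers z ≤ centralizer (W : Set G)) : False := by
  have hZ : Nat.card (zpowers z) = q := by rw [Nat.card_zpowers, hzq]
  have hs : ∀ B : Subgroup G, Cfsg.IsElementaryAbelian p B →
      zpowers z ≤ normalizer (B : Set G) → ∀ x : ℕ, x.Prime → x ∣ Nat.card ↥(B ⊔ zpowers z) →
        x ∉ Cfsg.sigma M := fun B hB hn x hx hd => by
    rcases hx.dvd_mul.mp (hd.trans (card_sup_dvd hn)) with h1 | h1
    · exact prime_of_dvd_pGroup (elemAb_isPGroup hB) hx h1 ▸ hp2.2.1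
    · exact (Nat.prime_dvd_prime_iff_eq hx hq.out).mp (hZ ▸ h1) ▸ hqs
  have hzA' : zpowers z ≤ normalizer (A : Set G) := zpowers_le.mpr hzA
  obtain ⟨E', hE', hU'⟩ := F.s10.exists_compl_ge hM (U := A ⊔ zpowers z)
    (sup_le hAM (zpowers_le.mpr hzM)) (hs A hA hzA')
  obtain ⟨E, hE, hU⟩ := F.s10.exists_compl_ge hM (U := W ⊔ zpowers z)
    (sup_le hWM (zpowers_le.mpr hzM))
    (hs W hW (hzW.trans (H41.centralizer_le_normalizer W)))
  have hH := (F.s10.sigmaCore_hall M hM).1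
  obtain ⟨m, -, e⟩ := Coprime.exists_conj_hallOf (F.s10.isSolvable_max hM)
    (compl_isPiHallOf hH hE') (compl_isPiHallOf hH hE)
  have hAE : cj m A ≤ E := (cj_mono m (le_sup_left.trans hU')).trans e.le
  have hWE : W ≤ E := le_sup_left.trans hU
  have hzE : zpowers z ≤ E := le_sup_right.trans hU
  have hzE' : cj m (zpowers z) ≤ E := (cj_mono m (le_sup_right.trans hU')).trans e.le
  obtain ⟨⟨hEA, hAu⟩, -⟩ := F.s10.compl_structure hM hE hp2
    ⟨hAE, elemAb_cj hA m, (card_cj m A).trans hA2⟩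
  have hWA : W = cj m A := by
    refine eq_of_le_of_card_ge (fun w hw => ?_) ((card_cj m A).trans hA2 |>.trans hW2.symm).le
    rcases eq_or_ne w 1 with rfl | hw1
    · exact one_mem _
    exact hAu (zpowers w) ((zpowers_le.mpr hw).trans hWE)
      (by rw [Nat.card_zpowers]; exact orderOf_eq_prime (hW.2 w hw) hw1) (mem_zpowers w)
  have hEW : E ≤ normalizer (W : Set G) := hWA ▸ hEA
  have hzz : cj m (zpowers z) ≤ centralizer (W : Set G) := by
    by_cases h1 : Cfsg.PRankLE q 1 M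
    · obtain ⟨T, hT, hzT⟩ := exists_sylowOf_ge' (isPGroup_of_card_eq hZ) hzE
      obtain ⟨f, hf, hle⟩ := BG11.exists_conj_le hT ((isPGroup_of_card_eq hZ).map _) hzE'
      have heq : cj f (cj m (zpowers z)) = zpowers z := H41.eq_of_card_eq_of_le_cyclic
        (F.isCyclic_of_rank_one h1 hT.2.1 (hT.1.trans hE.1)) hle hzT (by rw [card_cj, card_cj])
      have h2 := cj_mono f⁻¹ hzW
      rwa [cj_centralizer, cj_eq_iff.mpr (hEW (E.inv_mem hf)), ← heq, cj_inv_cj] at h2
    · have hq2 : q ∈ Cfsg.tau2 M := ⟨hq.out, hqs, F.s10.pRankLE_two hM hqs, h1⟩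
      obtain ⟨B, hBE, hB, hB2⟩ := F.exists_elemAb_compl hM hq2 hE
      obtain ⟨⟨hEB, hBu⟩, -⟩ := F.s10.compl_structure hM hE hq2 ⟨hBE, hB, hB2⟩
      refine (hBu _ hzE' ((card_cj m _).trans hZ)).trans ?_
      rw [← commutator_eq_bot_iff_le_centralizer]
      refine le_bot_iff.mp ((le_inf ?_ (Coprime.commutator_le_left_of_normalizer
        (hBE.trans hEW) |> (commutator_comm B W).le.trans)).trans
        (Coprime.inf_eq_bot (coprime_of_pGroups (elemAb_isPGroup hB) (elemAb_isPGroup hW) hqp)).le)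
      rw [← commutator_comm]
      exact (commutator_comm _ _).le.trans (Coprime.commutator_le_left_of_normalizer (hWE.trans hEB))
  refine hfix ?_
  rw [hWA, ← cj_centralizer] at hzz
  have h3 := cj_mono m⁻¹ hzz
  rwa [cj_inv_cj, cj_inv_cj] at h3

/-- LINE. -/
theorem tau2_line {M A : Subgroup G} (hM : IsCoatom M) {p : ℕ} [hp : Fact p.Prime]
    (hp2 : p ∈ Cfsg.tau2 M) (hAM : A ≤ M) (hA : Cfsg.IsElementaryAbelian p A)
    (hA2 : Nat.card A = p ^ 2) {z : G} (hz : z ∈ normalizer (A : Set G)) (hzp : (orderOf z).Prime)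
    (hqp : orderOf z ≠ p) (hX : Nat.card ↥(A ⊓ centralizer ({z} : Set G)) = p) :
    ¬ normalizer ((A ⊓ centralizer ({z} : Set G) : Subgroup G) : Set G) ≤ M := by
  intro hNM
  set q := orderOf z with hqdef
  set X := A ⊓ centralizer ({z} : Set G) with hXdef
  haveI := Fact.mk hzp
  have hZ : Nat.card (zpowers z) = q := Nat.card_zpowers z
  have hXz : X ≤ centralizer (zpowers z : Set G) :=
    inf_le_right.trans (centralizer_zpowers z).ge
  have hX0 : X ≠ ⊥ := ne_bot_of_prime_card (hX ▸ hp.out)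
  have hzM : z ∈ M := hNM ((le_centralizer_iff.mp hXz).trans (H41.centralizer_le_normalizer X)
    (mem_zpowers z))
  have hfix : ¬ zpowers z ≤ centralizer (A : Set G) := fun h => by
    have he : X = A := inf_eq_left.mpr ((le_centralizer_iff.mp h).trans (centralizer_zpowers z).le)
    have := hX.symm.trans (he ▸ hA2)
    nlinarith [hp.out.two_le]
  obtain ⟨E, hE, hAE⟩ := F.s10.exists_compl_ge hM hAM fun x hx hd =>
    prime_of_dvd_pGroup (elemAb_isPGroup hA) hx hd ▸ hp2.2.1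
  obtain ⟨-, ⟨-, -, hnA⟩, -⟩ := F.s10.compl_structure hM hE hp2 ⟨hAE, hA, hA2⟩
  have hA0 : A ≠ ⊥ := fun e => hX0 (le_bot_iff.mp (inf_le_left.trans e.le))
  have hNs : Group.IsSolvable (normalizer (A : Set G)) :=
    OddOrder.isSolvable_of_ne_top F.minSimple
      (normalizer_ne_top' F.minSimple hA0 (ne_top_of_le_coatom hM hAM))
  have hp3 : p ≠ 2 := F.ne_two (dvd_of_elemAb hA2 le_rfl)
  by_cases hdiv : p ∣ (centralizer (A : Set G)).relIndex (normalizer (A : Set G))
  swap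
  · -- abelian image: `N(A)` fixes `X`
    have hder := commutator_le_centralizer_of_sq hp3 hA hA2 le_rfl hNs (F.odd_sub _) hdiv
    refine hnA (le_trans ?_ hNM)
    rw [le_normalizer_iff]
    intro n hn x hx
    refine ⟨(mem_normalizer_iff.mp hn x).mp hx.1, mem_centralizer_singleton_iff.mpr ?_⟩
    have hc : n⁻¹ * z * n * z⁻¹ ∈ centralizer (A : Set G) := by
      have := hder (commutator_mem_commutator (inv_mem hn) hz)
      rwa [commutatorElement_def, inv_inv] at this
    have h1 : x * (n⁻¹ * z * n * z⁻¹) = n⁻¹ * z * n * z⁻¹ * x := mem_centralizer_iff.mp hc x hx.1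
    have h2 : x * z = z * x := mem_centralizer_singleton_iff.mp hx.2
    calc n * x * n⁻¹ * z = n * (x * (n⁻¹ * z * n * z⁻¹)) * z * n⁻¹ := by group
      _ = n * (n⁻¹ * z * n * z⁻¹ * x) * z * n⁻¹ := by rw [h1]
      _ = z * n * z⁻¹ * (x * z) * n⁻¹ := by group
      _ = z * n * z⁻¹ * (z * x) * n⁻¹ := by rw [h2]
      _ = z * (n * x * n⁻¹) := by group
  -- a line fixed by `N(A)`
  obtain ⟨L₀, hL₀A, hL₀, hNL₀, -⟩ := exists_invariant_line_of_sq hp3 hA hA2 le_rfl hNs
    (F.odd_sub _) hdiv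
  obtain ⟨L, hL, hN⟩ := BG11.exists_coatom_ge (normalizer_ne_top' F.minSimple
    (ne_bot_of_prime_card (hL₀ ▸ hp.out)) (ne_top_of_le_coatom hM (hL₀A.trans hAM)))
  have hNAL : normalizer (A : Set G) ≤ L := hNL₀.trans hN
  have hLM : L ≠ M := fun e => hnA (e ▸ hNAL)
  have hAL : A ≤ L := le_normalizer.trans hNAL
  have hzL : z ∈ L := hNAL hz
  have hpL : p ∈ Cfsg.sigma L := by
    by_contra hps
    have hpL2 : p ∈ Cfsg.tau2 L := ⟨hp.out, hps, F.s10.pRankLE_two hL hps, not_pRankLE_one hA hA2 hAL⟩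
    obtain ⟨EL, hEL, hAEL⟩ := F.s10.exists_compl_ge hL hAL fun x hx hd =>
      prime_of_dvd_pGroup (elemAb_isPGroup hA) hx hd ▸ hps
    exact (F.s10.compl_structure hL hEL hpL2 ⟨hAEL, hA, hA2⟩).2.1.2.2 hNAL
  have hpb : p ∉ Cfsg.beta L := fun h =>
    (F.s10.p2_maximal M hM p hp2.2.1 hp2.2.2.1 hp2.2.2.2).1 h.2
  have hAσ : A ≤ Cfsg.sigmaCore L := F.s10.le_sigmaCore_of_isPGroup hL hpL hAL (elemAb_isPGroup hA)
  have hqL : q ∉ Cfsg.sigma L ∪ Cfsg.tau3 L := fun h => hfix
    (F.s10.le_centralizer_of_not_beta hL hqp (isPGroup_of_card_eq hZ) (elemAb_isPGroup hA)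
      (F.pGroup_le_derived hL (isPGroup_of_card_eq hZ) (zpowers_le.mpr hzL) h)
      (F.pGroup_le_derived hL (elemAb_isPGroup hA) hAL (Or.inl hpL)) (zpowers_le.mpr hz) hpb)
  have hqM : q ∉ Cfsg.sigma M := fun h => hfix (by
    rw [← commutator_eq_bot_iff_le_centralizer, commutator_comm]
    have h1 : zpowers z ≤ Cfsg.sigmaCore M :=
      F.s10.le_sigmaCore_of_isPGroup hM h (zpowers_le.mpr hzM) (isPGroup_of_card_eq hZ)
    refine le_bot_iff.mp ((le_inf (Coprime.commutator_le_left_of_normalizer (zpowers_le.mpr hz))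
      (((commutator_comm A (zpowers z)).le.trans (commutator_mono h1 le_rfl)).trans
        (Coprime.commutator_le_left_of_normalizer (hAM.trans (le_normalizer_sigmaCore M))))).trans
      (Coprime.inf_eq_bot (coprime_card_of_isPGroup (elemAb_isPGroup hA)
        (not_dvd_of_le_sigmaCore le_rfl hp.out hp2.2.1))).le))
  rcases tau_cases (F.s10.alpha_subset_sigma hL) hzp
    (hZ ▸ card_dvd_of_le (zpowers_le.mpr hzL)) (fun h => hqL (Or.inl h)) with h1 | h2 | h3
  · -- `C(x) ≤ L` uniquely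
    obtain ⟨x, hx, hxp⟩ := Coprime.exists_prime_orderOf_mem hX0
    have hu := (F.fixed_element_tau1 hL h1 (zpowers_le.mpr hzL) hZ (hAσ hx.1) (hXz hx) hxp).1
    have hx1 : x ≠ 1 := fun e => hxp.ne_one (by rw [e, orderOf_one])
    refine hLM (hu.2 M hM ?_).symm
    rw [← centralizer_zpowers, zpowers_eq_of_prime_card (hX ▸ hp.out) hx hx1]
    exact (H41.centralizer_le_normalizer X).trans hNM
  · obtain ⟨EL, hEL, hzEL⟩ := F.s10.exists_compl_ge hL (zpowers_le.mpr hzL) fun x hx hd =>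
      (Nat.prime_dvd_prime_iff_eq hx hzp).mp (hZ ▸ hd) ▸ h2.2.1
    obtain ⟨B, hBE, hB, hB2⟩ := F.exists_elemAb_compl hL h2 hEL
    obtain ⟨⟨-, hBu⟩, -⟩ := F.s10.compl_structure hL hEL h2 ⟨hBE, hB, hB2⟩
    have hBz : B ≤ centralizer (zpowers z : Set G) := fun b hb =>
      mem_centralizer_iff.mpr fun y hy => elemAb_commute hB (hBu _ hzEL hZ hy) hb
    have hnil := (F.s10.tauTwo_structure hL h2 ⟨hBE.trans hEL.1, hB, hB2⟩).1
    obtain ⟨P, hP, hXP⟩ := exists_sylowOf_ge' ((elemAb_isPGroup hA).to_le inf_le_left : IsPGroup p X)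
      (inf_le_left.trans hAL : X ≤ L)
    have hPn : L ≤ normalizer (P : Set G) :=
      (F.s10.normalizer_sylow_of_nilpotent hL hpL hnil hP).ge
    set V := P ⊓ centralizer (zpowers z : Set G) with hVdef
    have hBV : B ≤ normalizer (V : Set G) :=
      le_normalizer_inf_centralizer ((hBE.trans hEL.1).trans hPn) hBz
    have hXV : X ≤ V := le_inf hXP hXz
    have hVp : IsPGroup p V := hP.2.1.to_le inf_le_left
    by_cases hVc : IsCyclic V
    · have hBM : B ≤ M := (hBV.trans (normalizer_le_of_cyclic hVc hXV)).trans hNM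
      exact hA0 (le_bot_iff.mp ((le_inf hAσ hAM).trans (F.s10.sigmaCore_inf_eq_bot hL h2.2.1
        (hBE.trans hEL.1) hB hB2 hM (Ne.symm hLM) hBM).le))
    -- an element of order `p` of `V` outside `X` commuting with `X`
    obtain ⟨w, hwV, hwp, hwX, hwc⟩ : ∃ w ∈ V, orderOf w = p ∧ w ∉ X ∧
        zpowers w ≤ centralizer (X : Set G) := by
      have hV0 : V ≠ ⊥ := fun e => hX0 (le_bot_iff.mp (hXV.trans e.le))
      haveI : Nontrivial V := (nontrivial_iff_ne_bot V).mpr hV0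
      obtain ⟨c, -, hc, hco⟩ := PGroups.exists_mem_center_orderOf_eq hVp (⊤ : Subgroup V) top_ne_bot
      have hco' : orderOf (c : G) = p := by rw [Subgroup.orderOf_coe, hco]
      have hcc : zpowers (c : G) ≤ centralizer (V : Set G) := zpowers_le.mpr
        (mem_centralizer_iff.mpr fun v hv =>
          congrArg Subtype.val (Subgroup.mem_center_iff.mp hc ⟨v, hv⟩))
      by_cases hcX : (c : G) ∈ X
      · -- `X` is central in `V`
        have hXc : X = zpowers (c : G) := (zpowers_eq_of_prime_card (hX ▸ hp.out) hcX fun e => by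
          rw [e, orderOf_one] at hco'; exact hp.out.ne_one hco'.symm).symm
        by_contra hno
        push Not at hno
        refine hVc (BG11.isCyclic_of_pRankLE_one hp3 hVp (by_contra fun hr => ?_))
        obtain ⟨D, hDV, hD, hD2⟩ := exists_elemAb_sq hr
        obtain ⟨d, hd, hdX⟩ : ∃ d ∈ D, d ∉ X := by
          by_contra h
          push Not at h
          have h' := (hD2 ▸ hX ▸ card_le_of_le (fun d hd => h d hd : D ≤ X))
          nlinarith [hp.out.two_le]
        exact hno d (hDV hd) (orderOf_eq_prime (hD.2 d hd) fun e => hdX (e ▸ one_mem X)) hdX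
          ((zpowers_le.mpr (hDV hd)).trans (le_centralizer_iff.mp (hXc ▸ hcc)))
      · exact ⟨c, c.2, hco', hcX, hcc.trans (centralizer_le hXV)⟩
    have hW : Nat.card (zpowers w) = p := by rw [Nat.card_zpowers, hwp]
    obtain ⟨hWe, hW2⟩ := elemAb_sup_of_commute hW hX (fun e => hwX (e ▸ mem_zpowers w)) hwc
    exact F.false_of_centralized hM hp2 hqM hAM hA hA2 hzM hz rfl hqp hfix
      (sup_le ((hwc.trans (H41.centralizer_le_normalizer X)).trans hNM) (inf_le_left.trans hAM))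
      hWe hW2 (le_centralizer_iff.mp
        (sup_le ((zpowers_le.mpr hwV).trans inf_le_right) hXz))
  · exact hqL (Or.inr h3)

/-- BG 13.12: a `τ₁`-subgroup with fixed points centralizes no `τ₂`-subgroup of `E`. -/
theorem not_tau2_of_commute {M E R Y : Subgroup G} (hM : IsCoatom M)
    (hE : Cfsg.IsComplIn E (Cfsg.sigmaCore M) M) {r s : ℕ} [hr : Fact r.Prime] [hs : Fact s.Prime]
    (hr1 : r ∈ Cfsg.tau1 M) (hRE : R ≤ E) (hR : Nat.card R = r)
    (hC : Cfsg.sigmaCore M ⊓ centralizer (R : Set G) ≠ ⊥) (hs2 : s ∈ Cfsg.tau2 M) (hYE : Y ≤ E)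
    (hY : Nat.card Y = s) (hYR : Y ≤ centralizer (R : Set G)) : False := by
  obtain ⟨A, hAE, hA, hA2⟩ := F.exists_elemAb_compl hM hs2 hE
  obtain ⟨⟨hEA, hAu⟩, -, hline⟩ := F.s10.compl_structure hM hE hs2 ⟨hAE, hA, hA2⟩
  have hfix := (F.s10.tauTwo_structure hM hs2 ⟨hAE.trans hE.1, hA, hA2⟩).2.2.2.1
  have hYA := hAu Y hYE hY
  obtain ⟨z, hzR, hz1⟩ := H41.exists_ne_one (ne_bot_of_prime_card (hR ▸ hr.out) : R ≠ ⊥)
  have hzg : zpowers z = R := zpowers_eq_of_prime_card (hR ▸ hr.out) hzR hz1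
  have hzo : orderOf z = r := by rw [← Nat.card_zpowers, hzg, hR]
  have hle : ∀ Z : Subgroup G, Z ≤ E → (Nat.card Z).Prime → Z ≤ centralizer (R : Set G) →
      Cfsg.sigmaCore M ⊓ centralizer (R : Set G) ≤ centralizer (Z : Set G) := fun Z hZE hZp hZR =>
    (F.tau1_fixed_le M hM E hE r hr1 R hRE hR Z (le_inf hZE hZR) hZp).trans inf_le_right
  have hX : Nat.card ↥(A ⊓ centralizer ({z} : Set G)) = s := by
    have hd : Nat.card ↥(A ⊓ centralizer ({z} : Set G)) ∣ s ^ 2 := hA2 ▸ card_dvd_of_le inf_le_left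
    obtain ⟨k, hk, he⟩ := (Nat.dvd_prime_pow hs.out).mp hd
    have hYX : Y ≤ A ⊓ centralizer ({z} : Set G) := le_inf hYA
      (hYR.trans (centralizer_le (Set.singleton_subset_iff.mpr hzR)))
    interval_cases k
    · exact absurd (le_bot_iff.mp (hYX.trans (eq_bot_of_card_eq _ (he.trans (pow_zero s))).le))
        (ne_bot_of_prime_card (hY ▸ hs.out))
    · rw [he, pow_one]
    · exfalso
      have hAC : A ≤ centralizer (R : Set G) := by
        have heq : A ⊓ centralizer ({z} : Set G) = A :=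
          eq_of_le_of_card_ge inf_le_left (by rw [he, hA2])
        rw [← hzg, centralizer_zpowers]
        exact heq.ge.trans inf_le_right
      refine hC (le_bot_iff.mp ((le_inf inf_le_left (le_centralizer_iff.mp ?_)).trans hfix.le))
      intro a ha
      rcases eq_or_ne a 1 with rfl | ha1
      · exact one_mem _
      have hao : orderOf a = s := orderOf_eq_prime (hA.2 a ha) ha1
      exact le_centralizer_iff.mp (hle (zpowers a) (zpowers_le.mpr (hAE ha))
        (by rw [Nat.card_zpowers, hao]; exact hs.out) (zpowers_le.mpr (hAC ha))) (mem_zpowers a)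
  have hYX : Y = A ⊓ centralizer ({z} : Set G) := eq_of_le_of_card_ge
    (le_inf hYA (hYR.trans (centralizer_le (Set.singleton_subset_iff.mpr hzR)))) (by rw [hX, hY])
  have hY0 : Cfsg.sigmaCore M ⊓ centralizer (Y : Set G) ≠ ⊥ := fun e => hC
    (le_bot_iff.mp ((le_inf inf_le_left (hle Y hYE (hY ▸ hs.out) hYR)).trans e.le))
  have hNY : normalizer (Y : Set G) ≤ M := le_of_unique
    (normalizer_ne_top' F.minSimple (ne_bot_of_prime_card (hY ▸ hs.out))
      (ne_top_of_le_coatom hM (hYE.trans hE.1)))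
    (hline Y hYA hY hY0).2 (H41.centralizer_le_normalizer Y)
  refine F.tau2_line hM hs2 (hAE.trans hE.1) hA hA2 (hEA (hRE hzR)) (hzo ▸ hr.out)
    (fun e => tau2_disjoint_tau1 hs2 ((e.symm.trans hzo) ▸ hr1)) hX ?_
  rw [← hYX]
  exact hNY

/-- BG 12.15 (e). -/
theorem embedding_tau2 {M X N : Subgroup G} (hM : IsCoatom M) {q : ℕ} [hq : Fact q.Prime]
    (hqM : q ∈ Cfsg.sigma M) (hXq : IsPGroup q X) (hX : X ≠ ⊥) (hXM : X ≤ M) (hN : IsCoatom N)
    (hne : N ≠ M) (hNX : normalizer (X : Set G) ≤ N) :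
    (∀ g : G, N ≠ cj g M) ∧ q ∈ Cfsg.tau2 N ∧
      Cfsg.IsComplIn (M ⊓ N) (Cfsg.sigmaCore N) N := by
  obtain ⟨hnc, S, hS, hXS, hSN, -⟩ := F.embedding hM hqM hXq hX hXM hN hne hNX
  have hqN := F.not_sigma_of_nonconj hM hN hnc hqM
  have h2 := F.tau2_of_not_sigma hM hN hqM hqN hX hXS hNX hSN
  exact ⟨hnc, h2, F.isComplIn_of_tau2 hM hN (Ne.symm hne) hqM h2 hSN (hS.1.trans inf_le_left)⟩

end Hyp

end Cfsg.Agent.OddOrder.BG13
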