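import Cfsg.Agent.OddOrder.BG13.Basic

/-!
# Further tools for BG §13
-/

set_option autoImplicit false

universe u

namespace Cfsg.Agent.OddOrder.BG13

open Subgroup H40 BG11
open scoped commutatorElement

variable {G : Type u} [Group G] [Finite G]

omit [Finite G] in
theorem le_normalizer_inf {R A B : Subgroup G} (hA : R ≤ normalizer (A : Set G))
    (hB : R ≤ normalizer (B : Set G)) : R ≤ normalizer ((A ⊓ B : Subgroup G) : Set G) :=
  fun r hr => cj_eq_iff.mp (by rw [cj_inf, cj_eq_iff.mpr (hA hr), cj_eq_iff.mpr (hB hr)])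

theorem le_normalizer_sigmaInf {M H R : Subgroup G} (hRM : R ≤ M) (hRH : R ≤ H) :
    R ≤ normalizer ((Cfsg.sigmaCore M ⊓ H : Subgroup G) : Set G) :=
  le_normalizer_inf (hRM.trans (le_normalizer_sigmaCore M)) (hRH.trans le_normalizer)

theorem not_dvd_of_le_sigmaCore {M U : Subgroup G} (hU : U ≤ Cfsg.sigmaCore M) {p : ℕ}
    (hp : p.Prime) (hs : p ∉ Cfsg.sigma M) : ¬ p ∣ Nat.card U := fun hd =>
  hs (sigmaCore_isPiNumber M p hp (hd.trans (card_dvd_of_le hU)))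

theorem relIndex_dvd_of_le_sup {N D L : Subgroup G} (hDL : D ≤ L)
    (hD : D ≤ normalizer (N : Set G)) (h : L ≤ N ⊔ D) : D.relIndex L ∣ Nat.card N := by
  have h1 := (card_dvd_of_le h).trans (card_sup_dvd hD)
  rw [← card_mul_relIndex hDL, mul_comm (Nat.card N)] at h1
  exact (Nat.mul_dvd_mul_iff_left Nat.card_pos).mp h1

theorem isSylowOf_of_not_dvd {p : ℕ} [Fact p.Prime] {S D L : Subgroup G} (hS : IsSylowOf p S D)
    (hDL : D ≤ L) (h : ¬ p ∣ D.relIndex L) : IsSylowOf p S L := by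
  refine ⟨hS.1.trans hDL, hS.2.1, ?_⟩
  have hne : D.relIndex L ≠ 0 := fun e => h (by rw [e]; exact dvd_zero p)
  rw [hS.2.2, ← card_mul_relIndex hDL, Nat.factorization_mul Nat.card_pos.ne' hne]
  simp [Nat.factorization_eq_zero_of_not_dvd h]

theorem exists_conj_le_of_not_dvd {p : ℕ} [Fact p.Prime] {A D L : Subgroup G}
    (hA : IsPGroup p A) (hAL : A ≤ L) (hDL : D ≤ L) (h : ¬ p ∣ D.relIndex L) :
    ∃ m ∈ L, cj m A ≤ D := by
  obtain ⟨S, hS⟩ := BG11.exists_sylowOf p D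
  obtain ⟨m, hm, hle⟩ := BG11.exists_conj_le (isSylowOf_of_not_dvd hS hDL h) hA hAL
  exact ⟨m, hm, hle.trans hS.1⟩

theorem exists_sylowOf_cj {p : ℕ} [Fact p.Prime] {M H S : Subgroup G}
    (hM : p ∈ Cfsg.sigma M) (hH : p ∈ Cfsg.sigma H) (hS : IsSylowOf p S H) :
    ∃ g : G, IsSylowOf p S (cj g M) := by
  obtain ⟨T, hT⟩ := BG11.exists_sylowOf p M
  obtain ⟨S₁, hS₁⟩ := Section10.sylow_top hH hS
  obtain ⟨T₁, hT₁⟩ := Section10.sylow_top hM hT
  obtain ⟨g, -, hg⟩ := BG11.exists_conj_eq (hS₁ ▸ isSylowOf_top S₁) (hT₁ ▸ isSylowOf_top T₁)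
  exact ⟨g, hg ▸ isSylowOf_cj hT g⟩

theorem exists_prime_sub {T : Subgroup G} {q : ℕ} [Fact q.Prime] (h : q ∣ Nat.card T) :
    ∃ Z ≤ T, Nat.card Z = q := by
  obtain ⟨x, hx⟩ := exists_prime_orderOf_dvd_card' (G := T) q h
  refine ⟨zpowers (x : G), zpowers_le.mpr x.2, ?_⟩
  rw [Nat.card_zpowers, Subgroup.orderOf_coe, hx]

/-- A Hall subgroup of a solvable subgroup over a given one. -/
theorem exists_hall_ge {π : Set ℕ} {U E : Subgroup G} (hs : Group.IsSolvable E) (hUE : U ≤ E)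
    (hU : ∀ q : ℕ, q.Prime → q ∣ Nat.card U → q ∈ π) :
    ∃ K : Subgroup G, Cfsg.IsPiHallOf π K E ∧ U ≤ K := by
  haveI := hs
  obtain ⟨K, hK, hUK⟩ := (Hall.hallDom_of_isSolvable π E).exists_le
    (U := U.subgroupOf E) (fun q hq hd =>
      hU q hq (hd.trans (dvd_of_eq (Nat.card_congr (subgroupOfEquivOfLe hUE).toEquiv))))
  exact ⟨K.map E.subtype, Coprime.isPiHallOf_iff.mpr ⟨map_subtype_le _, by
    rwa [subgroupOf, comap_map_eq_self_of_injective E.subtype_injective]⟩,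
    fun u hu => ⟨⟨u, hUE hu⟩, hUK hu, rfl⟩⟩

omit [Finite G] in
theorem le_sup_of_compl {M E N : Subgroup G} (hE : Cfsg.IsComplIn E N M) : M ≤ N ⊔ E :=
  fun x hx => by
    obtain ⟨a, ha, b, hb, rfl⟩ := hE.2.2.2 x hx
    exact mul_mem (mem_sup_right ha) (mem_sup_left hb)

/-- `E ∩ M' ≤ E'` for a complement `E` to `M_σ`. -/
theorem inf_derived_le {M E : Subgroup G} (hE : Cfsg.IsComplIn E (Cfsg.sigmaCore M) M) :
    E ⊓ ⁅M, M⁆ ≤ ⁅E, E⁆ := by
  intro x hx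
  have h1 := derived_le_sup (sigmaCore_le M) (le_normalizer_sigmaCore M) hE.1 (le_sup_of_compl hE) hx.2
  obtain ⟨s, hs, e, he, rfl⟩ := (Coprime.mem_sup_iff
    (((derived_le E).trans hE.1).trans (le_normalizer_sigmaCore M))).mp h1
  have hsE : s ∈ E ⊓ Cfsg.sigmaCore M :=
    ⟨by simpa using E.mul_mem hx.1 (E.inv_mem (derived_le E he)), hs⟩
  rw [hE.2.2.1, mem_bot] at hsE
  rw [hsE, one_mul]
  exact he

theorem compl_le_normalizer_sigmaCore {M E : Subgroup G}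
    (hE : Cfsg.IsComplIn E (Cfsg.sigmaCore M) M) :
    E ≤ normalizer (Cfsg.sigmaCore M : Set G) :=
  hE.1.trans (le_normalizer_sigmaCore M)

namespace HypCore

variable (F : HypCore G)
include F

theorem compl_coprime {M E : Subgroup G} (hM : IsCoatom M)
    (hE : Cfsg.IsComplIn E (Cfsg.sigmaCore M) M) :
    (Nat.card E).Coprime (Nat.card (Cfsg.sigmaCore M)) := by
  refine Nat.coprime_of_dvd fun q hq h1 h2 => ?_
  exact not_mem_sigma_of_dvd_compl (F.s10.sigmaCore_hall M hM).1 hE hq h1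
    (sigmaCore_isPiNumber M q hq h2)

/-- An elementary subgroup of order `p ^ 2`, `p ∈ τ₂(M)`, inside a given complement. -/
theorem exists_elemAb_compl {M E : Subgroup G} (hM : IsCoatom M) {p : ℕ} [Fact p.Prime]
    (hp : p ∈ Cfsg.tau2 M) (hE : Cfsg.IsComplIn E (Cfsg.sigmaCore M) M) :
    ∃ A : Subgroup G, A ≤ E ∧ Cfsg.IsElementaryAbelian p A ∧ Nat.card A = p ^ 2 := by
  obtain ⟨B, hBM, hB, hB2⟩ := exists_elemAb_sq hp.2.2.2
  obtain ⟨E', hE', hBE'⟩ := F.s10.exists_compl_ge hM hBM fun q hq hd =>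
    prime_of_dvd_pGroup (elemAb_isPGroup hB) hq hd ▸ hp.2.1
  have hH := (F.s10.sigmaCore_hall M hM).1
  obtain ⟨m, hm, e⟩ := Coprime.exists_conj_hallOf (F.s10.isSolvable_max hM)
    (compl_isPiHallOf hH hE') (compl_isPiHallOf hH hE)
  exact ⟨cj m B, (cj_mono m hBE').trans e.le, elemAb_cj hB m, (card_cj m B).trans hB2⟩

/-- The `τ₃(M)`-subgroups of a complement lie in a normal cyclic subgroup inside `E'`. -/
theorem tau3_le {M E U : Subgroup G} (hM : IsCoatom M)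
    (hE : Cfsg.IsComplIn E (Cfsg.sigmaCore M) M) (hUE : U ≤ E)
    (hU : ∀ q : ℕ, q.Prime → q ∣ Nat.card U → q ∈ Cfsg.tau3 M) :
    IsCyclic U ∧ U ≤ ⁅E, E⁆ ∧ E ≤ normalizer (U : Set G) := by
  obtain ⟨E₃, hE₃, hUK⟩ := exists_hall_ge (F.isSolvable_le hM hE.1) hUE hU
  obtain ⟨hc, hle, hn⟩ := (F.tau13_structure M hM E hE).2.2 E₃ hE₃
  exact ⟨isCyclic_mono hUK hc, hUK.trans hle, hn.trans (normalizer_le_of_cyclic hc hUK)⟩

/-- `τ₁(M)`-subgroups of a complement are cyclic. -/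
theorem tau1_cyclic {M E U : Subgroup G} (hM : IsCoatom M)
    (hE : Cfsg.IsComplIn E (Cfsg.sigmaCore M) M) (hUE : U ≤ E)
    (hU : ∀ q : ℕ, q.Prime → q ∣ Nat.card U → q ∈ Cfsg.tau1 M) : IsCyclic U := by
  obtain ⟨E₁, hE₁, hUK⟩ := exists_hall_ge (F.isSolvable_le hM hE.1) hUE hU
  exact isCyclic_mono hUK ((F.tau13_structure M hM E hE).2.1 E₁ hE₁)

theorem le_derived_of_tau3 {M U : Subgroup G} (hM : IsCoatom M) (hUM : U ≤ M)
    (hU : ∀ q : ℕ, q.Prime → q ∣ Nat.card U → q ∈ Cfsg.tau3 M) : U ≤ ⁅M, M⁆ := by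
  obtain ⟨E, hE, hUE⟩ := F.s10.exists_compl_ge hM hUM fun q hq hd => (hU q hq hd).2.1
  exact (F.tau3_le hM hE hUE hU).2.1.trans (commutator_mono hE.1 hE.1)

theorem pGroup_le_derived {M P : Subgroup G} (hM : IsCoatom M) {p : ℕ} [Fact p.Prime]
    (hP : IsPGroup p P) (hPM : P ≤ M) (h : p ∈ Cfsg.sigma M ∪ Cfsg.tau3 M) : P ≤ ⁅M, M⁆ := by
  rcases h with h | h
  · exact F.le_derived_of_sigma hM hPM fun q hq hd => prime_of_dvd_pGroup hP hq hd ▸ h
  · exact F.le_derived_of_tau3 hM hPM fun q hq hd => prime_of_dvd_pGroup hP hq hd ▸ h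

/-- A Sylow `p`-subgroup of `H_σ`, `p ∉ β(H)`, is not in `(H_σ)'`. -/
theorem sylow_not_le_derived {H S : Subgroup G} (hH : IsCoatom H) {p : ℕ} [hp : Fact p.Prime]
    (hpH : p ∈ Cfsg.sigma H) (hb : p ∉ Cfsg.beta H)
    (hS : IsSylowOf p S (Cfsg.sigmaCore H)) :
    ¬ S ≤ ⁅Cfsg.sigmaCore H, Cfsg.sigmaCore H⁆ := by
  intro hle
  set X := Cfsg.sigmaCore H with hX
  obtain ⟨Q, N, hN, hc⟩ := ((F.s10.betaCore_spec H hH).2.2.2.2 p hp.out hpH.2.1 hb).2.1
  haveI := hN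
  set Q' := (Q : Subgroup X).map X.subtype with hQ'def
  set N' := N.map X.subtype
  have hQ' : IsSylowOf p Q' X := isSylowOf_map Q
  have hNn : X ≤ normalizer (N' : Set G) := Components.le_normalizer_map_subtype _
  have hsup : X ≤ N' ⊔ Q' := by
    rw [← Subgroup.map_sup, hc.sup_eq_top, ← MonoidHom.range_eq_map, range_subtype]
  have h1 := derived_le_sup (map_subtype_le N) hNn (map_subtype_le _) hsup
  have h2 := ((card_dvd_of_le (hle.trans h1)).trans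
    (card_sup_dvd ((derived_le _).trans ((map_subtype_le _).trans hNn))))
  have hS0 : S ≠ ⊥ := sylowOf_ne_bot hS (F.s10.dvd_sigmaCore hH hpH)
  have hcop : (Nat.card S).Coprime (Nat.card N') := by
    refine coprime_card_of_isPGroup hS.2.1 fun hd => ?_
    rw [card_map_of_injective X.subtype_injective, ← hc.index_eq_card] at hd
    exact Q.not_dvd_index hd
  have h3 := Nat.le_of_dvd Nat.card_pos (hcop.dvd_of_dvd_mul_left h2)
  have hQ0 : Q' ≠ ⊥ := sylowOf_ne_bot hQ' (F.s10.dvd_sigmaCore hH hpH)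
  have hlt := Coprime.commutator_lt_of_isPGroup hQ'.2.1 hQ'.2.1 le_normalizer hQ0
  have h4 : Nat.card ↥⁅Q', Q'⁆ < Nat.card Q' :=
    lt_of_le_of_ne (card_le_of_le hlt.le) fun e => hlt.ne (eq_of_le_of_card_ge hlt.le e.ge)
  rw [hS.2.2, ← hQ'.2.2] at h3
  exact absurd (h3.trans_lt h4) (lt_irrefl _)

end HypCore

end Cfsg.Agent.OddOrder.BG13
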